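import Cfsg.Agent.Lib.AutPSU.Kernel
import Cfsg.Agent.Lib.AutPSL.FieldGalois
import Cfsg.Agent.Lib.AutPSL.Split
import Cfsg.Agent.Lib.UnitaryEmbed.HermSpace

/-!
The coset `PGU_n(q) · σ` of a field automorphism of odd order, and the centralizer of `σ` in
`PGU_n(q)`.
-/

set_option autoImplicit false
set_option linter.unusedSectionVars false

namespace CfsgLib.AutPSU

open Matrix Cfsg CfsgLib.ClassicalGroups CfsgLib.FieldGalois

variable {n : ℕ} {F : Type*} [Field F] [Fintype F] {q q0 : ℕ}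

/-- `g σ(g) ⋯ σ^{k-1}(g)` for unitary matrices. -/
def gcocy (σ : F ≃+* F) (g : GUG n F q) : ℕ → GUG n F q
  | 0 => 1
  | k + 1 => g * guField σ (gcocy σ g k)

theorem gcocy_coe (σ : F ≃+* F) (g : GUG n F q) (k : ℕ) :
    (gcocy σ g k).1 = cocy σ g.1 k := by
  induction k with
  | zero => rfl
  | succ k ih =>
    show g.1 * Matrix.GeneralLinearGroup.map σ.toRingHom (gcocy σ g k).1 = _
    rw [ih]; rfl

theorem conjU_fieldU_pow (σ : F ≃+* F) (g : GUG n F q) (k : ℕ) :
    (conjU g * fieldU σ) ^ k = conjU (gcocy σ g k) * fieldU (σ ^ k) := by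
  induction k with
  | zero => simp [gcocy]
  | succ k ih =>
    rw [pow_succ' (conjU g * fieldU σ), ih, gcocy, map_mul, pow_succ' σ, map_mul fieldU]
    calc conjU g * fieldU σ * (conjU (gcocy σ g k) * fieldU (σ ^ k))
        = conjU g * (fieldU σ * conjU (gcocy σ g k)) * fieldU (σ ^ k) := by group
      _ = _ := by rw [fieldU_mul_conjU]; simp only [mul_assoc]

theorem gl_scalar_mul_coe (x : Fˣ) (g : GL (Fin n) F) :
    ((Matrix.GeneralLinearGroup.scalar (Fin n) x * g : GL (Fin n) F) : Mat n F) =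
      (x : F) • (g : Mat n F) := by
  ext i j; simp [Matrix.scalar_apply, Matrix.diagonal_mul]

theorem scalar_cocy_fixed (hn : 1 ≤ n) {σ : F ≃+* F} {g : GL (Fin n) F} {c : Fˣ}
    (h : cocy σ g (orderOf σ) = Matrix.GeneralLinearGroup.scalar (Fin n) c) :
    σ (c : F) = c := by
  have hT : ∀ v, (semi σ g)^[orderOf σ] v = (c : F) • v := fun v => by
    rw [semi_iterate, h, pow_orderOf_eq_one, scalar_mulVec]
    rfl
  set v : Vec n F := Pi.single ⟨0, hn⟩ 1 with hv
  have e : (semi σ g)^[orderOf σ + 1] v = semi σ g ((semi σ g)^[orderOf σ] v) :=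
    Function.iterate_succ_apply' _ _ _
  rw [Function.iterate_succ_apply, hT, hT, semi_smul] at e
  have hne : semi σ g v ≠ 0 := by
    intro e0
    have h1 := congrArg (((g⁻¹ : GL (Fin n) F) : Mat n F) *ᵥ ·) e0
    simp only [semi, gl_inv_mulVec, mulVec_zero] at h1
    have h2 := congrFun h1 ⟨0, hn⟩
    simp [hv] at h2
  exact (smul_left_injective F hne e).symm

theorem cocy_smul_val (σ : F ≃+* F) (x : Fˣ) (g : GL (Fin n) F) (k : ℕ) :
    (cocy σ (Matrix.GeneralLinearGroup.scalar (Fin n) x * g) k : Mat n F) =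
      (∏ i ∈ Finset.range k, (σ ^ i) (x : F)) • (cocy σ g k : Mat n F) := by
  induction k with
  | zero => simp [cocy]
  | succ k ih =>
    show (Matrix.GeneralLinearGroup.scalar (Fin n) x * g : GL _ F).val *
      (cocy σ (Matrix.GeneralLinearGroup.scalar (Fin n) x * g) k : Mat n F).map σ =
      _ • ((g : Mat n F) * (cocy σ g k : Mat n F).map σ)
    rw [ih, Finset.prod_range_succ' _ k, gl_scalar_mul_coe]
    have e2 : ((∏ i ∈ Finset.range k, (σ ^ i) (x : F)) • (cocy σ g k : Mat n F)).map σ =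
        (∏ i ∈ Finset.range k, (σ ^ (i + 1)) (x : F)) • (cocy σ g k : Mat n F).map σ := by
      ext i j; simp [map_prod, pow_succ', RingAut.mul_apply]
    rw [e2, Matrix.smul_mul, Matrix.mul_smul, smul_smul]
    congr 1
    simp [mul_comm]

theorem map_mulVec_fixed (σ : F ≃+* F) (M : Mat n F) (v : Vec n F) (hv : σ ∘ v = v) :
    σ ∘ (M *ᵥ v) = M.map σ *ᵥ v := by
  conv_rhs => rw [← hv]
  exact (map_mulVec σ M v).symm

theorem sigma_comp_single (σ : F ≃+* F) (j : Fin n) :
    σ ∘ (Pi.single j 1 : Vec n F) = Pi.single j 1 := by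
  funext k; simp [Pi.single_apply, apply_ite σ]

variable (hF : Fintype.card F = q ^ 2)

include hF

theorem natCard_fixed (σ : F ≃+* F) (hq0 : q = q0 ^ orderOf σ) :
    Nat.card (fixedSub σ) = q0 ^ 2 := by
  have h := natCard_fixedSub σ
  rw [Nat.card_eq_fintype_card, hF, hq0, ← pow_mul, mul_comm, pow_mul] at h
  exact Nat.pow_left_injective (orderOf_pos σ).ne' h.symm

theorem fixed_pow {σ : F ≃+* F} (hodd : Odd (orderOf σ)) (hq0 : q = q0 ^ orderOf σ) {x : F}
    (hx : σ x = x) : x ^ q = x ^ q0 := by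
  obtain ⟨k, hk⟩ := hodd
  have : Fintype (fixedSub σ) := Fintype.ofFinite _
  have hc : Fintype.card (fixedSub σ) = q0 ^ 2 := by
    rw [← Nat.card_eq_fintype_card, natCard_fixed hF σ hq0]
  have h1 : x ^ ((q0 ^ 2) ^ k) = x := by
    have := congrArg Subtype.val (FiniteField.pow_card_pow k (⟨x, hx⟩ : fixedSub σ))
    simpa [hc] using this
  rw [hq0, hk, pow_succ, pow_mul, pow_mul, h1]

/-- Lang's theorem for `GU`. -/
theorem lang_gu {σ : F ≃+* F} (hodd : Odd (orderOf σ)) (hq0 : q = q0 ^ orderOf σ) (g : GUG n F q)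
    (hg : gcocy σ g (orderOf σ) = 1) : ∃ k : GUG n F q, g * guField σ k = k := by
  classical
  obtain ⟨h, hh'⟩ := exists_of_cocy_eq_one σ g.1 (by rw [← gcocy_coe, hg]; rfl)
  have hgh : ∀ v : Vec n F, (g.1 : Mat n F) *ᵥ ((h : Mat n F).map σ *ᵥ v) = (h : Mat n F) *ᵥ v := by
    intro v
    rw [mulVec_mulVec]
    exact congrArg (fun A : GL _ F => (A : Mat n F) *ᵥ v) hh'
  set K := fixedSub σ
  have : Fintype K := Fintype.ofFinite _
  have hK : Fintype.card K = q0 ^ 2 := by
    rw [← Nat.card_eq_fintype_card, natCard_fixed hF σ hq0]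
  have hτK : ∀ a : K, ((hermConj hK a : K) : F) = (a : F) ^ q := fun a => by
    rw [hermConj_apply, SubmonoidClass.coe_pow, fixed_pow hF hodd hq0 a.2]
  let inc : (Fin n → K) → Vec n F := fun u i => (u i : F)
  have hinc : ∀ u, σ ∘ inc u = inc u := fun u => funext fun i => (u i).2
  set f : (Fin n → K) → (Fin n → K) → F := fun u v =>
    hh q ((h : Mat n F) *ᵥ inc v) ((h : Mat n F) *ᵥ inc u) with hf
  have hfix : ∀ u v, σ (f u v) = f u v := by
    intro u v
    simp only [hf]
    rw [h_map, map_mulVec_fixed σ _ _ (hinc u), map_mulVec_fixed σ _ _ (hinc v)]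
    conv_rhs => rw [← hgh, ← hgh (inc u)]
    exact (h_gu g _ _).symm
  let B : (Fin n → K) →ₛₗ[hermConj hK] (Fin n → K) →ₗ[K] K :=
    LinearMap.mk₂'ₛₗ (hermConj hK) (RingHom.id K) (fun u v => (⟨f u v, hfix u v⟩ : K))
      (fun u u' v => Subtype.ext (by
        show f (u + u') v = f u v + f u' v
        simp only [hf]
        rw [show inc (u + u') = inc u + inc u' from rfl, mulVec_add, h_add_right hF]))
      (fun a u v => Subtype.ext (by
        show f (a • u) v = ((hermConj hK a : K) : F) * f u v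
        simp only [hf]
        rw [show inc (a • u) = (a : F) • inc u from rfl, mulVec_smul, h_smul_right hF, tau_apply,
          hτK]))
      (fun u v v' => Subtype.ext (by
        show f u (v + v') = f u v + f u v'
        simp only [hf]
        rw [show inc (v + v') = inc v + inc v' from rfl, mulVec_add, h_add_left]))
      (fun a u v => Subtype.ext (by
        show f u (a • v) = (a : F) * f u v
        simp only [hf]
        rw [show inc (a • v) = (a : F) • inc v from rfl, mulVec_smul, h_smul_left]))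
  have hS : ∀ u v, hermConj hK (B u v) = B v u := by
    intro u v
    apply Subtype.ext
    rw [hτK]
    show f u v ^ q = f v u
    rw [← tau_apply hF, hf, h_tau]
  have hB : B.SeparatingLeft := by
    intro u hu
    have h1 : ∀ x : Vec n F,
        hh q ((h : Mat n F) *ᵥ x) ((h : Mat n F) *ᵥ inc u) = 0 := by
      intro x
      rw [← Finset.univ_sum_single x, mulVec_sum]
      induction (Finset.univ : Finset (Fin n)) using Finset.induction with
      | empty => simp [h_zero_left]
      | insert j s hj ih =>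
        rw [Finset.sum_insert hj, h_add_left, ih, add_zero,
          show (Pi.single j (x j) : Vec n F) = x j • Pi.single j 1 by
            rw [← Pi.single_smul', smul_eq_mul, mul_one], mulVec_smul, h_smul_left]
        have h2 : f u (Pi.single j 1) = 0 := congrArg Subtype.val (hu (Pi.single j 1))
        simp only [hf] at h2
        rw [show inc (Pi.single j 1) = Pi.single j 1 by
          funext k; by_cases hk : k = j <;> simp [inc, hk]] at h2
        rw [h2, mul_zero]
    have h3 : (h : Mat n F) *ᵥ inc u = 0 := by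
      apply eq_zero_of_h_eq_zero hF
      intro x
      have := h1 (((h⁻¹ : GL _ F) : Mat n F) *ᵥ x)
      rwa [gl_mulVec_inv] at this
    funext i
    have := congrFun (congrArg (((h⁻¹ : GL _ F) : Mat n F) *ᵥ ·) h3) i
    simp only [gl_inv_mulVec, mulVec_zero] at this
    exact Subtype.ext this
  obtain ⟨b, hb⟩ := CfsgLib.UnitaryEmbed.exists_orthonormal_herm hK (hermConj hK)
    (hermConj_apply hK) (fun e => by
      obtain ⟨a, ha⟩ := tau_ne hK
      exact ha (DFunLike.congr_fun e a))
    (hermConj_conj hK) n B hS hB (by simp)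
  let col : Fin n → Vec n F := fun j => (h : Mat n F) *ᵥ inc (b j)
  let L : Vec n F →ₗ[F] Vec n F := Fintype.linearCombination F col
  have hcol : ∀ i j, hh q (col i) (col j) = if i = j then 1 else 0 := by
    intro i j
    have := congrArg Subtype.val (hb j i)
    rw [show hh q (col i) (col j) = f (b j) (b i) from rfl]
    refine this.trans ?_
    by_cases hij : i = j
    · simp [hij]
    · rw [if_neg hij, if_neg (Ne.symm hij)]; rfl
  have hL : ∀ u v, hh q (L u) (L v) = hh q u v := by
    intro u v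
    have key : ∀ (w : Vec n F) i, hh q (col i) (L w) = tau hF (w i) := by
      intro w i
      have e : ∀ (s : Finset (Fin n)),
          hh q (col i) (∑ j ∈ s, w j • col j) = ∑ j ∈ s, tau hF (w j) * hh q (col i) (col j) := by
        intro s
        induction s using Finset.induction with
        | empty => simp [h_zero_right hF]
        | insert j s hj ih => rw [Finset.sum_insert hj, Finset.sum_insert hj, h_add_right hF,
            h_smul_right hF, ih]
      rw [Fintype.linearCombination_apply, e]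
      simp [hcol]
    have e : ∀ (s : Finset (Fin n)),
        hh q (∑ i ∈ s, u i • col i) (L v) = ∑ i ∈ s, u i * hh q (col i) (L v) := by
      intro s
      induction s using Finset.induction with
      | empty => simp [h_zero_left]
      | insert j s hj ih => rw [Finset.sum_insert hj, Finset.sum_insert hj, h_add_left,
          h_smul_left, ih]
    rw [Fintype.linearCombination_apply, e]
    simp only [key]
    rfl
  obtain ⟨k, hk⟩ := exists_GU_of_preserving hF L hL
  refine ⟨k, GU_ext_single fun j => ?_⟩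
  have hkj : (k.1 : Mat n F) *ᵥ Pi.single j 1 = col j := by
    rw [hk, Fintype.linearCombination_apply_single, one_smul]
  rw [Subgroup.coe_mul, Units.val_mul, ← mulVec_mulVec, guField_coe,
    ← map_mulVec_fixed σ _ _ (sigma_comp_single σ j), hkj]
  show _ *ᵥ (σ ∘ ((h : Mat n F) *ᵥ inc (b j))) = _
  rw [map_mulVec_fixed σ _ _ (hinc (b j)), hgh]
where
  GU_ext_single {a b : GUG n F q}
      (H : ∀ j, (a.1 : Mat n F) *ᵥ Pi.single j 1 = (b.1 : Mat n F) *ᵥ Pi.single j 1) : a = b :=
    Subtype.ext (Units.ext (Matrix.ext_of_mulVec_single H))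

/-- A fixed norm-one unit is the norm of a norm-one unit. -/
theorem exists_normOne_norm_eq {σ : F ≃+* F} (hodd : Odd (orderOf σ)) (c : normOne F q)
    (hc : σ ((c : Fˣ) : F) = ((c : Fˣ) : F)) : ∃ x : normOne F q, normU σ (x : Fˣ) = (c : Fˣ) := by
  obtain ⟨k, hk⟩ := hodd
  obtain ⟨x0, hx0⟩ := exists_norm_eq σ hc
  have hc1 : (c : Fˣ) ^ (q + 1) = 1 := c.2
  have hcard : x0 ^ (q * q) = x0 := Units.ext (by
    rw [Units.val_pow_eq_pow_val, ← pow_two, ← hF, FiniteField.pow_card])
  have hz : x0 / x0 ^ q ∈ normOne F q := by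
    rw [mem_normOne, div_pow, ← pow_mul, mul_add, mul_one, pow_add, pow_add, hcard, pow_one,
      mul_comm x0 (x0 ^ q), div_self']
  have hNz : normU σ (x0 / x0 ^ q) = (c : Fˣ) ^ 2 := by
    rw [map_div, map_pow, hx0, div_eq_iff_eq_mul, ← pow_add, add_comm 2 q,
      show q + 2 = q + 1 + 1 by ring, pow_succ, hc1, one_mul]
  refine ⟨c * (⟨_, hz⟩ ^ k)⁻¹, ?_⟩
  have hNc : normU σ (c : Fˣ) = (c : Fˣ) ^ orderOf σ := by
    have hfix : ∀ i : ℕ, Units.map (σ ^ i).toMonoidHom (c : Fˣ) = (c : Fˣ) := fun i =>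
      Units.ext (pow_fix hc i)
    rw [normU_apply, Finset.prod_congr rfl (fun (i : Fin (orderOf σ)) _ => hfix i), Finset.prod_const,
      Finset.card_fin]
  rw [Subgroup.coe_mul, Subgroup.coe_inv, Subgroup.coe_pow, map_mul, map_inv, map_pow, hNz, hNc,
    hk, pow_succ, pow_mul, mul_right_comm, mul_inv_cancel, one_mul]

/-- Elements of order dividing `orderOf σ` in the coset of a field automorphism of odd order. -/
theorem conj_of_pow_eq_one {m : ℕ} (hm : 1 ≤ m) {σ : F ≃+* F} (hodd : Odd (orderOf σ))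
    (hq0 : q = q0 ^ orderOf σ) (g : GUG (m + 2) F q)
    (h : (conjU g * fieldU σ) ^ orderOf σ = 1) :
    ∃ k : GUG (m + 2) F q, conjU g * fieldU σ = conjU k * fieldU σ * (conjU k)⁻¹ := by
  rw [conjU_fieldU_pow, pow_orderOf_eq_one, map_one, mul_one] at h
  obtain ⟨c, hc⟩ := eq_scalar_of_conjU_eq_one hF hm h
  have hc' : cocy σ g.1 (orderOf σ) = Matrix.GeneralLinearGroup.scalar (Fin (m + 2)) (c : Fˣ) := by
    rw [← gcocy_coe, hc, scalarU_coe]
  have hfix := scalar_cocy_fixed (by omega) hc'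
  obtain ⟨x, hx⟩ := exists_normOne_norm_eq hF hodd c⁻¹
    (by rw [Subgroup.coe_inv, Units.val_inv_eq_inv_val, map_inv₀, hfix])
  set g' := scalarU hF x * g with hg'
  have hg'1 : gcocy σ g' (orderOf σ) = 1 := by
    apply Subtype.ext; apply Units.ext
    rw [gcocy_coe, hg', Subgroup.coe_mul, scalarU_coe, cocy_smul_val, hc',
      ← Fin.prod_univ_eq_prod_range, ← normU_val, hx]
    ext i j
    simp [Matrix.scalar_apply, Matrix.diagonal_apply, Matrix.one_apply]
  obtain ⟨k, hk⟩ := lang_gu hF hodd hq0 g' hg'1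
  refine ⟨k, ?_⟩
  have e : conjU g = conjU g' := by rw [hg', map_mul, conjU_scalar, one_mul]
  have hgk : g' = k * (guField σ k)⁻¹ := eq_mul_inv_of_mul_eq hk
  rw [e, hgk, map_mul, map_inv, mul_assoc (conjU k) (fieldU σ), ← map_inv conjU k,
    fieldU_mul_conjU, map_inv, map_inv]
  group

/-- A unitary matrix fixed up to a scalar has a norm-one multiple fixed by `σ`. -/
theorem exists_fixed_of_map_eq (hn : 1 ≤ n) {σ : F ≃+* F} (hodd : Odd (orderOf σ))
    (hq0 : q = q0 ^ orderOf σ) (g : GUG n F q) {c : F}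
    (hg : (g.1 : Mat n F).map σ = c • (g.1 : Mat n F)) :
    ∃ y : normOne F q, guField σ (scalarU hF y * g) = scalarU hF y * g := by
  classical
  set e0 : Vec n F := Pi.single ⟨0, hn⟩ 1
  have hcn : c * c ^ q = 1 := by
    have he : hh q e0 e0 = 1 := by simp [e0, hermForm_single_right hF n]
    have e1 : hh q (((guField σ g).1 : Mat n F) *ᵥ e0) (((guField σ g).1 : Mat n F) *ᵥ e0) = 1 := by
      rw [h_gu, he]
    rw [guField_coe, hg, smul_mulVec, h_smul_left, h_smul_right hF, h_gu, he, mul_one,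
      tau_apply] at e1
    exact e1
  have hc0 : c ≠ 0 := fun e => by rw [e, zero_mul] at hcn; exact zero_ne_one hcn
  set cu : Fˣ := Units.mk0 c hc0 with hcu
  have hk : ∀ k : ℕ, ∀ i j, (σ ^ k) ((g.1 : Mat n F) i j) =
      (∏ l ∈ Finset.range k, (σ ^ l) c) * (g.1 : Mat n F) i j := by
    intro k
    induction k with
    | zero => simp
    | succ k ih =>
      intro i j
      have e : σ ((g.1 : Mat n F) i j) = c * (g.1 : Mat n F) i j := congrFun (congrFun hg i) j
      rw [pow_succ, RingAut.mul_apply, e, map_mul, ih, Finset.prod_range_succ]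
      ring
  have hN : normU σ cu = 1 := by
    obtain ⟨i, hi⟩ : ∃ i, (g.1 : Mat n F) i ⟨0, hn⟩ ≠ 0 := by
      by_contra hall
      push Not at hall
      have h0 : (g.1 : Mat n F) *ᵥ e0 = 0 := by
        rw [Matrix.mulVec_single_one]; funext i; exact hall i
      have := congrFun (congrArg (((g.1⁻¹ : GL _ F) : Mat n F) *ᵥ ·) h0) ⟨0, hn⟩
      simp only [gl_inv_mulVec, mulVec_zero] at this
      simp [e0] at this
    have h1 := hk (orderOf σ) i ⟨0, hn⟩
    rw [pow_orderOf_eq_one, ← Fin.prod_univ_eq_prod_range] at h1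
    apply Units.ext
    rw [normU_val, Units.val_one]
    exact mul_right_cancel₀ hi (h1.symm.trans (by rw [one_mul]; rfl))
  obtain ⟨y0, hy0⟩ := hilbert90 σ hN
  have hy : c * σ (y0 : F) = y0 := congrArg Units.val hy0
  set ν : F := (y0 : F) ^ (q + 1) with hν
  have hν0 : ν ≠ 0 := pow_ne_zero _ y0.ne_zero
  have hνσ : σ ν = ν := by
    rw [hν, map_pow]
    conv_rhs => rw [← hy, mul_pow, pow_succ' c, hcn, one_mul]
  have hνq : ν ^ q0 = ν := by
    rw [← fixed_pow hF hodd hq0 hνσ, hν, ← pow_mul, add_one_mul, ← pow_two, pow_add, ← hF,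
      FiniteField.pow_card, pow_succ (y0 : F) q, mul_comm]
  set K := fixedSub σ
  have : Fintype K := Fintype.ofFinite _
  have hK : Fintype.card K = q0 ^ 2 := by
    rw [← Nat.card_eq_fintype_card, natCard_fixed hF σ hq0]
  obtain ⟨s, hs0, hs⟩ := CfsgLib.ClassicalGroups.exists_norm_eq hK
    (c := (⟨ν, hνσ⟩ : K)⁻¹) (Subtype.ext (by
      rw [SubmonoidClass.coe_pow]
      show ν⁻¹ ^ q0 = ν⁻¹
      rw [inv_pow, hνq]))
    (inv_ne_zero fun e => hν0 (congrArg Subtype.val e))
  have hs' : (s : F) ^ (q + 1) = ν⁻¹ := by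
    rw [pow_succ, fixed_pow hF hodd hq0 s.2, ← pow_succ]
    exact congrArg Subtype.val hs
  have hy' : (y0 : F) * (s : F) ≠ 0 := mul_ne_zero y0.ne_zero fun e => hs0 (Subtype.ext e)
  refine ⟨⟨Units.mk0 _ hy', ?_⟩, ?_⟩
  · rw [mem_normOne]
    apply Units.ext
    rw [Units.val_pow_eq_pow_val, Units.val_mk0, mul_pow, ← hν, hs', mul_inv_cancel₀ hν0,
      Units.val_one]
  · have hsσ : σ (s : F) = s := s.2
    apply Subtype.ext; apply Units.ext
    rw [guField_coe, Subgroup.coe_mul, scalarU_coe, gl_scalar_mul_coe]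
    ext i j
    have e : σ ((g.1 : Mat n F) i j) = c * (g.1 : Mat n F) i j := congrFun (congrFun hg i) j
    simp only [Matrix.map_apply, Matrix.smul_apply, smul_eq_mul, Units.val_mk0, map_mul, e, hsσ]
    linear_combination (s : F) * (g.1 : Mat n F) i j * hy

theorem guField_scalar (σ : F ≃+* F) (u : normOne F q) (hu : σ ((u : Fˣ) : F) = ((u : Fˣ) : F)) :
    guField σ (scalarU hF u : GUG n F q) = scalarU hF u := by
  apply Subtype.ext; apply Units.ext
  rw [guField_coe, scalarU_coe]
  ext i j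
  simp [Matrix.scalar_apply, Matrix.diagonal_apply, apply_ite σ, hu]

theorem map_eq_smul_of_guField (σ : F ≃+* F) {g : GUG n F q} {u : normOne F q}
    (h : guField σ g = g * scalarU hF u) :
    (g.1 : Mat n F).map σ = ((u : Fˣ) : F) • (g.1 : Mat n F) := by
  rw [← guField_coe σ g, h, Subgroup.coe_mul, scalarU_coe]
  ext i j
  simp [Matrix.scalar_apply, Matrix.mul_diagonal, mul_comm]

theorem commute_field_iff {m : ℕ} (hm : 1 ≤ m) (σ : F ≃+* F) (g : GUG (m + 2) F q) :
    conjU g ∈ Subgroup.centralizer {fieldU (n := m + 2) (q := q) σ} ↔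
      ∃ u : normOne F q, guField σ g = g * scalarU hF u := by
  rw [Subgroup.mem_centralizer_singleton_iff, fieldU_mul_conjU, mul_left_inj, conjU_eq_iff hF hm]

theorem exists_fixed_of_commute {m : ℕ} (hm : 1 ≤ m) {σ : F ≃+* F} (hodd : Odd (orderOf σ))
    (hq0 : q = q0 ^ orderOf σ) (g : GUG (m + 2) F q)
    (h : conjU g ∈ Subgroup.centralizer {fieldU (n := m + 2) (q := q) σ}) :
    ∃ y : normOne F q, guField σ (scalarU hF y * g) = scalarU hF y * g := by
  obtain ⟨u, hu⟩ := (commute_field_iff hF hm σ g).mp h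
  exact exists_fixed_of_map_eq hF (by omega) hodd hq0 g (map_eq_smul_of_guField hF σ hu)

/-- The norm-one units fixed by `σ`. -/
abbrev fixedNormOne (q : ℕ) (σ : F ≃+* F) : Subgroup (normOne F q) :=
  (fixedUnits σ).subgroupOf (normOne F q)

theorem card_fixedNormOne {σ : F ≃+* F} (hodd : Odd (orderOf σ)) (hq0 : q = q0 ^ orderOf σ) :
    Nat.card (fixedNormOne q σ) = q0 + 1 := by
  set K := fixedSub σ
  have : Fintype K := Fintype.ofFinite _
  have hK : Fintype.card K = q0 ^ 2 := by
    rw [← Nat.card_eq_fintype_card, natCard_fixed hF σ hq0]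
  rw [← card_norm_one_units hK]
  let e : fixedNormOne q σ ≃ (powMonoidHom (q0 + 1) : Kˣ →* Kˣ).ker :=
    { toFun := fun u => ⟨Units.mk0 ⟨((u.1 : Fˣ) : F), mem_fixedUnits.mp u.2⟩
          (fun h => (u.1 : Fˣ).ne_zero (congrArg Subtype.val h)), by
        have hu : σ ((u.1 : Fˣ) : F) = ((u.1 : Fˣ) : F) := mem_fixedUnits.mp u.2
        apply Units.ext; apply Subtype.ext
        show ((u.1 : Fˣ) : F) ^ (q0 + 1) = 1
        rw [pow_succ, ← fixed_pow hF hodd hq0 hu, ← pow_succ]
        exact congrArg Units.val u.1.2⟩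
      invFun := fun v => ⟨⟨Units.map K.subtype.toMonoidHom v.1, by
          apply Units.ext
          show ((v.1 : K) : F) ^ (q + 1) = 1
          rw [pow_succ, fixed_pow hF hodd hq0 (v.1 : K).2, ← pow_succ]
          exact congrArg (fun z : Kˣ => ((z : K) : F)) v.2⟩,
        mem_fixedUnits.mpr (v.1 : K).2⟩
      left_inv := fun u => by apply Subtype.ext; apply Subtype.ext; apply Units.ext; rfl
      right_inv := fun v => by apply Subtype.ext; apply Units.ext; rfl }
  exact Nat.card_congr e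

theorem index_fixedNormOne {σ : F ≃+* F} (hodd : Odd (orderOf σ)) (hq0 : q = q0 ^ orderOf σ) :
    (fixedNormOne q σ).index = (q + 1) / (q0 + 1) := by
  have h := (fixedNormOne q σ).card_mul_index
  rw [card_fixedNormOne hF hodd hq0, card_norm_one_units hF] at h
  rw [← h, Nat.mul_div_cancel_left _ (by omega)]

theorem det_centralizer {m : ℕ} (hm : 1 ≤ m) {σ : F ≃+* F} (hodd : Odd (orderOf σ))
    (hq0 : q = q0 ^ orderOf σ) :
    (powMonoidHom (m + 2) : normOne F q →* normOne F q).range ⊔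
      ((Subgroup.centralizer {fieldU (n := m + 2) (q := q) σ}).comap conjU).map
        (detU hF : GUG (m + 2) F q →* normOne F q) =
    (powMonoidHom (m + 2) : normOne F q →* normOne F q).range ⊔ fixedNormOne q σ := by
  apply le_antisymm
  · refine sup_le le_sup_left ?_
    rintro _ ⟨g, hg, rfl⟩
    obtain ⟨y, hy⟩ := exists_fixed_of_commute hF hm hodd hq0 g hg
    set g' := scalarU hF y * g with hg'
    have e : detU hF g = (y ^ (m + 2))⁻¹ * detU hF g' := by
      rw [hg', map_mul, detU_scalar, inv_mul_cancel_left]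
    rw [e]
    refine Subgroup.mul_mem_sup (inv_mem ⟨y, rfl⟩) ?_
    rw [Subgroup.mem_subgroupOf, mem_fixedUnits, detU_coe, Matrix.GeneralLinearGroup.val_det_apply]
    have e2 := RingHom.map_det σ.toRingHom (g'.1 : Mat (m + 2) F)
    rw [RingHom.mapMatrix_apply] at e2
    refine e2.trans ?_
    show ((g'.1 : Mat (m + 2) F).map σ).det = _
    rw [← guField_coe, hy]
  · refine sup_le le_sup_left ?_
    intro u hu
    apply Subgroup.mem_sup_right
    obtain ⟨d, hd, hdiag⟩ := exists_diag hF (n := m + 2) (by omega) u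
    refine ⟨d, (commute_field_iff hF hm σ d).mpr ⟨1, ?_⟩, hd⟩
    rw [map_one, mul_one]
    apply Subtype.ext; apply Units.ext
    rw [guField_coe, hdiag, Matrix.diagonal_map (map_zero σ)]
    congr 1
    funext i
    split_ifs
    · exact mem_fixedUnits.mp hu
    · exact map_one σ

theorem exists_guMap {σ : F ≃+* F} (hodd : Odd (orderOf σ)) (hq0 : q = q0 ^ orderOf σ)
    {F₀ : Type*} [Field F₀] (ι : F₀ →+* F) (hι : ∀ y, σ y = y ↔ ∃ a, ι a = y) :
    ∃ Mg : GUG n F₀ q0 →* GUG n F q, Function.Injective Mg ∧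
      (∀ a, ((Mg a).1 : Mat n F) = (a.1 : Matrix (Fin n) (Fin n) F₀).map ι) ∧
      (∀ g, guField σ g = g ↔ ∃ a, Mg a = g) := by
  classical
  have hinj : Function.Injective ι := ι.injective
  have : Fintype F₀ := Fintype.ofInjective ι hinj
  have hform : ∀ u v : Fin n → F₀,
      ι (Cfsg.hermForm n F₀ q0 u v) = hh q (ι ∘ u) (ι ∘ v) := by
    intro u v
    simp only [hh, Cfsg.hermForm, map_sum, map_mul, map_pow, Function.comp_apply]
    exact Finset.sum_congr rfl fun i _ => by rw [fixed_pow hF hodd hq0 ((hι _).mpr ⟨v i, rfl⟩)]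
  have hMv : ∀ (A : Matrix (Fin n) (Fin n) F₀) (u : Fin n → F₀),
      A.map ι *ᵥ (ι ∘ u) = ι ∘ (A *ᵥ u) := by
    intro A u; funext i; simp [Matrix.mulVec, dotProduct, map_sum, map_mul]
  have hsingle : ∀ j, ι ∘ (Pi.single j 1 : Fin n → F₀) = Pi.single j 1 := fun j => by
    funext k; simp [Pi.single_apply, apply_ite ι]
  have hmem : ∀ a : GUG n F₀ q0, Matrix.GeneralLinearGroup.map ι a.1 ∈ Cfsg.GU n F q := by
    intro a
    rw [mem_GU_iff]
    intro u v
    have hcols : ∀ i j, hh q ((a.1 : Matrix (Fin n) (Fin n) F₀).map ι *ᵥ Pi.single i 1)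
        ((a.1 : Matrix (Fin n) (Fin n) F₀).map ι *ᵥ Pi.single j 1) =
        hh q (Pi.single i 1 : Vec n F) (Pi.single j 1) := by
      intro i j
      rw [← hsingle i, ← hsingle j, hMv, hMv, ← hform, ← hform]
      exact congrArg ι (a.2 _ _)
    show hh q ((a.1 : Matrix (Fin n) (Fin n) F₀).map ι *ᵥ u)
      ((a.1 : Matrix (Fin n) (Fin n) F₀).map ι *ᵥ v) = hh q u v
    rw [← Finset.univ_sum_single u, ← Finset.univ_sum_single v]
    simp only [mulVec_sum]
    have hl : ∀ (s : Finset (Fin n)) (A : Fin n → Vec n F) (y : Vec n F),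
        hh q (∑ i ∈ s, A i) y = ∑ i ∈ s, hh q (A i) y := by
      intro s A y
      induction s using Finset.induction with
      | empty => simp [h_zero_left]
      | insert j s hj ih => rw [Finset.sum_insert hj, Finset.sum_insert hj, h_add_left, ih]
    have hr' : ∀ (s : Finset (Fin n)) (A : Fin n → Vec n F) (y : Vec n F),
        hh q y (∑ i ∈ s, A i) = ∑ i ∈ s, hh q y (A i) := by
      intro s A y
      induction s using Finset.induction with
      | empty => simp [h_zero_right hF]
      | insert j s hj ih => rw [Finset.sum_insert hj, Finset.sum_insert hj, h_add_right hF, ih]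
    rw [hl, hl]
    refine Finset.sum_congr rfl fun i _ => ?_
    rw [hr', hr']
    refine Finset.sum_congr rfl fun j _ => ?_
    rw [show (Pi.single i (u i) : Vec n F) = u i • Pi.single i 1 by
        rw [← Pi.single_smul', smul_eq_mul, mul_one],
      show (Pi.single j (v j) : Vec n F) = v j • Pi.single j 1 by
        rw [← Pi.single_smul', smul_eq_mul, mul_one],
      mulVec_smul, mulVec_smul, h_smul_left, h_smul_left, h_smul_right hF, h_smul_right hF, hcols]
  let Mg : GUG n F₀ q0 →* GUG n F q :=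
    ((Matrix.GeneralLinearGroup.map ι).comp (Cfsg.GU n F₀ q0).subtype).codRestrict _ hmem
  have hcoe : ∀ a, ((Mg a).1 : Mat n F) = (a.1 : Matrix (Fin n) (Fin n) F₀).map ι := fun a => rfl
  refine ⟨Mg, fun a b h => Subtype.ext (Units.ext (Matrix.ext fun i j => hinj ?_)), hcoe,
    fun g => ⟨fun h => ?_, ?_⟩⟩
  · exact congrArg (fun g : GUG n F q => (g.1 : Mat n F) i j) h
  · have hent : ∀ i j, ∃ a, ι a = (g.1 : Mat n F) i j := fun i j => (hι _).mp
      (congrArg (fun A : GUG n F q => (A.1 : Mat n F) i j) h)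
    choose a ha using hent
    have hmap : (Matrix.of a).map ι = (g.1 : Mat n F) := Matrix.ext fun i j => ha i j
    have hdet : (Matrix.of a).det ≠ 0 := by
      intro h0
      have := RingHom.map_det ι (Matrix.of a)
      rw [h0, map_zero, RingHom.mapMatrix_apply, hmap] at this
      exact (Matrix.GeneralLinearGroup.det g.1).ne_zero this.symm
    refine ⟨⟨Matrix.GeneralLinearGroup.mkOfDetNeZero _ hdet, fun u v => hinj ?_⟩,
      Subtype.ext (Units.ext hmap)⟩
    show ι (Cfsg.hermForm n F₀ q0 (Matrix.of a *ᵥ u) (Matrix.of a *ᵥ v)) = _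
    rw [hform, hform, ← hMv, ← hMv, hmap]
    exact h_gu g _ _
  · rintro ⟨a, rfl⟩
    apply Subtype.ext; apply Units.ext
    rw [guField_coe, hcoe]
    ext i j
    exact (hι _).mpr ⟨_, rfl⟩

/-- The centralizer in `PGU_n(q)` of a field automorphism of odd order. -/
theorem nonempty_centralizer_field_equiv {m : ℕ} (hm : 1 ≤ m) {σ : F ≃+* F}
    (hodd : Odd (orderOf σ)) (hq0 : q = q0 ^ orderOf σ)
    {F₀ : Type*} [Field F₀] (ι : F₀ →+* F) (hι : ∀ y, σ y = y ↔ ∃ a, ι a = y) :
    Nonempty (↥(Cfsg.inndiagPSU (m + 2) F q ⊓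
        Subgroup.centralizer {fieldU (n := m + 2) (q := q) σ}) ≃* Cfsg.PGU (m + 2) F₀ q0) := by
  classical
  obtain ⟨Mg, hMinj, hcoe, hfix⟩ := exists_guMap (n := m + 2) hF hodd hq0 ι hι
  let f : GUG (m + 2) F₀ q0 →*
      ↥(Cfsg.inndiagPSU (m + 2) F q ⊓ Subgroup.centralizer {fieldU (n := m + 2) (q := q) σ}) :=
    (conjU.comp Mg).codRestrict _ fun a => ⟨mem_inndiag_iff.mpr ⟨_, rfl⟩,
      (commute_field_iff hF hm σ _).mpr ⟨1, by rw [map_one, mul_one, (hfix _).mpr ⟨a, rfl⟩]⟩⟩
  have hinj : Function.Injective ι := ι.injective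
  have hker : f.ker = (Geo.scalars (Fin (m + 2)) F₀).subgroupOf (Cfsg.GU (m + 2) F₀ q0) := by
    ext a
    rw [MonoidHom.mem_ker, Subgroup.mem_subgroupOf, Geo.mem_scalars_iff]
    constructor
    · intro h
      obtain ⟨u, hu⟩ := eq_scalar_of_conjU_eq_one hF hm (congrArg Subtype.val h)
      have e : ∀ i j, ι ((a.1 : Matrix (Fin (m + 2)) (Fin (m + 2)) F₀) i j) = if i = j then ((u : Fˣ) : F) else 0 :=
        fun i j => by
          have := congrArg (fun g : GUG (m + 2) F q => (g.1 : Mat (m + 2) F) i j) hu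
          simp only [hcoe, scalarU_coe, Matrix.GeneralLinearGroup.coe_scalar, Matrix.scalar_apply,
            Matrix.diagonal_apply, Matrix.map_apply] at this
          exact this
      set d := (a.1 : Matrix (Fin (m + 2)) (Fin (m + 2)) F₀) 0 0
      have hd : ι d = ((u : Fˣ) : F) := by rw [e, if_pos rfl]
      have hd0 : d ≠ 0 := fun h0 => (u : Fˣ).ne_zero (by rw [← hd, h0, map_zero])
      refine ⟨Units.mk0 d hd0, ?_⟩
      ext i j
      apply hinj
      rw [e]
      simp [Matrix.one_apply, apply_ite ι, hd]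
    · rintro ⟨u, hu⟩
      apply Subtype.ext
      show conjU (Mg a) = 1
      have hnorm : Units.map ι.toMonoidHom u ∈ normOne F q := by
        rw [mem_normOne_iff hF]
        set e0 : Vec (m + 2) F := Pi.single 0 1
        have he : hh q e0 e0 = 1 := by simp [e0, hermForm_single_right hF]
        have he2 : ((Mg a).1 : Mat (m + 2) F) *ᵥ e0 = ι (u : F₀) • e0 := by
          rw [hcoe, hu, Matrix.map_smul' ι _ _ (map_mul ι), Matrix.map_one ι (map_zero ι) (map_one ι),
            smul_mulVec, one_mulVec]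
        have := h_gu (Mg a) e0 e0
        rw [he2, h_smul_left, h_smul_right hF, he, mul_one] at this
        exact this
      rw [show Mg a = scalarU hF ⟨_, hnorm⟩ from Subtype.ext (Units.ext (by
        ext i j
        rw [hcoe, scalarU_coe, hu]
        simp [Matrix.one_apply, Matrix.scalar_apply, Matrix.diagonal_apply, apply_ite ι])),
        conjU_scalar]
  have hsurj : Function.Surjective f := by
    rintro ⟨β, hβ⟩
    obtain ⟨g, rfl⟩ := mem_inndiag_iff.mp hβ.1
    obtain ⟨y, hy⟩ := exists_fixed_of_commute hF hm hodd hq0 g hβ.2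
    obtain ⟨a, ha⟩ := (hfix _).mp hy
    refine ⟨a, Subtype.ext ?_⟩
    show conjU (Mg a) = conjU g
    rw [ha, map_mul, conjU_scalar, one_mul]
  exact ⟨((QuotientGroup.quotientMulEquivOfEq hker.symm).trans
    (QuotientGroup.quotientKerEquivOfSurjective f hsurj)).symm⟩

/-- The unitary matrices fixed by `σ` up to a scalar: their number. -/
theorem card_map_eq_smul (hn : 1 ≤ n) {σ : F ≃+* F} (hodd : Odd (orderOf σ))
    (hq0 : q = q0 ^ orderOf σ) {F₀ : Type*} [Field F₀] [Fintype F₀] (ι : F₀ →+* F)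
    (hι : ∀ y, σ y = y ↔ ∃ a, ι a = y) :
    Nat.card {g : GUG n F q // ∃ c : F, c ≠ 0 ∧ (g.1 : Mat n F).map σ = c • (g.1 : Mat n F)} =
      ((q + 1) / (q0 + 1)) * Nat.card (GUG n F₀ q0) := by
  classical
  obtain ⟨Mg, hMinj, hcoe, hfix⟩ := exists_guMap (n := n) hF hodd hq0 ι hι
  let Ψ : normOne F q × GUG n F₀ q0 →* GUG n F q :=
    MonoidHom.mk' (fun p => scalarU hF p.1 * Mg p.2) (fun a b => by
      show scalarU hF (a.1 * b.1) * Mg (a.2 * b.2) = _
      have hcomm : Mg a.2 * scalarU hF b.1 = scalarU hF b.1 * Mg a.2 := by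
        apply Subtype.ext; apply Units.ext
        rw [Subgroup.coe_mul, Subgroup.coe_mul, Units.val_mul, scalarU_coe, gl_scalar_mul_coe]
        ext i j
        simp [Matrix.scalar_apply, Matrix.mul_diagonal, mul_comm]
      rw [map_mul, map_mul, mul_assoc, ← mul_assoc (scalarU hF b.1), ← hcomm]
      simp only [mul_assoc])
  have hrange : ∀ g : GUG n F q, g ∈ Ψ.range ↔
      ∃ c : F, c ≠ 0 ∧ (g.1 : Mat n F).map σ = c • (g.1 : Mat n F) := by
    intro g
    constructor
    · rintro ⟨⟨y, a⟩, rfl⟩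
      refine ⟨σ ((y : Fˣ) : F) / ((y : Fˣ) : F), by simp, ?_⟩
      show ((scalarU hF y * Mg a : GUG n F q).1 : Mat n F).map σ = _
      rw [Subgroup.coe_mul, scalarU_coe, gl_scalar_mul_coe]
      ext i j
      show σ (_ * (Mg a).1 i j) = _
      have e : σ (((Mg a).1 : Mat n F) i j) = ((Mg a).1 : Mat n F) i j :=
        congrArg (fun A : GUG n F q => (A.1 : Mat n F) i j) ((hfix _).mpr ⟨a, rfl⟩)
      rw [map_mul, e]
      simp only [Matrix.smul_apply, smul_eq_mul, MonoidHom.mk'_apply, Subgroup.coe_mul,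
        scalarU_coe, gl_scalar_mul_coe, Ψ]
      field_simp
    · rintro ⟨c, -, hc⟩
      obtain ⟨y, hy⟩ := exists_fixed_of_map_eq hF hn hodd hq0 g hc
      obtain ⟨a, ha⟩ := (hfix _).mp hy
      refine ⟨(y⁻¹, a), ?_⟩
      show scalarU hF y⁻¹ * Mg a = g
      rw [ha, map_inv, inv_mul_cancel_left]
  have hker : Nat.card Ψ.ker = q0 + 1 := by
    rw [← card_fixedNormOne hF hodd hq0]
    refine Nat.card_congr (Equiv.ofBijective
      (fun p => (⟨p.1.1, ?_⟩ : fixedNormOne q σ)) ⟨?_, ?_⟩)
    · have h := p.2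
      rw [MonoidHom.mem_ker] at h
      have h' : scalarU hF p.1.1 = Mg p.1.2⁻¹ := by
        rw [map_inv]; exact eq_inv_of_mul_eq_one_left h
      have := congrArg (fun A : GUG n F q => (A.1 : Mat n F) ⟨0, hn⟩ ⟨0, hn⟩)
        ((hfix _).mpr ⟨_, rfl⟩ : guField σ (Mg p.1.2⁻¹) = Mg p.1.2⁻¹)
      simp only [guField_coe, Matrix.map_apply, ← h', scalarU_coe,
        Matrix.GeneralLinearGroup.coe_scalar, Matrix.scalar_apply, Matrix.diagonal_apply_eq] at this
      exact mem_fixedUnits.mpr this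
    · rintro ⟨⟨y, a⟩, ha⟩ ⟨⟨y', a'⟩, ha'⟩ h
      have hy : y = y' := congrArg Subtype.val h
      subst hy
      rw [MonoidHom.mem_ker] at ha ha'
      have : Mg a = Mg a' := mul_left_cancel (ha.trans ha'.symm)
      rw [Subtype.ext_iff, Prod.ext_iff]
      exact ⟨rfl, hMinj this⟩
    · rintro ⟨u, hu⟩
      obtain ⟨a, ha⟩ := (hfix _).mp (guField_scalar (n := n) hF σ u⁻¹ (by
        rw [Subgroup.coe_inv, Units.val_inv_eq_inv_val, map_inv₀, show σ ((u : Fˣ) : F) = _ from mem_fixedUnits.mp hu]))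
      refine ⟨⟨(u, a), ?_⟩, rfl⟩
      rw [MonoidHom.mem_ker]
      show scalarU hF u * Mg a = 1
      rw [ha, map_inv, mul_inv_cancel]
  have h := Ψ.ker.card_mul_index
  rw [Subgroup.index_ker, hker, Nat.card_prod, card_norm_one_units hF] at h
  have e : Nat.card {g : GUG n F q // ∃ c : F, c ≠ 0 ∧
      (g.1 : Mat n F).map σ = c • (g.1 : Mat n F)} = Nat.card Ψ.range :=
    Nat.card_congr (Equiv.subtypeEquivRight fun g => (hrange g).symm)
  rw [e]
  have hidx := (fixedNormOne q σ).card_mul_index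
  rw [card_fixedNormOne hF hodd hq0, index_fixedNormOne hF hodd hq0, card_norm_one_units hF] at hidx
  apply Nat.eq_of_mul_eq_mul_left (show 0 < q0 + 1 by omega)
  rw [h, ← mul_assoc, hidx]

end CfsgLib.AutPSU
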