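import Cfsg.Agent.Lib.AutPSU.Card
import Cfsg.Agent.Lib.AutPSU.Lang
import Cfsg.Agent.Lib.AutPSL.BalanceCore
import Cfsg.Agent.Lib.ClassicalGroups.UnitarySimple
import Cfsg.Agent.Lib.ClassicalGroups.PSUThreeTwo

/-!
The fixed points of a field automorphism of odd prime order of `PSU_n(q)`.
-/

set_option autoImplicit false
set_option linter.unusedSectionVars false

namespace CfsgLib.AutPSU

open Matrix Cfsg CfsgLib.ClassicalGroups CfsgLib.FieldGalois CfsgLib.AutBalance

variable {m : ℕ} {F : Type*} [Field F] [Fintype F] {q : ℕ}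

theorem su_center_of_smul {n : ℕ} {s : SUG n F q} {c : F} (h : mat s = c • (1 : Mat n F)) :
    s ∈ Subgroup.center (SUG n F q) := by
  refine (QuotientGroup.eq_one_iff s).mp ?_
  refine (mk_eq_of_smul (g := (1 : SUG n F q)) (z := c) ?_).symm.trans rfl
  rw [mat_one, h]

theorem su_smul_of_center (hF : Fintype.card F = q ^ 2) {n : ℕ} {s : SUG n F q}
    (h : s ∈ Subgroup.center (SUG n F q)) : ∃ c : F, mat s = c • (1 : Mat n F) := by
  obtain ⟨z, hz⟩ := exists_smul_of_mk_eq hF (g := (1 : SUG n F q)) (g' := s)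
    (((QuotientGroup.eq_one_iff s).mpr h).trans rfl).symm
  exact ⟨z, by rw [hz, mat_one]⟩

theorem psuConj_injective (hF : Fintype.card F = q ^ 2) (hm : 1 ≤ m) :
    Function.Injective (MulAut.conj : PSUG (m + 2) F q →* MulAut (PSUG (m + 2) F q)) := by
  refine (injective_iff_map_eq_one _).mpr fun x hx => ?_
  obtain ⟨s, rfl⟩ := QuotientGroup.mk_surjective x
  rw [← conjU_su] at hx
  obtain ⟨u, hu⟩ := eq_scalar_of_conjU_eq_one hF hm hx
  refine (QuotientGroup.eq_one_iff _).mpr (su_center_of_smul (c := ((u : Fˣ) : F)) ?_)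
  have e := congrArg (fun g : GUG (m + 2) F q => (g.1 : Mat (m + 2) F)) hu
  simp only [scalarU_coe] at e
  rw [← suToGU_coe, e]
  ext i j
  simp [Matrix.scalar_apply, Matrix.diagonal_apply, Matrix.one_apply]

/-- `PSU_3(2)` has no nontrivial normal subgroup of order prime to `3`. -/
theorem psu_three_two_core (hF : Fintype.card F = 2 ^ 2) (N : Subgroup (PSUG 3 F 2)) [hN : N.Normal]
    (h3 : Nat.Coprime (Nat.card N) 3) : N = ⊥ := by
  classical
  obtain ⟨E, hEn, hE9, -, ⟨e⟩⟩ := CfsgLib.PSUThree.exists_normal_nine (F := F) (by rw [hF]; norm_num)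
  have hQ : Nat.card (PSUG 3 F 2 ⧸ E) = 8 := by
    rw [Nat.card_congr e.toEquiv, Nat.card_eq_fintype_card, QuaternionGroup.card]
  have hdisj : Disjoint N E := by
    rw [disjoint_iff]
    apply Subgroup.eq_bot_of_card_eq
    have h1 : Nat.card ↥(N ⊓ E) ∣ Nat.card N := Subgroup.card_dvd_of_le inf_le_left
    have h2 : Nat.card ↥(N ⊓ E) ∣ 3 ^ 2 := by
      have := Subgroup.card_dvd_of_le (inf_le_right : N ⊓ E ≤ E)
      rwa [hE9] at this
    exact Nat.eq_one_of_dvd_coprimes (h3.pow_right 2) h1 h2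
  -- a primitive cube root of unity
  obtain ⟨w, hw⟩ := exists_prime_orderOf_dvd_card' (G := (powMonoidHom (2 + 1) : Fˣ →* Fˣ).ker) 3
    (by rw [card_norm_one_units hF])
  set ω : F := ((w : Fˣ) : F) with hωdef
  have hω3 : ω ^ 3 = 1 := by
    have := congrArg Units.val (show (w : Fˣ) ^ (2 + 1) = 1 from w.2)
    rwa [Units.val_pow_eq_pow_val] at this
  have hω1 : ω ≠ 1 := fun h => by
    rw [show w = 1 from Subtype.ext (Units.ext h), orderOf_one] at hw
    norm_num at hw
  have hω0 : ω ≠ 0 := Units.ne_zero _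
  have hωω : ω * ω ≠ 1 := fun h => hω1 (by linear_combination hω3 - ω * h)
  have hωne : ω * ω ≠ ω := fun h => hω1 (mul_left_cancel₀ hω0 (h.trans (mul_one ω).symm))
  set d : Fin 3 → F := ![ω, ω * ω, 1] with hd
  have hddet : (Matrix.diagonal d).det = 1 := by
    rw [Matrix.det_diagonal, Fin.prod_univ_three]
    simp [hd]
    linear_combination hω3
  let a0 : Matrix.SpecialLinearGroup (Fin 3) F := ⟨Matrix.diagonal d, hddet⟩
  have ha : a0 ∈ Cfsg.SU 3 F 2 := by
    rw [mem_SU_iff]
    intro u v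
    simp only [Cfsg.hermForm, Matrix.mulVec_diagonal, a0]
    refine Finset.sum_congr rfl fun i _ => ?_
    rw [mul_pow]
    have : d i ^ 3 = 1 := by
      fin_cases i <;> simp [hd, hω3]
      linear_combination (ω ^ 3 + 1) * hω3
    linear_combination (u i * v i ^ 2) * this
  let a : SUG 3 F 2 := ⟨a0, ha⟩
  have ha3 : (QuotientGroup.mk a : PSUG 3 F 2) ^ 3 = 1 := by
    rw [← QuotientGroup.mk_pow, QuotientGroup.eq_one_iff]
    refine su_center_of_smul (c := 1) ?_
    rw [one_smul]
    show ((a ^ 3 : SUG 3 F 2) : Matrix.SpecialLinearGroup (Fin 3) F).1 = 1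
    rw [SubmonoidClass.coe_pow]
    show ((a0 ^ 3 : Matrix.SpecialLinearGroup (Fin 3) F) : Mat 3 F) = 1
    rw [Matrix.SpecialLinearGroup.coe_pow]
    show (Matrix.diagonal d) ^ 3 = 1
    rw [Matrix.diagonal_pow, ← Matrix.diagonal_one]
    congr 1
    funext i
    fin_cases i <;> simp [hd, hω3]
    linear_combination (ω ^ 3 + 1) * hω3
  have haE : (QuotientGroup.mk a : PSUG 3 F 2) ∈ E := by
    rw [← QuotientGroup.eq_one_iff, ← orderOf_eq_one_iff]
    refine Nat.eq_one_of_dvd_coprimes (k := orderOf (QuotientGroup.mk (QuotientGroup.mk a) : PSUG 3 F 2 ⧸ E))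
      (show Nat.Coprime 3 8 by norm_num) ?_ (hQ ▸ orderOf_dvd_natCard _)
    exact orderOf_dvd_of_pow_eq_one (by rw [← QuotientGroup.mk_pow, ha3]; rfl)
  rw [eq_bot_iff]
  intro x hx
  obtain ⟨y, rfl⟩ := QuotientGroup.mk_surjective x
  have hcomm := Subgroup.commute_of_normal_of_disjoint N E hN hEn hdisj _ _ hx haE
  obtain ⟨l, hl⟩ := exists_smul_of_mk_eq hF (g := a * y) (g' := y * a) (by
    rw [QuotientGroup.mk_mul, QuotientGroup.mk_mul]; exact hcomm.eq.symm)
  rw [mat_mul, mat_mul, show mat a = Matrix.diagonal d from rfl] at hl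
  set Y := mat y with hY
  have hent : ∀ i j, Y i j * d j = l * (d i * Y i j) := fun i j => by
    have := congrFun (congrFun hl i) j
    simpa [Matrix.mul_diagonal, Matrix.diagonal_mul] using this
  have hYdet : Y.det = 1 := (y : Matrix.SpecialLinearGroup (Fin 3) F).2
  have hl3 : l ^ 3 = 1 := by
    have := congrArg Matrix.det hl
    rw [Matrix.det_smul, Matrix.det_mul, Matrix.det_mul, hYdet, hddet, Fintype.card_fin, mul_one,
      mul_one] at this
    exact this.symm
  have hcases : l = 1 ∨ l = ω ∨ l = ω * ω := by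
    have h0 : (l - 1) * (l - ω) * (l - ω * ω) = 0 := by
      have h1 : 1 + ω + ω * ω = 0 := by
        have : (ω - 1) * (1 + ω + ω * ω) = 0 := by linear_combination hω3
        exact (mul_eq_zero.mp this).resolve_left (sub_ne_zero.mpr hω1)
      linear_combination hl3 - hω3 + (ω * l - l * l) * h1
    rcases mul_eq_zero.mp h0 with h | h
    · rcases mul_eq_zero.mp h with h | h
      · exact Or.inl (sub_eq_zero.mp h)
      · exact Or.inr (Or.inl (sub_eq_zero.mp h))
    · exact Or.inr (Or.inr (sub_eq_zero.mp h))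
  have hzero : ∀ i j, d j ≠ l * d i → Y i j = 0 := fun i j h => by
    have h1 : Y i j * (d j - l * d i) = 0 := by linear_combination hent i j
    exact (mul_eq_zero.mp h1).resolve_right (sub_ne_zero.mpr h)
  have hωω2 : ω * (ω * ω) = 1 := by linear_combination hω3
  have hy3 : ∃ c : F, Y * Y * Y = c • (1 : Mat 3 F) := by
    rcases hcases with rfl | rfl | rfl
    · have z01 := hzero 0 1 (by simpa [hd] using hωne)
      have z02 := hzero 0 2 (by simpa [hd] using Ne.symm hω1)
      have z10 := hzero 1 0 (by simpa [hd] using Ne.symm hωne)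
      have z12 := hzero 1 2 (by simpa [hd] using Ne.symm hωω)
      have z20 := hzero 2 0 (by simpa [hd] using hω1)
      have z21 := hzero 2 1 (by simpa [hd] using hωω)
      have hcube : ∀ i : Fin 3, Y i i ^ 3 = 1 := by
        intro i
        have h := h_mat y (Pi.single i 1) (Pi.single i 1)
        rw [← hY] at h
        revert h
        fin_cases i <;> intro h <;>
          simp [hh, Cfsg.hermForm, Matrix.mulVec, dotProduct, Fin.sum_univ_three, Pi.single_apply,
            z01, z02, z10, z12, z20, z21] at h ⊢ <;>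
          linear_combination h
      refine ⟨1, ?_⟩
      ext i j
      fin_cases i <;> fin_cases j <;>
        simp [Matrix.mul_apply, Fin.sum_univ_three, z01, z02, z10, z12, z20, z21] <;>
        linear_combination hcube _
    · have z00 := hzero 0 0 (by rw [hd]; show ω ≠ ω * ω; exact Ne.symm hωne)
      have z11 := hzero 1 1 (by rw [hd]; show ω * ω ≠ ω * (ω * ω); rw [hωω2]; exact hωω)
      have z22 := hzero 2 2 (by rw [hd]; show (1 : F) ≠ ω * 1; rw [mul_one]; exact Ne.symm hω1)
      have z02 := hzero 0 2 (by rw [hd]; show (1 : F) ≠ ω * ω; exact Ne.symm hωω)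
      have z10 := hzero 1 0 (by rw [hd]; show ω ≠ ω * (ω * ω); rw [hωω2]; exact hω1)
      have z21 := hzero 2 1 (by rw [hd]; show ω * ω ≠ ω * 1; rw [mul_one]; exact hωne)
      refine ⟨Y 0 1 * Y 1 2 * Y 2 0, ?_⟩
      ext i j
      fin_cases i <;> fin_cases j <;>
        simp [Matrix.mul_apply, Fin.sum_univ_three, z00, z11, z22, z02, z10, z21] <;> ring
    · have e4 : ω * ω * (ω * ω) = ω := by linear_combination ω * hω3
      have e3 : ω * ω * ω = 1 := by linear_combination hω3
      have z00 := hzero 0 0 (by rw [hd]; show ω ≠ ω * ω * ω; rw [e3]; exact hω1)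
      have z11 := hzero 1 1 (by rw [hd]; show ω * ω ≠ ω * ω * (ω * ω); rw [e4]; exact hωne)
      have z22 := hzero 2 2 (by rw [hd]; show (1 : F) ≠ ω * ω * 1; rw [mul_one]; exact Ne.symm hωω)
      have z01 := hzero 0 1 (by rw [hd]; show ω * ω ≠ ω * ω * ω; rw [e3]; exact hωω)
      have z12 := hzero 1 2 (by rw [hd]; show (1 : F) ≠ ω * ω * (ω * ω); rw [e4]; exact Ne.symm hω1)
      have z20 := hzero 2 0 (by rw [hd]; show ω ≠ ω * ω * 1; rw [mul_one]; exact Ne.symm hωne)
      refine ⟨Y 0 2 * Y 2 1 * Y 1 0, ?_⟩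
      ext i j
      fin_cases i <;> fin_cases j <;>
        simp [Matrix.mul_apply, Fin.sum_univ_three, z00, z11, z22, z01, z12, z20] <;> ring
  obtain ⟨c, hc⟩ := hy3
  have hy31 : (QuotientGroup.mk y : PSUG 3 F 2) ^ 3 = 1 := by
    rw [← QuotientGroup.mk_pow, QuotientGroup.eq_one_iff]
    refine su_center_of_smul (c := c) ?_
    rw [pow_succ, pow_two, mat_mul, mat_mul]
    exact hc
  rw [Subgroup.mem_bot, ← orderOf_eq_one_iff,
    show orderOf (QuotientGroup.mk y : PSUG 3 F 2) = orderOf (⟨_, hx⟩ : N) from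
      (Subgroup.orderOf_coe (⟨_, hx⟩ : N))]
  exact Nat.eq_one_of_dvd_coprimes h3 (orderOf_dvd_natCard _)
    (orderOf_dvd_of_pow_eq_one (Subtype.ext hy31))

/-- A noncentral normal subgroup of `SU_n(q)` contains elements of order `p` modulo the centre. -/
theorem exists_order_of_normal (hF : Fintype.card F = q ^ 2) (hm : 1 ≤ m) {p : ℕ} [hp : Fact p.Prime]
    (hpF : (p : F) ≠ 0) (hdvd : p ∣ Nat.card (SUG (m + 2) F q)) (N : Subgroup (SUG (m + 2) F q))
    [hN : N.Normal] (hne : ¬ N ≤ Subgroup.center (SUG (m + 2) F q)) :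
    ∃ y ∈ N, y ∉ Subgroup.center (SUG (m + 2) F q) ∧ y ^ p ∈ Subgroup.center (SUG (m + 2) F q) := by
  classical
  by_cases h32 : m + 2 = 3 ∧ q = 2
  · obtain ⟨hm3, rfl⟩ := h32
    obtain rfl : m = 1 := by omega
    have hp3 : p = 3 := by
      have hc := card_SU_mul hF (n := 3) (by norm_num)
      rw [card_GU hF 3, Finset.prod_range_succ, Finset.prod_range_succ, Finset.prod_range_one] at hc
      norm_num [show ¬Even 1 from by decide, show Even 2 from ⟨1, rfl⟩] at hc
      have h216 : Nat.card (SUG (1 + 2) F 2) = 2 ^ 3 * 3 ^ 3 := by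
        show Nat.card (Cfsg.SU 3 F 2) = _
        norm_num
        omega
      rw [h216] at hdvd
      rcases hp.out.dvd_mul.mp hdvd with h | h
      · have := (Nat.prime_dvd_prime_iff_eq hp.out Nat.prime_two).mp (hp.out.dvd_of_dvd_pow h)
        subst this
        refine absurd ?_ hpF
        have h4 := Nat.cast_card_eq_zero F
        rw [hF, Nat.cast_pow] at h4
        exact pow_eq_zero_iff two_ne_zero |>.mp h4
      · exact (Nat.prime_dvd_prime_iff_eq hp.out Nat.prime_three).mp (hp.out.dvd_of_dvd_pow h)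
    subst hp3
    set N' := N.map (QuotientGroup.mk' (Subgroup.center (SUG 3 F 2)))
    have hN' : N'.Normal := Subgroup.Normal.map hN _ (QuotientGroup.mk'_surjective _)
    have h3 : 3 ∣ Nat.card N' := by
      by_contra h3
      have := psu_three_two_core hF N' ((Nat.prime_three.coprime_iff_not_dvd.mpr h3).symm)
      rw [Subgroup.map_eq_bot_iff, QuotientGroup.ker_mk'] at this
      exact hne this
    obtain ⟨⟨z, hz⟩, hzo⟩ := exists_prime_orderOf_dvd_card' 3 h3
    obtain ⟨y, hy, rfl⟩ := hz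
    rw [← Subgroup.orderOf_coe] at hzo
    change orderOf (QuotientGroup.mk y : PSUG 3 F 2) = 3 at hzo
    refine ⟨y, hy, fun h => ?_, ?_⟩
    · rw [show (QuotientGroup.mk y : PSUG 3 F 2) = 1 from (QuotientGroup.eq_one_iff y).mpr h,
        orderOf_one] at hzo
      norm_num at hzo
    · refine (QuotientGroup.eq_one_iff _).mp ?_
      rw [QuotientGroup.mk_pow, ← hzo]
      exact pow_orderOf_eq_one _
  have hN1 : N = ⊤ := (normal_le_center_or_top hF (by omega) h32 N hN).resolve_left hne
  suffices hex : ∃ y : SUG (m + 2) F q, y ∉ Subgroup.center _ ∧ y ^ p ∈ Subgroup.center _ by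
    obtain ⟨y, h1, h2⟩ := hex
    exact ⟨y, hN1 ▸ Subgroup.mem_top y, h1, h2⟩
  by_cases hpz : p ∣ Nat.card (Subgroup.center (SUG (m + 2) F q))
  · obtain ⟨z, hz⟩ := exists_prime_orderOf_dvd_card' p hpz
    obtain ⟨ζ, hζ⟩ := su_smul_of_center hF z.2
    have hzp : (z.1 : SUG (m + 2) F q) ^ p = 1 := by
      have := pow_orderOf_eq_one z
      rw [hz] at this
      exact congrArg Subtype.val this
    have hζ1 : ζ ≠ 1 := fun h => hp.out.one_lt.ne (((orderOf_eq_one_iff (x := z)).mpr
      (Subtype.ext (mat_injective (by rw [hζ, h, one_smul]; rfl)))).symm.trans hz)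
    have hζp : ζ ^ p = 1 := by
      have h0 : mat (z.1 ^ p) = ζ ^ p • (1 : Mat (m + 2) F) := by
        have e : mat (z.1 ^ p) = (mat z.1) ^ p := by
          show (((z.1 ^ p : SUG (m + 2) F q) : Matrix.SpecialLinearGroup (Fin (m + 2)) F)).1 = _
          rw [SubmonoidClass.coe_pow]
          exact Matrix.SpecialLinearGroup.coe_pow _ _
        rw [e, hζ, smul_pow, one_pow]
      rw [hzp, mat_one] at h0
      have := congrFun (congrFun h0 0) 0
      simpa using this.symm
    have hζq : ζ ^ (q + 1) = 1 := by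
      have h := h_mat z.1 (Pi.single 0 1) (Pi.single 0 1)
      rw [hζ] at h
      simp only [smul_mulVec, one_mulVec, h_smul_left, h_smul_right hF] at h
      have e1 : hh q (Pi.single 0 1 : Vec (m + 2) F) (Pi.single 0 1) = 1 := by
        simp [hermForm_single_right hF (m + 2)]
      rw [e1, mul_one, tau_apply] at h
      rw [pow_succ']
      linear_combination h
    have hζ0 : ζ ≠ 0 := fun h => by simp [h, hp.out.ne_zero] at hζp
    set i0 : Fin (m + 2) := ⟨0, by omega⟩
    set i1 : Fin (m + 2) := ⟨1, by omega⟩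
    have h01 : i0 ≠ i1 := by simp [i0, i1]
    let D := Matrix.SpecialLinearGroup.diag2n h01 ζ hζ0
    have hD : D ∈ Cfsg.SU (m + 2) F q := by
      rw [mem_SU_iff]
      intro u v
      simp only [D, Matrix.SpecialLinearGroup.diag2n_coe, Matrix.mulVec_diagonal, Cfsg.hermForm]
      refine Finset.sum_congr rfl fun i _ => ?_
      rw [mul_pow]
      split_ifs
      · linear_combination (u i * v i ^ q) * hζq
      · have : ζ⁻¹ ^ (q + 1) = 1 := by rw [inv_pow, hζq, inv_one]
        linear_combination (u i * v i ^ q) * this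
      · simp
    refine ⟨⟨D, hD⟩, fun h => ?_, ?_⟩
    · obtain ⟨r, hr⟩ := su_smul_of_center hF h
      have hr' : D.1 = r • (1 : Mat (m + 2) F) := hr
      rw [Matrix.SpecialLinearGroup.diag2n_coe] at hr'
      have e1 := congrFun (congrFun hr' ⟨2, by omega⟩) ⟨2, by omega⟩
      have e2 := congrFun (congrFun hr' i0) i0
      simp [i0, i1] at e1 e2
      exact hζ1 (e2.trans e1.symm)
    · refine su_center_of_smul (c := 1) ?_
      show (((⟨D, hD⟩ : SUG (m + 2) F q) ^ p : SUG (m + 2) F q) : Matrix.SpecialLinearGroup (Fin (m + 2)) F).1 = _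
      rw [SubmonoidClass.coe_pow]
      show ((D ^ p : Matrix.SpecialLinearGroup (Fin (m + 2)) F) : Mat (m + 2) F) = _
      rw [Matrix.SpecialLinearGroup.coe_pow, one_smul]
      show (Matrix.SpecialLinearGroup.diag2n h01 ζ hζ0).1 ^ p = 1
      rw [Matrix.SpecialLinearGroup.diag2n_coe, Matrix.diagonal_pow, ← Matrix.diagonal_one]
      congr 1
      funext k
      simp only [Pi.pow_apply]
      split_ifs <;> simp [inv_pow, hζp]
  · obtain ⟨y, hy⟩ := exists_prime_orderOf_dvd_card' p hdvd
    refine ⟨y, fun h => hpz ?_, by rw [← hy, pow_orderOf_eq_one]; exact one_mem _⟩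
    rw [← hy, show orderOf y = orderOf (⟨y, h⟩ : Subgroup.center (SUG (m + 2) F q)) from
      (Subgroup.orderOf_coe (⟨y, h⟩ : Subgroup.center (SUG (m + 2) F q)))]
    exact orderOf_dvd_natCard _

variable {q0 : ℕ}

theorem card_fixedPts_field_dvd (hF : Fintype.card F = q ^ 2) (hm : 1 ≤ m) {σ : F ≃+* F}
    (hodd : Odd (orderOf σ)) (hq0 : q = q0 ^ orderOf σ) :
    Nat.card (fixedPts (fieldU (n := m + 2) (q := q) σ)) ∣
      Nat.card (SUG (m + 2) (fixedSub σ) q0) := by
  classical
  have := Fintype.ofFinite (fixedSub σ)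
  have hK : Fintype.card (fixedSub σ) = q0 ^ 2 := by
    rw [← Nat.card_eq_fintype_card, natCard_fixed hF σ hq0]
  obtain ⟨E⟩ := nonempty_centralizer_field_equiv hF hm hodd hq0 (fixedSub σ).subtype
    (fun y => ⟨fun h => ⟨⟨y, h⟩, rfl⟩, fun ⟨a, ha⟩ => ha ▸ a.2⟩)
  obtain ⟨E1⟩ := nonempty_centralizer_field_equiv (q := q0) (q0 := q0) hK hm
    (σ := (1 : fixedSub σ ≃+* fixedSub σ)) (by simp) (by simp) (RingHom.id (fixedSub σ))
    (fun y => ⟨fun _ => ⟨y, rfl⟩, fun _ => rfl⟩)
  have hcard : Nat.card (Cfsg.PGU (m + 2) (fixedSub σ) q0) = Nat.card (SUG (m + 2) (fixedSub σ) q0) := by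
    rw [← Nat.card_congr E1.toEquiv, map_one,
      show Subgroup.centralizer ({1} : Set (MulAut (PSUG (m + 2) (fixedSub σ) q0))) = ⊤ from
        eq_top_iff.mpr fun x _ => Subgroup.mem_centralizer_singleton_iff.mpr (by simp),
      inf_top_eq, inndiag_eq_range, card_range_conjU hK hm]
  rw [← hcard, ← Nat.card_congr E.toEquiv]
  let c : fixedPts (fieldU (n := m + 2) (q := q) σ) →*
      ↥(Cfsg.inndiagPSU (m + 2) F q ⊓ Subgroup.centralizer {fieldU (n := m + 2) (q := q) σ}) :=
    ((MulAut.conj : PSUG (m + 2) F q →* MulAut (PSUG (m + 2) F q)).comp (fixedPts _).subtype).codRestrict _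
      fun k => by
        refine ⟨?_, conj_mem_centralizer k.2⟩
        obtain ⟨s, hs⟩ := QuotientGroup.mk_surjective k.1
        refine mem_inndiag_iff.mpr ⟨suToGU s, ?_⟩
        rw [conjU_su, hs]
        rfl
  exact Subgroup.card_dvd_of_injective c fun a b e =>
    Subtype.ext (psuConj_injective hF hm (congrArg Subtype.val e))

/-- An automorphism fixing the transvections over the fixed field is a power of the field automorphism. -/
theorem eq_field_of_fix_tel (hF : Fintype.card F = q ^ 2) (hm : 1 ≤ m) (hs : m = 1 → 3 ≤ q)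
    {σ : F ≃+* F} (hodd : Odd (orderOf σ)) (hq0 : q = q0 ^ orderOf σ) (u : MulAut (PSUG (m + 2) F q))
    (h : ∀ (x : Vec (m + 2) F) (s : F), σ ∘ x = x → σ s = s → hh q x x = 0 → tau hF s = -s →
      u (tel q x s) = tel q x s) :
    ∃ τ ∈ Subgroup.zpowers σ, u = fieldU τ := by
  classical
  obtain ⟨g, τ, rfl⟩ := aut_psu_structure hF hm hs u
  set K := fixedSub σ
  have : Fintype K := Fintype.ofFinite _
  have hK : Fintype.card K = q0 ^ 2 := by rw [← Nat.card_eq_fintype_card, natCard_fixed hF σ hq0]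
  obtain ⟨fr⟩ := exists_frame hK m
  obtain ⟨s0, hs00, hs0⟩ := exists_skew hK
  let up : Vec (m + 2) K → Vec (m + 2) F := fun x i => (x i : F)
  have hup : ∀ x y, hh q (up x) (up y) = ((hh q0 x y : K) : F) := by
    intro x y
    simp only [hh, Cfsg.hermForm, AddSubmonoidClass.coe_finsetSum, MulMemClass.coe_mul,
      SubmonoidClass.coe_pow]
    exact Finset.sum_congr rfl fun i _ => by rw [fixed_pow hF hodd hq0 (y i).2]
  have hskew : tau hF (s0 : F) = -(s0 : F) := by
    have h1 := congrArg Subtype.val hs0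
    rw [tau_apply, SubmonoidClass.coe_pow, NegMemClass.coe_neg] at h1
    rw [tau_apply, fixed_pow hF hodd hq0 s0.2]
    exact h1
  have hs0F : (s0 : F) ≠ 0 := fun h => hs00 (Subtype.ext h)
  set φ : Vec (m + 2) K → Vec (m + 2) F := fun x => (g.1 : Mat (m + 2) F) *ᵥ (τ ∘ up x) with hφ
  have hφadd : ∀ x y, φ (x + y) = φ x + φ y := fun x y => by
    rw [hφ]
    show _ *ᵥ (τ ∘ up (x + y)) = _
    rw [show (τ ∘ up (x + y) : Vec (m + 2) F) = τ ∘ up x + τ ∘ up y by funext i; simp [up],
      Matrix.mulVec_add]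
  have hφsmul : ∀ (t : K) x, φ (t • x) = τ (t : F) • φ x := fun t x => by
    rw [hφ]
    show _ *ᵥ (τ ∘ up (t • x)) = _
    rw [show (τ ∘ up (t • x) : Vec (m + 2) F) = τ (t : F) • (τ ∘ up x) by funext i; simp [up],
      Matrix.mulVec_smul]
  have hφh : ∀ x y, hh q (φ x) (φ y) = τ ((hh q0 x y : K) : F) := fun x y => by
    rw [hφ]
    show hh q ((g.1 : Mat (m + 2) F) *ᵥ (τ ∘ up x)) ((g.1 : Mat (m + 2) F) *ᵥ (τ ∘ up y)) = _
    rw [h_gu, ← h_map, hup]
  have hline : ∀ x, x ≠ 0 → hh q0 x x = 0 → ∃ k : F, φ x = k • up x := by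
    intro x hx0 hx
    have hx' : hh q (up x) (up x) = 0 := by rw [hup, hx]; rfl
    have e := h (up x) s0 (funext fun i => (x i).2) s0.2 hx' hskew
    rw [MulAut.mul_apply, fieldU_tel hF τ hx' hskew,
      conjU_tel hF g (by rw [← h_map, hx', map_zero]) (by rw [← tau_map hF, hskew, map_neg])] at e
    refine tel_eq hF (by rw [h_gu, ← h_map, hx', map_zero]) (fun e0 => hx0 ?_) hx'
      (by rw [← tau_map hF, hskew, map_neg]) ((map_ne_zero τ).mpr hs0F) hskew e
    funext i
    have h1 := congrArg (((g.1⁻¹ : GL _ F) : Mat (m + 2) F) *ᵥ ·) e0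
    simp only [hφ, gl_inv_mulVec, mulVec_zero] at h1
    have h2 := congrFun h1 i
    simp [up] at h2
    exact h2
  obtain ⟨α, hα⟩ := hline fr.u (u_ne_zero hK fr) fr.huu
  obtain ⟨γ, hγ⟩ := hline fr.v (v_ne_zero hK fr) fr.hvv
  have upAdd : ∀ x y, up (x + y) = up x + up y := fun x y => by funext i; simp [up]
  have upSmul : ∀ (t : K) x, up (t • x) = (t : F) • up x := fun t x => by funext i; simp [up]
  have hαγ : α * tau hF γ = 1 := by
    have e := hφh fr.u fr.v
    rw [hα, hγ, h_smul_left, h_smul_right hF, hup, fr.huv] at e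
    simpa using e
  have hα0 : α ≠ 0 := fun h0 => by rw [h0, zero_mul] at hαγ; exact zero_ne_one hαγ
  have hγ0 : γ ≠ 0 := fun h0 => by rw [h0, map_zero, mul_zero] at hαγ; exact zero_ne_one hαγ
  have key : ∀ (w : Vec m K) (b : K), b + tau hK b + hh q0 w w = 0 →
      φ (inW w) = α • up (inW w) ∧ α * (b : F) = γ * τ (b : F) := by
    intro w b hb
    set y := fr.u + inW w + b • fr.v with hy
    have hy0 : y ≠ 0 := fun e => by
      have := congrArg (fun z => hh q0 z fr.v) e
      simp only [hy, h_add_left, h_smul_left, fr.huv, fr.hvv, h_inW_v hK fr, h_zero_left, mul_zero,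
        add_zero] at this
      exact one_ne_zero this
    have hyy : hh q0 y y = 0 := by
      simp only [hy, h_add_left, h_add_right hK, h_smul_left, h_smul_right hK, fr.huu, fr.hvv, fr.huv,
        hvu hK fr, h_inW_u hK fr, h_inW_v hK fr, h_u_inW hK fr, h_v_inW hK fr, h_inW]
      linear_combination hb
    obtain ⟨k, hk⟩ := hline y hy0 hyy
    rw [hy, hφadd, hφadd, hφsmul, hα, hγ, upAdd, upAdd, upSmul] at hk
    have e1 := congrArg (fun z => hh q z (up fr.v)) hk
    have e2 := congrArg (fun z => hh q z (up fr.u)) hk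
    have h1 : hh q (φ (inW w)) (up fr.v) = 0 := by
      have e := hφh (inW w) fr.v
      rw [hγ, h_smul_right hF, h_inW_v hK fr] at e
      simpa [hγ0] using e
    have h2 : hh q (φ (inW w)) (up fr.u) = 0 := by
      have e := hφh (inW w) fr.u
      rw [hα, h_smul_right hF, h_inW_u hK fr] at e
      simpa [hα0] using e
    simp only [h_add_left, h_smul_left, hup, fr.huu, fr.hvv, fr.huv, hvu hK fr, h_inW_u hK fr,
      h_inW_v hK fr, h1, h2, ZeroMemClass.coe_zero, OneMemClass.coe_one, mul_zero, mul_one, add_zero,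
      zero_add] at e1 e2
    subst e1
    refine ⟨?_, ?_⟩
    · have hb' : (τ (b : F) * γ) • up fr.v = (α * (b : F)) • up fr.v := by rw [e2]
      rw [smul_add, smul_add, smul_smul, smul_smul, hb'] at hk
      linear_combination (norm := module) hk
    · linear_combination -e2
  have hwall : ∀ w : Vec m K, φ (inW w) = α • up (inW w) := fun w => by
    obtain ⟨b, hb⟩ := exists_trace hK (b := -hh q0 w w) (by rw [map_neg, h_self_fixed hK])
    exact (key w b (by rw [hb]; ring)).1
  have hτ : ∀ t : K, τ (t : F) = (t : F) := by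
    intro t
    set i : Fin m := ⟨0, hm⟩
    set w : Vec m K := Pi.single i 1
    have e := hwall (t • w)
    rw [inW_smul, hφsmul, hwall, upSmul, smul_smul, smul_smul] at e
    have e' := congrFun e i.succ.succ
    simp [up, w, inW, Pi.single_apply] at e'
    exact mul_right_cancel₀ hα0 (e'.trans (mul_comm _ _))
  have hγα : γ = α := by
    have e := (key 0 s0 (by rw [h_zero_left, hs0]; ring)).2
    rw [hτ] at e
    exact (mul_right_cancel₀ hs0F e).symm
  have hall : ∀ x, φ x = α • up x := by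
    intro x
    conv_lhs => rw [decomp hK fr x]
    conv_rhs => rw [decomp hK fr x]
    rw [hφadd, hφadd, hφsmul, hφsmul, hα, hγ, hwall, upAdd, upAdd, upSmul, upSmul, hτ, hτ, hγα]
    module
  have hg : (g.1 : Mat (m + 2) F) = α • (1 : Mat (m + 2) F) := by
    refine Matrix.ext_of_mulVec_single fun j => ?_
    have e := hall (Pi.single j 1)
    have hs1 : up (Pi.single j 1) = Pi.single j 1 := by funext i; simp [up, Pi.single_apply, apply_ite]
    rw [hφ] at e
    simp only [hs1] at e
    rw [show (τ ∘ (Pi.single j 1 : Vec (m + 2) F)) = Pi.single j 1 by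
      funext i; simp [Pi.single_apply, apply_ite τ]] at e
    rw [e, smul_mulVec, one_mulVec]
  have hαn : α * tau hF α = 1 := by rw [← hγα] at hαγ ⊢; exact hαγ
  have hgu : g = scalarU hF ⟨Units.mk0 α hα0, (mem_normOne_iff hF).mpr hαn⟩ := by
    apply Subtype.ext; apply Units.ext
    rw [scalarU_coe, Matrix.GeneralLinearGroup.coe_scalar, hg]
    ext i j
    simp [Matrix.one_apply, Matrix.scalar_apply, Matrix.diagonal_apply]
  refine ⟨τ, mem_zpowers_of_fixed fun a ha => hτ ⟨a, ha⟩, ?_⟩
  rw [hgu, conjU_scalar, one_mul]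

/-- The fixed points of a field automorphism of odd prime order have trivial `p'`-core when `p` divides
their order. -/
theorem core_fixedPts_field (hF : Fintype.card F = q ^ 2) (hm : 1 ≤ m) (hs : m = 1 → 3 ≤ q) {p : ℕ}
    [hp : Fact p.Prime] (hpF : (p : F) ≠ 0) {σ : F ≃+* F} (hodd : Odd (orderOf σ))
    (hq0 : q = q0 ^ orderOf σ) (hdvd : p ∣ Nat.card (fixedPts (fieldU (n := m + 2) (q := q) σ))) :
    pPrimeCore p (fixedPts (fieldU (n := m + 2) (q := q) σ)) = ⊥ := by
  classical
  set K := fixedSub σ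
  have : Fintype K := Fintype.ofFinite _
  have hK : Fintype.card K = q0 ^ 2 := by rw [← Nat.card_eq_fintype_card, natCard_fixed hF σ hq0]
  let ι : K →+* F := K.subtype
  obtain ⟨Mg, -, hcoe, hfix⟩ := exists_guMap (n := m + 2) hF hodd hq0 ι
    (fun y => ⟨fun h => ⟨⟨y, h⟩, rfl⟩, fun ⟨a, ha⟩ => ha ▸ a.2⟩)
  let up : SUG (m + 2) K q0 →* SUG (m + 2) F q := MonoidHom.mk'
    (fun A => ⟨⟨(mat A).map ι, by
      rw [← RingHom.mapMatrix_apply, ← RingHom.map_det]; exact (congrArg ι (A : Matrix.SpecialLinearGroup (Fin (m + 2)) K).2).trans (map_one ι)⟩, by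
      refine mem_SU_iff_toGL.mpr ?_
      have e : Matrix.SpecialLinearGroup.toGL (⟨(mat A).map ι, by
          rw [← RingHom.mapMatrix_apply, ← RingHom.map_det]; exact (congrArg ι (A : Matrix.SpecialLinearGroup (Fin (m + 2)) K).2).trans (map_one ι)⟩ :
          Matrix.SpecialLinearGroup (Fin (m + 2)) F) = (Mg (suToGU A)).1 := Units.ext (hcoe (suToGU A)).symm
      rw [e]
      exact (Mg (suToGU A)).2⟩)
    fun A B => mat_injective (Matrix.map_mul)
  have hupM : ∀ A, suToGU (up A) = Mg (suToGU A) := fun A => Subtype.ext (Units.ext (hcoe (suToGU A)).symm)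
  let j : SUG (m + 2) K q0 →* fixedPts (fieldU (n := m + 2) (q := q) σ) :=
    ((QuotientGroup.mk' (Subgroup.center (SUG (m + 2) F q))).comp up).codRestrict _ fun A => by
      show fieldU σ (QuotientGroup.mk (up A) : PSUG (m + 2) F q) = QuotientGroup.mk (up A)
      rw [fieldU_mk]
      exact congrArg _ (mat_injective (Matrix.ext fun i k => (mat A i k).2))
  have hup : ∀ A, up A ∈ Subgroup.center (SUG (m + 2) F q) ↔ A ∈ Subgroup.center (SUG (m + 2) K q0) := by
    intro A
    constructor
    · intro h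
      obtain ⟨r, hr⟩ := su_smul_of_center hF h
      refine su_center_of_smul (c := mat A 0 0) (Matrix.ext fun a b => ?_)
      apply ι.injective
      have e1 : ι (mat A a b) = (r • (1 : Mat (m + 2) F)) a b := congrFun (congrFun hr a) b
      have e2 : ι (mat A 0 0) = r := (congrFun (congrFun hr _) _).trans (by simp)
      rw [e1]
      simp [Matrix.one_apply, apply_ite ι, e2]
    · intro h
      obtain ⟨r, hr⟩ := su_smul_of_center hK h
      refine su_center_of_smul (c := ι r) ?_
      show (mat A).map ι = _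
      rw [hr]; ext a b; simp [Matrix.one_apply, apply_ite ι]
  have hker : ∀ A ∈ Subgroup.center (SUG (m + 2) K q0), j A = 1 := fun A hA =>
    Subtype.ext ((QuotientGroup.eq_one_iff _).mpr ((hup A).mpr hA))
  set N := pPrimeCore p (fixedPts (fieldU (n := m + 2) (q := q) σ))
  have hNn : N.Normal := Cfsg.pPrimeCore_normal p _
  have hNc : N.comap j ≤ Subgroup.center (SUG (m + 2) K q0) := by
    by_contra hne
    have := hNn.comap j
    obtain ⟨y, hy, hy1, hyp⟩ := exists_order_of_normal hK hm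
      (fun h => hpF (by rw [← map_natCast ι, h, map_zero]))
      (hdvd.trans (card_fixedPts_field_dvd hF hm hodd hq0)) (N.comap j) hne
    have hjp : (j y) ^ p = 1 := by rw [← map_pow]; exact hker _ hyp
    have ho : orderOf (⟨j y, hy⟩ : N) = p :=
      orderOf_eq_prime (Subtype.ext hjp) fun e => hy1 ((hup y).mp ((QuotientGroup.eq_one_iff _).mp
        (congrArg Subtype.val (congrArg Subtype.val e))))
    exact CfsgLib.PCore.not_dvd_card_pPrimeCore (ho ▸ orderOf_dvd_natCard _)
  rw [eq_bot_iff]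
  intro k hk
  obtain ⟨s, hs'⟩ := QuotientGroup.mk_surjective (k.1 : PSUG (m + 2) F q)
  have hgc : conjU (suToGU s) ∈ Subgroup.centralizer {fieldU (n := m + 2) (q := q) σ} := by
    rw [conjU_su, hs']; exact conj_mem_centralizer k.2
  obtain ⟨y, hy⟩ := exists_fixed_of_commute hF hm hodd hq0 _ hgc
  obtain ⟨a, ha⟩ := (hfix _).mp hy
  have hconj : conjU (Mg a) = MulAut.conj (k.1 : PSUG (m + 2) F q) := by
    rw [ha, map_mul, conjU_scalar, one_mul, conjU_su, hs']
  have hcent : ∀ A, k * j A * k⁻¹ = j A := by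
    intro A
    have hkey : j (suConj a A) = k * j A * k⁻¹ := by
      apply Subtype.ext
      have h3 := DFunLike.congr_fun hconj (QuotientGroup.mk (up A) : PSUG (m + 2) F q)
      rw [conjU_mk, MulAut.conj_apply] at h3
      refine (congrArg (QuotientGroup.mk : SUG (m + 2) F q → PSUG (m + 2) F q) (mat_injective ?_)).trans h3
      show (mat (suConj a A)).map ι = mat (suConj (Mg a) (up A))
      rw [suConj_mat, suConj_mat, Matrix.map_mul, Matrix.map_mul, hcoe]
      congr 1
      rw [← Subgroup.coe_inv, ← Subgroup.coe_inv, ← map_inv Mg, hcoe]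
    have hcm : k * j A * k⁻¹ * (j A)⁻¹ ∈ N := by
      rw [mul_assoc k, mul_assoc k]
      exact N.mul_mem hk (hNn.conj_mem _ (N.inv_mem hk) _)
    rw [← hkey, ← map_inv, ← map_mul] at hcm
    have h1 := hker _ (hNc hcm)
    rwa [map_mul, map_inv, mul_inv_eq_one, hkey] at h1
  have htel : ∀ (x : Vec (m + 2) F) (t : F), σ ∘ x = x → σ t = t → hh q x x = 0 → tau hF t = -t →
      MulAut.conj (k.1 : PSUG (m + 2) F q) (tel q x t) = tel q x t := by
    intro x t hx ht hxx htt
    let x0 : Vec (m + 2) K := fun i => ⟨x i, congrFun hx i⟩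
    let t0 : K := ⟨t, ht⟩
    have hform : ∀ z w : Vec (m + 2) K,
        ((hh q0 z w : K) : F) = hh q (fun i => (z i : F)) (fun i => (w i : F)) := by
      intro z w
      simp only [hh, Cfsg.hermForm, AddSubmonoidClass.coe_finsetSum, MulMemClass.coe_mul,
        SubmonoidClass.coe_pow]
      exact Finset.sum_congr rfl fun i _ => by rw [fixed_pow hF hodd hq0 (w i).2]
    have hx0 : hh q0 x0 x0 = 0 := Subtype.ext (by rw [hform]; exact hxx)
    have ht0 : tau hK t0 = -t0 := Subtype.ext (by
      rw [tau_apply, SubmonoidClass.coe_pow, NegMemClass.coe_neg, ← fixed_pow hF hodd hq0 ht]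
      exact htt)
    have e : (j (tmat q0 x0 t0)).1 = tel q x t := by
      refine congrArg _ (mat_injective (Matrix.ext_of_mulVec_single fun l => ?_))
      show (mat (tmat q0 x0 t0)).map ι *ᵥ _ = mat (tmat q x t) *ᵥ _
      have hl : (fun i => ((Pi.single l 1 : Vec (m + 2) K) i : F)) = (Pi.single l 1 : Vec (m + 2) F) := by
        funext i; simp [Pi.single_apply, apply_ite]
      rw [← hl, tmat_apply hF hxx htt]
      funext i
      have h1 : ((mat (tmat q0 x0 t0)).map ι *ᵥ (fun i => ((Pi.single l 1 : Vec (m + 2) K) i : F))) i =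
          ι ((mat (tmat q0 x0 t0) *ᵥ (Pi.single l 1 : Vec (m + 2) K)) i) := by
        simp [Matrix.mulVec, dotProduct, map_sum, map_mul, ι]
      rw [h1, tmat_apply hK hx0 ht0, show x = fun i => (x0 i : F) from rfl, ← hform]
      simp [ι, x0, t0]
    rw [MulAut.conj_apply, ← e]
    exact congrArg Subtype.val (hcent _)
  obtain ⟨τ, -, hτ⟩ := eq_field_of_fix_tel hF hm hs hodd hq0 _ htel
  rw [← hs', ← conjU_su] at hτ
  have hτ1 : τ = 1 := field_eq_one_of_conjU hF hm hτ
  rw [hτ1, map_one, conjU_su, hs'] at hτ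
  rw [Subgroup.mem_bot]
  exact Subtype.ext (psuConj_injective hF hm (hτ.trans (map_one _).symm))

end CfsgLib.AutPSU
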