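import Cfsg.Agent.Lib.AutPSU.SympRep
import Cfsg.Agent.Lib.AutPSU.BalanceField

/-!
The centralizer of an automorphism of order two of `PSU_n(q)` inducing `x ↦ x^q` modulo inner-diagonal
automorphisms, odd characteristic.
-/

set_option autoImplicit false
set_option linter.unusedSectionVars false

namespace CfsgLib.AutPSU

open Matrix Cfsg CfsgLib.ClassicalGroups CfsgLib.FieldGalois CfsgLib.AutBalance

variable {m : ℕ} {F : Type*} [Field F] [Fintype F] {q : ℕ}

theorem orderOf_tau (hF : Fintype.card F = q ^ 2) : orderOf (tau hF) = 2 := by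
  refine orderOf_eq_prime (RingEquiv.ext fun a => ?_) fun h => ?_
  · rw [pow_two]
    exact tau_tau hF a
  · obtain ⟨a, ha⟩ := tau_ne hF
    exact ha (by rw [h]; rfl)

theorem natCard_fixed_tau (hF : Fintype.card F = q ^ 2) : Nat.card (fixedSub (tau hF)) = q := by
  have h := natCard_fixedSub (tau hF)
  rw [orderOf_tau hF, Nat.card_eq_fintype_card, hF] at h
  exact (Nat.pow_left_injective two_ne_zero h).symm

theorem hh_eq {n : ℕ} (hF : Fintype.card F = q ^ 2) (u v : Vec n F) : hh q u v = u ⬝ᵥ (tau hF ∘ v) := rfl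

theorem gu_gram {n : ℕ} (hF : Fintype.card F = q ^ 2) (g : GUG n F q) :
    (g.1 : Mat n F)ᵀ * (g.1 : Mat n F).map (tau hF) = 1 := by
  ext i j
  have h := h_gu g (Pi.single i 1) (Pi.single j 1)
  rw [hh_eq hF, hh_eq hF, Matrix.mulVec_single_one, Matrix.mulVec_single_one] at h
  have e : (tau hF ∘ (Pi.single j 1 : Vec n F)) = Pi.single j 1 := by
    funext k; simp [Pi.single_apply, apply_ite (tau hF)]
  rw [e, single_dotProduct, one_mul] at h
  rw [Matrix.mul_apply, Matrix.one_apply]
  simp only [Matrix.transpose_apply, Matrix.map_apply]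
  refine Eq.trans ?_ (h.trans (by simp [Pi.single_apply, eq_comm]))
  rfl

theorem mem_gu_of_gram {n : ℕ} (hF : Fintype.card F = q ^ 2) (g : GL (Fin n) F)
    (h : (g : Mat n F)ᵀ * (g : Mat n F).map (tau hF) = 1) : g ∈ Cfsg.GU n F q := by
  rw [ClassicalGroups.mem_GU_iff]
  intro u v
  show hh q ((g : Mat n F) *ᵥ u) ((g : Mat n F) *ᵥ v) = hh q u v
  rw [hh_eq hF, hh_eq hF, ← map_mulVec, dotProduct_mulVec, ← Matrix.vecMul_transpose (g : Mat n F) u,
    Matrix.vecMul_vecMul, h, Matrix.vecMul_one]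

theorem mat_eq_zero_ne {n : ℕ} (hn : 1 ≤ n) (g : GL (Fin n) F) : (g : Mat n F) ≠ 0 := by
  intro h0
  have h3 := g.isUnit
  rw [h0, isUnit_zero_iff] at h3
  exact zero_ne_one (congrFun (congrFun h3 ⟨0, by omega⟩) ⟨0, by omega⟩ |>.trans (by simp) : (0 : F) = 1)

/-- The inclusion of `GL_n` of a subfield. -/
def glIncl {n : ℕ} (K : Subfield F) : GL (Fin n) K →* GL (Fin n) F :=
  Matrix.GeneralLinearGroup.map K.subtype

theorem glIncl_coe {n : ℕ} (K : Subfield F) (h : GL (Fin n) K) :
    (glIncl K h : Mat n F) = (h : Matrix (Fin n) (Fin n) K).map K.subtype := rfl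

theorem glIncl_injective {n : ℕ} (K : Subfield F) : Function.Injective (glIncl (n := n) K) := fun a b h =>
  Units.ext (Matrix.map_injective K.subtype.injective (congrArg Units.val h))

theorem map_incl (hF : Fintype.card F = q ^ 2) {n : ℕ} (h : GL (Fin n) (fixedSub (tau hF))) :
    (glIncl _ h : Mat n F).map (tau hF) = (glIncl _ h : Mat n F) :=
  Matrix.ext fun i j => ((h : Matrix (Fin n) (Fin n) (fixedSub (tau hF))) i j).2

/-- The data of an automorphism of order two with field part `x ↦ x^q`. -/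
theorem tau_data (hF : Fintype.card F = q ^ 2) (hm : 1 ≤ m) (hs : m = 1 → 3 ≤ q) (h2 : (2 : F) ≠ 0)
    (g : GUG (m + 2) F q) (hx : (conjU g * fieldU (tau hF) : MulAut (PSUG (m + 2) F q)) ^ 2 = 1) :
    pPrimeCore 2 (fixedPts (conjU g * fieldU (tau hF) : MulAut (PSUG (m + 2) F q))) = ⊥ ∧
      ∀ u : MulAut (PSUG (m + 2) F q),
        u * (conjU g * fieldU (tau hF)) = (conjU g * fieldU (tau hF)) * u →
        (∀ k ∈ fixedPts (conjU g * fieldU (tau hF) : MulAut (PSUG (m + 2) F q)), u k = k) →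
        u ∈ Subgroup.zpowers (conjU g * fieldU (tau hF) : MulAut (PSUG (m + 2) F q)) := by
  classical
  have hn : 3 ≤ m + 2 := by omega
  set β : MulAut (PSUG (m + 2) F q) := conjU g * fieldU (tau hF) with hβ
  set T := tau hF with hT
  have hT2 : ∀ a, T (T a) = a := tau_tau hF
  have hmapT : ∀ A : Mat (m + 2) F, (A.map T).map T = A := fun A => Matrix.ext fun i j => hT2 _
  set G := (g.1 : Mat (m + 2) F) with hG
  have hgram : Gᵀ * G.map T = 1 := gu_gram hF g
  -- `g ḡ = c` with `c = ±1`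
  obtain ⟨c, hc, hc2⟩ : ∃ c : F, G * G.map T = c • (1 : Mat (m + 2) F) ∧ (c = 1 ∨ c = -1) := by
    have h1 := hx
    rw [pow_two, hβ, mul_assoc, ← mul_assoc (fieldU (tau hF)), fieldU_mul_conjU, mul_assoc,
      ← mul_assoc (conjU g), ← map_mul, ← map_mul, ← pow_two,
      show T ^ 2 = 1 by rw [← orderOf_tau hF]; exact pow_orderOf_eq_one _, map_one, mul_one] at h1
    obtain ⟨u, hu⟩ := eq_scalar_of_conjU_eq_one hF hm h1
    set c : F := ((u : Fˣ) : F) with hcdef
    have hc : G * G.map T = c • (1 : Mat (m + 2) F) := by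
      have e := congrArg (fun x : GUG (m + 2) F q => (x.1 : Mat (m + 2) F)) hu
      simp only [Subgroup.coe_mul, Units.val_mul, guField_coe, scalarU_coe] at e
      rw [hG, hT, e]
      ext i j
      simp [Matrix.scalar_apply, Matrix.diagonal_apply, Matrix.one_apply, hcdef]
    refine ⟨c, hc, ?_⟩
    have hcn : c * T c = 1 := (mem_normOne_iff hF).mp u.2
    have hc' : G.map T * G = T c • (1 : Mat (m + 2) F) := by
      have := congrArg (fun A : Mat (m + 2) F => A.map T) hc
      simp only [Matrix.map_mul, hmapT] at this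
      rw [this]; ext i j; simp [Matrix.one_apply, apply_ite T]
    have hcr : T c = c := by
      by_contra hne
      apply mat_eq_zero_ne (by omega) g.1
      have e : (c - T c) • G = 0 := by
        rw [sub_smul, sub_eq_zero]
        calc c • G = (G * G.map T) * G := by rw [hc, Matrix.smul_mul, one_mul]
          _ = G * (G.map T * G) := Matrix.mul_assoc _ _ _
          _ = T c • G := by rw [hc', Matrix.mul_smul, mul_one]
      exact (smul_eq_zero.mp e).resolve_left (sub_ne_zero.mpr (Ne.symm hne))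
    rw [hcr] at hcn
    exact mul_self_eq_one_iff.mp hcn
  have hc0 : c ≠ 0 := by rcases hc2 with rfl | rfl <;> simp
  have hcc : c * c = 1 := by rcases hc2 with rfl | rfl <;> ring
  have hcr : T c = c := by rcases hc2 with rfl | rfl <;> simp
  -- descent
  obtain ⟨e, he0, he⟩ := ClassicalGroups.exists_norm_eq hF (c := c) (by rw [← tau_apply hF]; exact hcr) hc0
  have he' : e * T e = c := by rw [hT, tau_apply, ← pow_succ']; exact he
  set eu : Fˣ := Units.mk0 e he0
  set g' : GL (Fin (m + 2)) F := Matrix.GeneralLinearGroup.scalar (Fin (m + 2)) eu⁻¹ * g.1 with hg'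
  have hg'm : (g' : Mat (m + 2) F) = e⁻¹ • G := by
    rw [hg', Units.val_mul, Matrix.GeneralLinearGroup.coe_scalar]
    ext i j
    simp [Matrix.scalar_apply, Matrix.diagonal_mul, eu, hG]
  obtain ⟨k, hk⟩ := exists_of_cocy_eq_one T g' (by
    rw [hT, orderOf_tau hF]
    show g' * Matrix.GeneralLinearGroup.map _ (g' * Matrix.GeneralLinearGroup.map _ 1) = 1
    rw [map_one, mul_one]
    apply Units.ext
    show (g' : Mat (m + 2) F) * (g' : Mat (m + 2) F).map (tau hF) = 1
    rw [hg'm, Matrix.map_smul' _ _ _ (map_mul (tau hF)), Matrix.smul_mul, Matrix.mul_smul, ← hT, hc,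
      smul_smul, smul_smul, map_inv₀, ← mul_inv, he', inv_mul_cancel₀ hc0, one_smul])
  set P := (k : Mat (m + 2) F) with hP
  set kb : GL (Fin (m + 2)) F := Matrix.GeneralLinearGroup.map T.toRingHom k with hkb
  have hkbm : (kb : Mat (m + 2) F) = P.map T := rfl
  have hP1 : P = e⁻¹ • (G * P.map T) := by
    have := congrArg Units.val hk
    rw [Units.val_mul, hg'm, Matrix.smul_mul] at this
    exact this.symm
  have hPbar : P.map T = (T e)⁻¹ • (G.map T * P) := by
    conv_lhs => rw [hP1]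
    rw [Matrix.map_smul' _ _ _ (map_mul T), Matrix.map_mul, hmapT, map_inv₀]
  have hG1 : G * P.map T = e • P := by
    conv_rhs => rw [hP1]
    rw [smul_smul, mul_inv_cancel₀ he0, one_smul]
  set S1 := Pᵀ * P.map T with hS1
  have hS1flip : (P.map T)ᵀ * P = c • S1 := by
    have e1 : S1 = c⁻¹ • ((P.map T)ᵀ * P) := by
      calc S1 = (e⁻¹ • (G * P.map T))ᵀ * ((T e)⁻¹ • (G.map T * P)) := by rw [← hP1, ← hPbar]
        _ = (e⁻¹ * (T e)⁻¹) • ((P.map T)ᵀ * ((Gᵀ * G.map T) * P)) := by
            rw [Matrix.transpose_smul, Matrix.transpose_mul, Matrix.smul_mul, Matrix.mul_smul, smul_smul,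
              Matrix.mul_assoc, Matrix.mul_assoc]
        _ = _ := by rw [hgram, one_mul, ← mul_inv, he']
    rw [e1, smul_smul, mul_inv_cancel₀ hc0, one_smul]
  have hS1bar : S1.map T = c • S1 := by
    rw [← hS1flip, hS1, Matrix.map_mul, hmapT, Matrix.transpose_map]
  obtain ⟨δ, hδ0, hδ⟩ : ∃ δ : F, δ ≠ 0 ∧ T δ = c * δ := by
    rcases hc2 with rfl | rfl
    · exact ⟨1, one_ne_zero, by rw [map_one, one_mul]⟩
    · obtain ⟨s, hs0, hs'⟩ := exists_skew hF
      exact ⟨s, hs0, by rw [hT, hs', neg_one_mul]⟩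
  set K := fixedSub T with hK
  have : Fintype K := Fintype.ofFinite _
  have h2K : (2 : K) ≠ 0 := fun h => h2 (by
    have := congrArg K.subtype h; rwa [map_ofNat, map_zero] at this)
  have hreal : ∀ i j, T ((δ⁻¹ • S1) i j) = (δ⁻¹ • S1) i j := by
    intro i j
    have e1 : T (S1 i j) = c * S1 i j := congrFun (congrFun hS1bar i) j
    rw [Matrix.smul_apply, smul_eq_mul, map_mul, map_inv₀, hδ, e1]
    field_simp
  let S0m : Matrix (Fin (m + 2)) (Fin (m + 2)) K := fun i j => ⟨(δ⁻¹ • S1) i j, hreal i j⟩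
  have hS0map : S0m.map K.subtype = δ⁻¹ • S1 := rfl
  have hS0det : S0m.det ≠ 0 := by
    intro h0
    have h := RingHom.map_det K.subtype S0m
    rw [h0, map_zero, RingHom.mapMatrix_apply, hS0map, Matrix.det_smul, hS1, Matrix.det_mul,
      Matrix.det_transpose, ← hkbm] at h
    rcases mul_eq_zero.mp h.symm with h | h
    · exact pow_ne_zero _ (inv_ne_zero hδ0) h
    · rcases mul_eq_zero.mp h with h | h
      · exact ((Matrix.isUnit_iff_isUnit_det _).mp k.isUnit).ne_zero h
      · exact ((Matrix.isUnit_iff_isUnit_det _).mp kb.isUnit).ne_zero h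
  set S0 : GL (Fin (m + 2)) K := Matrix.GeneralLinearGroup.mkOfDetNeZero S0m hS0det
  have hS0t : ∀ i j, ((S0m j i : K) : F) = c * ((S0m i j : K) : F) := by
    intro i j
    have e1 : S1ᵀ = c • S1 := by rw [← hS1flip, hS1, Matrix.transpose_mul, Matrix.transpose_transpose]
    show (δ⁻¹ • S1) j i = c * (δ⁻¹ • S1) i j
    have e2 : S1 j i = c * S1 i j := congrFun (congrFun e1 i) j
    simp only [Matrix.smul_apply, smul_eq_mul, e2]
    ring
  let I := glIncl (n := m + 2) K
  have hPS : ∀ h : GL (Fin (m + 2)) K, h ∈ Refl.isoG (1 : K ≃+* K) S0m →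
      (I h : Mat (m + 2) F)ᵀ * S1 * (I h : Mat (m + 2) F) = S1 := by
    intro h hh'
    have e1 := congrArg (fun A : Matrix (Fin (m + 2)) (Fin (m + 2)) K => A.map K.subtype)
      (CfsgLib.AutPSL.mat_of_iso hh')
    simp only [Matrix.map_mul] at e1
    rw [show ((h : Matrix (Fin (m + 2)) (Fin (m + 2)) K).map ((1 : K ≃+* K) : K → K)) =
      (h : Matrix (Fin (m + 2)) (Fin (m + 2)) K) from rfl, Matrix.transpose_map, hS0map,
      Matrix.mul_smul, Matrix.smul_mul] at e1
    exact smul_right_injective _ (inv_ne_zero hδ0) e1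
  have hbarI : ∀ h : GL (Fin (m + 2)) K, Matrix.GeneralLinearGroup.map T.toRingHom (I h) = I h :=
    fun h => Units.ext (map_incl hF h)
  have hconjbar : ∀ h : GL (Fin (m + 2)) K,
      ((k * I h * k⁻¹ : GL (Fin (m + 2)) F) : Mat (m + 2) F).map T =
        ((kb * I h * kb⁻¹ : GL (Fin (m + 2)) F) : Mat (m + 2) F) := by
    intro h
    rw [hkb, ← map_inv (Matrix.GeneralLinearGroup.map T.toRingHom), ← hbarI h, ← map_mul, ← map_mul, hbarI h]
    rfl
  have hmem : ∀ h : Refl.isoG (1 : K ≃+* K) S0m, k * I h.1 * k⁻¹ ∈ Cfsg.GU (m + 2) F q := by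
    intro h
    refine mem_gu_of_gram hF _ ?_
    rw [← hT, hconjbar, Units.val_mul, Units.val_mul, Units.val_mul, Units.val_mul, ← hP,
      Matrix.transpose_mul, Matrix.transpose_mul, hkbm]
    calc ((k⁻¹ : GL (Fin (m + 2)) F) : Mat (m + 2) F)ᵀ * ((I h.1 : Mat (m + 2) F)ᵀ * Pᵀ) *
          (P.map T * (I h.1 : Mat (m + 2) F) * ((kb⁻¹ : GL (Fin (m + 2)) F) : Mat (m + 2) F))
        = ((k⁻¹ : GL (Fin (m + 2)) F) : Mat (m + 2) F)ᵀ *
          ((I h.1 : Mat (m + 2) F)ᵀ * (Pᵀ * P.map T) * (I h.1 : Mat (m + 2) F)) *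
            ((kb⁻¹ : GL (Fin (m + 2)) F) : Mat (m + 2) F) := by simp only [Matrix.mul_assoc]
      _ = (P * ((k⁻¹ : GL (Fin (m + 2)) F) : Mat (m + 2) F))ᵀ *
            ((kb : Mat (m + 2) F) * ((kb⁻¹ : GL (Fin (m + 2)) F) : Mat (m + 2) F)) := by
          rw [← hS1, hPS h.1 h.2, hS1, Matrix.transpose_mul, hkbm]
          simp only [Matrix.mul_assoc]
      _ = 1 := by rw [hP, ← Units.val_mul, ← Units.val_mul, mul_inv_cancel, mul_inv_cancel,
            Units.val_one, Matrix.transpose_one, one_mul]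
  let emb : Refl.isoG (1 : K ≃+* K) S0m →* GUG (m + 2) F q :=
    (((MulAut.conj k).toMonoidHom.comp (I.comp (Refl.isoG (1 : K ≃+* K) S0m).subtype))).codRestrict _ hmem
  let ρ : Refl.isoG (1 : K ≃+* K) S0m →* MulAut (PSUG (m + 2) F q) := conjU.comp emb
  have hρ : ∀ t, ρ t = 1 ↔
      ∃ u : Kˣ, (t : GL (Fin (m + 2)) K) = Matrix.GeneralLinearGroup.scalar (Fin (m + 2)) u := by
    intro t
    constructor
    · intro h
      obtain ⟨u, hu⟩ := eq_scalar_of_conjU_eq_one hF hm (h : conjU (emb t) = 1)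
      have h4 : k * I t.1 * k⁻¹ = Matrix.GeneralLinearGroup.scalar (Fin (m + 2)) (u : Fˣ) :=
        (congrArg Subtype.val hu).trans (scalarU_coe hF u)
      rw [mul_inv_eq_iff_eq_mul, CfsgLib.AutPSL.scalar_mul_comm] at h4
      have h5 := mul_left_cancel h4
      have h6 : ∀ i j, (((t.1 : Matrix (Fin (m + 2)) (Fin (m + 2)) K) i j : K) : F) =
          if i = j then ((u : Fˣ) : F) else 0 := fun i j => by
        have := congrArg (fun x : GL (Fin (m + 2)) F => (x : Mat (m + 2) F) i j) h5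
        simpa [I, glIncl, Matrix.diagonal_apply] using this
      set d := (t.1 : Matrix (Fin (m + 2)) (Fin (m + 2)) K) 0 0
      have hd : (d : F) = ((u : Fˣ) : F) := by rw [h6, if_pos rfl]
      refine ⟨Units.mk0 d fun h0 => (u : Fˣ).ne_zero (by rw [← hd, h0]; rfl),
        Units.ext (Matrix.ext fun i j => Subtype.ext ?_)⟩
      rw [h6]
      by_cases hij : i = j
      · subst hij; simp [hd]
      · simp [hij, Matrix.diagonal_apply_ne]
    · rintro ⟨u, hu⟩
      have e : (emb t).1 = Matrix.GeneralLinearGroup.scalar (Fin (m + 2)) (Units.map K.subtype.toMonoidHom u) := by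
        show k * I t.1 * k⁻¹ = _
        have e1 : I t.1 = Matrix.GeneralLinearGroup.scalar (Fin (m + 2)) (Units.map K.subtype.toMonoidHom u) := by
          rw [hu]
          apply Units.ext; ext i j
          by_cases hij : i = j
          · subst hij; simp [I, glIncl]
          · simp [I, glIncl, hij, Matrix.diagonal_apply_ne]
        rw [e1, ← CfsgLib.AutPSL.scalar_mul_comm, mul_inv_cancel_right]
      have hnorm : Units.map K.subtype.toMonoidHom u ∈ normOne F q := by
        rw [mem_normOne_iff hF]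
        have h := congrFun (congrFun (gu_gram hF (emb t)) 0) 0
        rw [e] at h
        simpa [Matrix.diagonal_transpose, Matrix.diagonal_map, Matrix.mul_apply, Matrix.diagonal_apply,
          apply_ite] using h
      show conjU (emb t) = 1
      rw [show emb t = scalarU hF ⟨_, hnorm⟩ from Subtype.ext (e.trans (scalarU_coe hF ⟨_, hnorm⟩).symm),
        conjU_scalar]
  -- the image centralises `β`
  have hρc : ∀ t, ρ t * β = β * ρ t := by
    intro t
    show conjU (emb t) * (conjU g * fieldU T) = conjU g * fieldU T * conjU (emb t)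
    rw [mul_assoc (conjU g), fieldU_mul_conjU, ← mul_assoc, ← mul_assoc, ← map_mul, ← map_mul]
    congr 2
    apply Subtype.ext; apply Units.ext
    rw [Subgroup.coe_mul, Subgroup.coe_mul, Units.val_mul, Units.val_mul, guField_coe]
    show ((k * I t.1 * k⁻¹ : GL (Fin (m + 2)) F) : Mat (m + 2) F) * G =
      G * ((k * I t.1 * k⁻¹ : GL (Fin (m + 2)) F) : Mat (m + 2) F).map T
    rw [hconjbar]
    simp only [Units.val_mul, ← hP, hkbm]
    have hG2 : G = e • (P * ((kb⁻¹ : GL (Fin (m + 2)) F) : Mat (m + 2) F)) := by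
      rw [← Matrix.smul_mul, ← hG1, Matrix.mul_assoc, ← hkbm, ← Units.val_mul, mul_inv_cancel,
        Units.val_one, mul_one]
    have hkk : ((k⁻¹ : GL (Fin (m + 2)) F) : Mat (m + 2) F) * P = 1 := by
      rw [hP, ← Units.val_mul, inv_mul_cancel, Units.val_one]
    calc P * (I t.1 : Mat (m + 2) F) * ((k⁻¹ : GL (Fin (m + 2)) F) : Mat (m + 2) F) * G
        = e • (P * (I t.1 : Mat (m + 2) F) * (((k⁻¹ : GL (Fin (m + 2)) F) : Mat (m + 2) F) * P) *
            ((kb⁻¹ : GL (Fin (m + 2)) F) : Mat (m + 2) F)) := by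
          rw [hG2, Matrix.mul_smul]; simp only [Matrix.mul_assoc]
      _ = (e • P) * ((I t.1 : Mat (m + 2) F) * ((kb⁻¹ : GL (Fin (m + 2)) F) : Mat (m + 2) F)) := by
          rw [hkk, mul_one, Matrix.smul_mul]; simp only [Matrix.mul_assoc]
      _ = G * (P.map T * (I t.1 : Mat (m + 2) F) * ((kb⁻¹ : GL (Fin (m + 2)) F) : Mat (m + 2) F)) := by
          rw [← hG1]; simp only [Matrix.mul_assoc]
  -- the action of the centralizer
  have hcen : ∀ u : MulAut (PSUG (m + 2) F q), u * β = β * u →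
      ∃ (w : GUG (m + 2) F q) (h0 : GL (Fin (m + 2)) K) (σ' : F ≃+* F) (τK : K ≃+* K) (c' : K),
        u = conjU w * fieldU σ' ∧ c' ≠ 0 ∧
        (∀ x y : Fin (m + 2) → K, sesq (1 : K ≃+* K) S0m
          ((h0 : Matrix (Fin (m + 2)) (Fin (m + 2)) K) *ᵥ (τK ∘ x))
          ((h0 : Matrix (Fin (m + 2)) (Fin (m + 2)) K) *ᵥ (τK ∘ y)) =
            c' * τK (sesq (1 : K ≃+* K) S0m x y)) ∧
        (∀ t : Refl.isoG (1 : K ≃+* K) S0m, ∃ t' : Refl.isoG (1 : K ≃+* K) S0m, (t' : GL (Fin (m + 2)) K) =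
            h0 * Matrix.GeneralLinearGroup.map τK.toRingHom (t : GL (Fin (m + 2)) K) * h0⁻¹ ∧
          u * ρ t * u⁻¹ = ρ t') ∧
        ((∃ r : Kˣ, h0 = Matrix.GeneralLinearGroup.scalar (Fin (m + 2)) r) → τK = 1 →
          u ∈ Subgroup.zpowers β) := by
    intro u hu
    obtain ⟨w, σ', rfl⟩ := aut_psu_structure hF hm hs u
    have hTσ : ∀ a, T (σ' a) = σ' (T a) := fun a => DFunLike.congr_fun (commute_ringAut T σ').eq a
    let mapσ : Mat (m + 2) F → Mat (m + 2) F := fun A => A.map σ'
    have hGl : ∃ l : F, G * (w.1 : Mat (m + 2) F).map T = l • ((w.1 : Mat (m + 2) F) * G.map σ') := by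
      have e1 : conjU (w * guField σ' g) = conjU (g * guField T w) := by
        have h1 : conjU (w * guField σ' g) * (fieldU σ' * fieldU T) =
            conjU (g * guField T w) * (fieldU σ' * fieldU T) := by
          calc conjU (w * guField σ' g) * (fieldU σ' * fieldU T)
              = conjU w * (conjU (guField σ' g) * fieldU σ') * fieldU T := by rw [map_mul]; group
            _ = conjU w * fieldU σ' * β := by rw [← fieldU_mul_conjU, hβ]; group
            _ = β * (conjU w * fieldU σ') := hu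
            _ = conjU g * (fieldU T * conjU w) * fieldU σ' := by rw [hβ]; group
            _ = conjU g * conjU (guField T w) * (fieldU T * fieldU σ') := by
                rw [fieldU_mul_conjU]; group
            _ = _ := by rw [((commute_ringAut T σ').map fieldU).eq, map_mul]
        exact mul_right_cancel h1
      obtain ⟨l, hl⟩ := (conjU_eq_iff hF hm).mp e1
      refine ⟨((l : Fˣ) : F), ?_⟩
      have e2 := congrArg (fun x : GUG (m + 2) F q => (x.1 : Mat (m + 2) F)) hl
      simp only [Subgroup.coe_mul, Units.val_mul, guField_coe, scalarU_coe] at e2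
      rw [hG, e2]
      ext i j
      simp [Matrix.scalar_apply, Matrix.mul_diagonal, mul_comm]
    obtain ⟨l, hl⟩ := hGl
    set kσ : GL (Fin (m + 2)) F := Matrix.GeneralLinearGroup.map σ'.toRingHom k with hkσ
    set X : GL (Fin (m + 2)) F := k⁻¹ * w.1 * kσ with hX
    have hkσm : (kσ : Mat (m + 2) F) = P.map σ' := rfl
    have hPσT : (P.map σ').map T = (P.map T).map σ' := Matrix.ext fun i j => hTσ _
    have hXm : (X : Mat (m + 2) F) =
        ((k⁻¹ : GL (Fin (m + 2)) F) : Mat (m + 2) F) * (w.1 : Mat (m + 2) F) * P.map σ' := rfl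
    have hPX : P * (X : Mat (m + 2) F) = (w.1 : Mat (m + 2) F) * P.map σ' := by
      rw [hXm, ← Matrix.mul_assoc, ← Matrix.mul_assoc, hP, ← Units.val_mul, mul_inv_cancel,
        Units.val_one, one_mul]
    have hXbar : (X : Mat (m + 2) F).map T = (l * σ' e * e⁻¹) • (X : Mat (m + 2) F) := by
      have e1 : P.map T * (X : Mat (m + 2) F).map T = (w.1 : Mat (m + 2) F).map T * (P.map T).map σ' := by
        rw [← Matrix.map_mul, hPX, Matrix.map_mul, hPσT]
      have e3 : G.map σ' * (P.map T).map σ' = σ' e • P.map σ' := by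
        rw [← Matrix.map_mul, hG1, Matrix.map_smul' _ _ _ (map_mul σ')]
      have e4 : P * (e • (X : Mat (m + 2) F).map T) = P * ((l * σ' e) • (X : Mat (m + 2) F)) := by
        rw [Matrix.mul_smul, ← Matrix.smul_mul, ← hG1, Matrix.mul_assoc, e1, ← Matrix.mul_assoc, hl,
          Matrix.smul_mul, Matrix.mul_assoc, e3, Matrix.mul_smul, smul_smul, Matrix.mul_smul, hPX]
      have e5 := k.isUnit.mul_left_cancel e4
      have e6 := congrArg (fun A : Mat (m + 2) F => e⁻¹ • A) e5
      simp only [smul_smul, inv_mul_cancel₀ he0, one_smul] at e6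
      rw [e6, mul_comm e⁻¹]
    obtain ⟨i0, j0, hx0⟩ : ∃ i j, (X : Mat (m + 2) F) i j ≠ 0 := by
      by_contra hall
      push Not at hall
      exact mat_eq_zero_ne (by omega) X (Matrix.ext hall)
    set x0 := (X : Mat (m + 2) F) i0 j0 with hx0def
    have hhreal : ∀ i j, T ((x0⁻¹ • (X : Mat (m + 2) F)) i j) = (x0⁻¹ • (X : Mat (m + 2) F)) i j := by
      intro i j
      have e1 : T ((X : Mat (m + 2) F) i j) = (l * σ' e * e⁻¹) * (X : Mat (m + 2) F) i j :=
        congrFun (congrFun hXbar i) j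
      have e2 : T x0 = (l * σ' e * e⁻¹) * x0 := congrFun (congrFun hXbar i0) j0
      have hμ : l * σ' e * e⁻¹ ≠ 0 := fun h0 => (map_ne_zero T).mpr hx0 (by rw [e2, h0, zero_mul])
      rw [Matrix.smul_apply, smul_eq_mul, map_mul, map_inv₀, e1, e2, mul_inv, mul_mul_mul_comm,
        inv_mul_cancel₀ hμ, one_mul]
    let h0m : Matrix (Fin (m + 2)) (Fin (m + 2)) K := fun i j => ⟨(x0⁻¹ • (X : Mat (m + 2) F)) i j, hhreal i j⟩
    have hh0map : h0m.map K.subtype = x0⁻¹ • (X : Mat (m + 2) F) := rfl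
    have hh0det : h0m.det ≠ 0 := by
      intro h0
      have h := RingHom.map_det K.subtype h0m
      rw [h0, map_zero, RingHom.mapMatrix_apply, hh0map, Matrix.det_smul] at h
      rcases mul_eq_zero.mp h.symm with h | h
      · exact pow_ne_zero _ (inv_ne_zero hx0) h
      · exact ((Matrix.isUnit_iff_isUnit_det _).mp X.isUnit).ne_zero h
    set h0 : GL (Fin (m + 2)) K := Matrix.GeneralLinearGroup.mkOfDetNeZero h0m hh0det with hh0
    have hIh0 : I h0 = Matrix.GeneralLinearGroup.scalar (Fin (m + 2)) (Units.mk0 x0 hx0)⁻¹ * X := by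
      apply Units.ext
      refine hh0map.trans ?_
      show _ = (Matrix.GeneralLinearGroup.scalar (Fin (m + 2)) (Units.mk0 x0 hx0)⁻¹ : Mat (m + 2) F) *
        (X : Mat (m + 2) F)
      ext i j
      rw [Matrix.GeneralLinearGroup.coe_scalar]
      simp [Matrix.scalar_apply, Matrix.diagonal_mul]
    let τK : K ≃+* K :=
      { toFun := fun a => ⟨σ' a, show T _ = _ by rw [hTσ]; exact congrArg σ' (a.2 : T a = a)⟩
        invFun := fun a => ⟨σ'.symm a, show T (σ'.symm a) = σ'.symm a by
          apply σ'.injective; rw [← hTσ, σ'.apply_symm_apply]; exact (a.2 : T a = a)⟩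
        left_inv := fun a => Subtype.ext (σ'.symm_apply_apply _)
        right_inv := fun a => Subtype.ext (σ'.apply_symm_apply _)
        map_mul' := fun a b => Subtype.ext (map_mul σ' _ _)
        map_add' := fun a b => Subtype.ext (map_add σ' _ _) }
    have hmult : (X : Mat (m + 2) F)ᵀ * S1 * (X : Mat (m + 2) F).map T = S1.map σ' := by
      calc (X : Mat (m + 2) F)ᵀ * S1 * (X : Mat (m + 2) F).map T
          = (P * (X : Mat (m + 2) F))ᵀ * (P * (X : Mat (m + 2) F)).map T := by
            rw [hS1, Matrix.transpose_mul, Matrix.map_mul]; simp only [Matrix.mul_assoc]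
        _ = (P.map σ')ᵀ * ((w.1 : Mat (m + 2) F)ᵀ * (w.1 : Mat (m + 2) F).map T) * (P.map T).map σ' := by
            rw [hPX, Matrix.transpose_mul, Matrix.map_mul, hPσT]; simp only [Matrix.mul_assoc]
        _ = _ := by rw [hT, gu_gram hF w, mul_one, ← hT, hS1, Matrix.map_mul, Matrix.transpose_map]
    set cf : F := σ' δ / (δ * (x0 * T x0)) with hcf
    have hcfreal : T cf = cf := by
      rw [hcf, map_div₀, map_mul, map_mul, hT2, hTσ, hδ, map_mul]
      have hσc : σ' c = c := by rcases hc2 with rfl | rfl <;> simp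
      rw [hσc]
      have := (map_ne_zero T).mpr hx0
      field_simp
    have hform : (h0 : Matrix (Fin (m + 2)) (Fin (m + 2)) K)ᵀ * S0m *
        (h0 : Matrix (Fin (m + 2)) (Fin (m + 2)) K).map ((1 : K ≃+* K) : K → K) =
          (⟨cf, mem_fixedSub.mpr hcfreal⟩ : K) • S0m.map τK := by
      apply Matrix.map_injective K.subtype.injective
      show (h0mᵀ * S0m * h0m).map K.subtype =
        ((⟨cf, mem_fixedSub.mpr hcfreal⟩ : K) • S0m.map τK).map K.subtype
      rw [Matrix.map_mul, Matrix.map_mul, Matrix.transpose_map, hh0map, hS0map,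
        Matrix.map_smul' _ _ _ (map_mul K.subtype)]
      have e1 : (S0m.map τK).map K.subtype = (σ' δ)⁻¹ • S1.map σ' := by
        ext i j
        show σ' ((δ⁻¹ • S1) i j) = _
        simp [Matrix.smul_apply]
      have e2 : (x0⁻¹ • (X : Mat (m + 2) F)) = (T x0)⁻¹ • (X : Mat (m + 2) F).map T := by
        ext i j
        have := hhreal i j
        simp only [Matrix.smul_apply, smul_eq_mul, map_mul, map_inv₀, Matrix.map_apply] at this ⊢
        exact this.symm
      rw [e1]
      nth_rewrite 2 [e2]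
      rw [Matrix.transpose_smul]
      simp only [Matrix.smul_mul, Matrix.mul_smul, smul_smul, hmult]
      congr 1
      show _ = cf * _
      rw [hcf]
      have := (map_ne_zero T).mpr hx0
      have := (map_ne_zero σ').mpr hδ0
      field_simp
    have hcf0 : (⟨cf, mem_fixedSub.mpr hcfreal⟩ : K) ≠ 0 := fun h0 => by
      have h' : cf = 0 := congrArg Subtype.val h0
      rw [hcf, div_eq_zero_iff] at h'
      rcases h' with h' | h'
      · exact hδ0 ((map_eq_zero σ').mp h')
      · exact mul_ne_zero hδ0 (mul_ne_zero hx0 ((map_ne_zero T).mpr hx0)) h'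
    have hsim := CfsgLib.AutPSL.sesq_semi (1 : K ≃+* K) τK (fun a => rfl) S0m h0 _ hform
    refine ⟨w, h0, σ', τK, ⟨cf, mem_fixedSub.mpr hcfreal⟩, rfl, hcf0, hsim, fun t => ?_, fun hr hτ1 => ?_⟩
    · have hmem' : h0 * Matrix.GeneralLinearGroup.map τK.toRingHom t.1 * h0⁻¹ ∈
          Refl.isoG (1 : K ≃+* K) S0m := by
        intro x y
        have hact : ∀ z : Fin (m + 2) → K, ∃ z0, z = (h0 : Matrix (Fin (m + 2)) (Fin (m + 2)) K) *ᵥ (τK ∘ z0) ∧
            ((h0 * Matrix.GeneralLinearGroup.map τK.toRingHom t.1 * h0⁻¹ : GL (Fin (m + 2)) K) :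
              Matrix (Fin (m + 2)) (Fin (m + 2)) K) *ᵥ z =
            (h0 : Matrix (Fin (m + 2)) (Fin (m + 2)) K) *ᵥ
              (τK ∘ ((t.1 : Matrix (Fin (m + 2)) (Fin (m + 2)) K) *ᵥ z0)) := by
          intro z
          refine ⟨τK.symm ∘ (((h0⁻¹ : GL (Fin (m + 2)) K) : Matrix (Fin (m + 2)) (Fin (m + 2)) K) *ᵥ z), ?_, ?_⟩
          · rw [← Function.comp_assoc, show (τK : K → K) ∘ τK.symm = id from funext fun a => τK.apply_symm_apply a,
              Function.id_comp, Matrix.mulVec_mulVec, ← Units.val_mul, mul_inv_cancel, Units.val_one,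
              Matrix.one_mulVec]
          · rw [Units.val_mul, Units.val_mul, ← Matrix.mulVec_mulVec, ← Matrix.mulVec_mulVec]
            congr 1
            funext i
            simp [Matrix.mulVec, dotProduct, map_sum, map_mul]
        obtain ⟨x0', hx', hx''⟩ := hact x
        obtain ⟨y0', hy', hy''⟩ := hact y
        rw [hx'', hy'', hsim, t.2, ← hsim, ← hx', ← hy']
      refine ⟨⟨_, hmem'⟩, rfl, ?_⟩
      show conjU w * fieldU σ' * conjU (emb t) * (conjU w * fieldU σ')⁻¹ = conjU (emb ⟨_, hmem'⟩)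
      rw [mul_inv_eq_iff_eq_mul, mul_assoc, fieldU_mul_conjU, ← mul_assoc, ← mul_assoc, ← map_mul, ← map_mul]
      congr 2
      apply Subtype.ext
      show w.1 * Matrix.GeneralLinearGroup.map σ'.toRingHom (k * I t.1 * k⁻¹) =
        k * I (h0 * Matrix.GeneralLinearGroup.map τK.toRingHom t.1 * h0⁻¹) * k⁻¹ * w.1
      have e1 : I (Matrix.GeneralLinearGroup.map τK.toRingHom t.1) =
          Matrix.GeneralLinearGroup.map σ'.toRingHom (I t.1) := Units.ext (Matrix.ext fun i j => rfl)
      set Z := Matrix.GeneralLinearGroup.map σ'.toRingHom (I t.1)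
      rw [map_mul, map_mul, map_inv, map_mul, map_mul, map_inv, e1, hIh0]
      rw [← hkσ, hX]
      set C := Matrix.GeneralLinearGroup.scalar (Fin (m + 2)) (Units.mk0 x0 hx0)⁻¹
      have hC : ∀ A : GL (Fin (m + 2)) F, C * A * C⁻¹ = A := fun A => by
        rw [CfsgLib.AutPSL.scalar_mul_comm, mul_inv_cancel_right]
      calc w.1 * (kσ * Z * kσ⁻¹) = k * (k⁻¹ * w.1 * kσ * Z * (k⁻¹ * w.1 * kσ)⁻¹) * k⁻¹ * w.1 := by group
        _ = k * (C * (k⁻¹ * w.1 * kσ * Z * (k⁻¹ * w.1 * kσ)⁻¹) * C⁻¹) * k⁻¹ * w.1 := by rw [hC]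
        _ = _ := by group
    · obtain ⟨r, hr⟩ := hr
      set ru : Fˣ := Units.map K.subtype.toMonoidHom r * Units.mk0 x0 hx0 with hru
      have hXs : X = Matrix.GeneralLinearGroup.scalar (Fin (m + 2)) ru := by
        have e1 : I h0 = Matrix.GeneralLinearGroup.scalar (Fin (m + 2)) (Units.map K.subtype.toMonoidHom r) := by
          rw [hr]; apply Units.ext; ext i j
          by_cases hij : i = j
          · subst hij; simp [I, glIncl]
          · simp [I, glIncl, hij, Matrix.diagonal_apply_ne]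
        rw [hIh0, map_inv, inv_mul_eq_iff_eq_mul, ← map_mul] at e1
        rw [e1, hru, mul_comm]
      have hw : w.1 = k * X * kσ⁻¹ := by rw [hX]; group
      have hσfix : ∀ a, T a = a → σ' a = a := fun a ha =>
        congrArg Subtype.val (DFunLike.congr_fun hτ1 (⟨a, ha⟩ : K))
      obtain ⟨j, hj⟩ := mem_zpowers_of_fixed (σ := T) (τ := σ') hσfix
      have hσ' : σ' = 1 ∨ σ' = T := by
        have h2' : orderOf T = 2 := orderOf_tau hF
        have hj' : T ^ j = σ' := hj
        rw [← zpow_mod_orderOf, h2'] at hj'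
        rcases (show j % ((2 : ℕ) : ℤ) = 0 ∨ j % ((2 : ℕ) : ℤ) = 1 by omega) with hj2 | hj2 <;>
          rw [hj2] at hj'
        · left; rw [← hj', zpow_zero]
        · right; rw [← hj', zpow_one]
      have hscal : ∀ (v : Fˣ) (w' : GUG (m + 2) F q),
          w.1 = Matrix.GeneralLinearGroup.scalar (Fin (m + 2)) v * w'.1 → conjU w = conjU w' := by
        intro v w' e1
        have hmem : Matrix.GeneralLinearGroup.scalar (Fin (m + 2)) v ∈ Cfsg.GU (m + 2) F q := by
          rw [eq_mul_inv_of_mul_eq e1.symm]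
          exact mul_mem w.2 (inv_mem w'.2)
        have hn' : v ∈ normOne F q := by
          rw [mem_normOne_iff hF]
          have h := congrFun (congrFun (gu_gram hF ⟨_, hmem⟩) 0) 0
          simpa [Matrix.diagonal_transpose, Matrix.diagonal_map, Matrix.mul_apply, Matrix.diagonal_apply,
            apply_ite] using h
        rw [show w = scalarU hF ⟨v, hn'⟩ * w' from Subtype.ext (by
          rw [Subgroup.coe_mul, scalarU_coe]; exact e1), map_mul, conjU_scalar, one_mul]
      rcases hσ' with h1 | h1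
      · have e1 : conjU w = 1 := by
          rw [hscal ru 1 (by
            rw [Subgroup.coe_one, mul_one, hw, hXs, hkσ, h1,
              show Matrix.GeneralLinearGroup.map (1 : F ≃+* F).toRingHom k = k from Units.ext (Matrix.ext fun i j => rfl),
              ← CfsgLib.AutPSL.scalar_mul_comm, mul_inv_cancel_right]), map_one]
        rw [e1, h1, map_one, one_mul]
        exact one_mem _
      · have e1 : conjU w = conjU g := by
          refine hscal (ru * eu⁻¹) g ?_
          rw [hw, hXs, hkσ, h1, map_mul (Matrix.GeneralLinearGroup.scalar (Fin (m + 2))) ru eu⁻¹,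
            mul_assoc (Matrix.GeneralLinearGroup.scalar (Fin (m + 2)) ru), ← hg']
          have e2 : g' = k * (Matrix.GeneralLinearGroup.map T.toRingHom k)⁻¹ := eq_mul_inv_of_mul_eq hk
          rw [e2, ← mul_assoc (Matrix.GeneralLinearGroup.scalar (Fin (m + 2)) ru),
            CfsgLib.AutPSL.scalar_mul_comm]
        rw [e1, h1]
        exact Subgroup.mem_zpowers _
  -- inner elements fixed by `β`
  have hinnerρ : ∀ t : Refl.isoG (1 : K ≃+* K) S0m,
      (t.1 : Matrix (Fin (m + 2)) (Fin (m + 2)) K).det = 1 → ∃ x ∈ fixedPts β, MulAut.conj x = ρ t := by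
    intro t hdet
    have hd : (((emb t).1 : GL (Fin (m + 2)) F) : Mat (m + 2) F).det = 1 := by
      show ((k * I t.1 * k⁻¹ : GL (Fin (m + 2)) F) : Mat (m + 2) F).det = 1
      rw [Units.val_mul, Units.val_mul, CfsgLib.AutPSL.det_gl_conj]
      show ((t.1 : Matrix (Fin (m + 2)) (Fin (m + 2)) K).map K.subtype).det = 1
      rw [← RingHom.mapMatrix_apply, ← RingHom.map_det, hdet, map_one]
    let s : SUG (m + 2) F q := ⟨⟨_, hd⟩, (emb t).2⟩
    have hs' : MulAut.conj (QuotientGroup.mk s : PSUG (m + 2) F q) = ρ t := by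
      rw [← conjU_su]
      exact congrArg conjU (Subtype.ext (Units.ext rfl))
    refine ⟨QuotientGroup.mk s, ?_, hs'⟩
    show β (QuotientGroup.mk s) = QuotientGroup.mk s
    apply psuConj_injective hF hm
    rw [← conj_map, hs', ← hρc, mul_inv_cancel_right]
  -- main dichotomy
  obtain ⟨hcentral, hlines⟩ :
      (∀ M : Subgroup (MulAut (PSUG (m + 2) F q)), Odd (Nat.card M) →
        (∀ v, v * β = β * v → ∀ y ∈ M, v * y * v⁻¹ ∈ M) → (∀ y ∈ M, y * β = β * y) →
          ∀ y ∈ M, y ∈ Subgroup.zpowers β) ∧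
      (∀ u, u * β = β * u → (∀ x ∈ fixedPts β, u x = x) → u ∈ Subgroup.zpowers β) := by
    have hfixρ : ∀ u : MulAut (PSUG (m + 2) F q), (∀ x ∈ fixedPts β, u x = x) →
        ∀ t : Refl.isoG (1 : K ≃+* K) S0m, (t.1 : Matrix (Fin (m + 2)) (Fin (m + 2)) K).det = 1 →
          u * ρ t * u⁻¹ = ρ t := by
      intro u hu t hdet
      obtain ⟨x, hx, hxt⟩ := hinnerρ t hdet
      rw [← hxt, conj_map, hu x hx]
    rcases hc2 with hc1 | hc1
    · have hB : Refl.IsForm (1 : K ≃+* K) S0m := by
        refine ⟨fun _ => rfl, Matrix.ext fun i j => Subtype.ext ?_, hS0det, h2K⟩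
        show ((S0m j i : K) : F) = _
        rw [hS0t, hc1, one_mul]
      have hρ' : ∀ t, ρ t = 1 →
          ∃ u : Kˣ, (t : GL (Fin (m + 2)) K) = Matrix.GeneralLinearGroup.scalar (Fin (m + 2)) u :=
        fun t h => (hρ t).mp h
      have himg : ∀ u, u * β = β * u → ∀ a, sesq (1 : K ≃+* K) S0m a a ≠ 0 →
          ∃ b, sesq (1 : K ≃+* K) S0m b b ≠ 0 ∧
            u * Refl.R hB ρ a * u⁻¹ = Refl.R hB ρ b := by
        intro u hu a ha
        obtain ⟨w, h0, σ', τK, c', -, hc', hsim, hact, -⟩ := hcen u hu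
        refine ⟨(h0 : Matrix (Fin (m + 2)) (Fin (m + 2)) K) *ᵥ (τK ∘ a),
          by rw [hsim]; exact mul_ne_zero hc' ((map_ne_zero τK).mpr ha), ?_⟩
        obtain ⟨t', ht', e1⟩ := hact ⟨_, Refl.refl_mem hB a⟩
        rw [Refl.R, e1]
        refine congrArg ρ (Subtype.ext ?_)
        rw [ht', Refl.semi_refl h0 τK c' hc' hsim a, mul_inv_cancel_right]
      have htriv : ∀ u, u * β = β * u → (∀ a, sesq (1 : K ≃+* K) S0m a a ≠ 0 →
          u * Refl.R hB ρ a = Refl.R hB ρ a * u) → u ∈ Subgroup.zpowers β := by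
        intro u hu hall
        obtain ⟨w, h0, σ', τK, c', -, hc', hsim, hact, hfin⟩ := hcen u hu
        obtain ⟨h1, h2'⟩ := Refl.eq_scalar_of_lines hB hn h0 τK fun a ha => by
          obtain ⟨t', ht', e1⟩ := hact ⟨_, Refl.refl_mem hB a⟩
          have e2 : Refl.R hB ρ a = Refl.R hB ρ ((h0 : Matrix (Fin (m + 2)) (Fin (m + 2)) K) *ᵥ (τK ∘ a)) := by
            have e3 : u * Refl.R hB ρ a * u⁻¹ = Refl.R hB ρ a := by rw [hall a ha, mul_inv_cancel_right]
            rw [← e3, Refl.R, e1]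
            refine congrArg ρ (Subtype.ext ?_)
            rw [ht', Refl.semi_refl h0 τK c' hc' hsim a, mul_inv_cancel_right]
          obtain ⟨μ, hμ⟩ := Refl.par_of_R_eq hB ρ hρ' hn ha e2
          refine ⟨μ⁻¹, ?_⟩
          have hμ0 : μ ≠ 0 := fun h => ha (by rw [hμ, h, zero_smul, Refl.sesq_zero_left])
          calc (h0 : Matrix (Fin (m + 2)) (Fin (m + 2)) K) *ᵥ (τK ∘ a)
              = μ⁻¹ • μ • ((h0 : Matrix (Fin (m + 2)) (Fin (m + 2)) K) *ᵥ (τK ∘ a)) := by
                rw [smul_smul, inv_mul_cancel₀ hμ0, one_smul]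
            _ = μ⁻¹ • a := by rw [← hμ]
        exact hfin h1 h2'
      refine ⟨fun M hodd hnorm hMc y hy => htriv y (hMc y hy) (Refl.centralizes_of_odd hB ρ hρ' hn M hodd
        (fun a _ y' hy' => by
          have h1 := hnorm _ (hρc ⟨_, Refl.refl_mem hB a⟩) y' hy'
          change Refl.R hB ρ a * y' * (Refl.R hB ρ a)⁻¹ ∈ M at h1
          rwa [inv_eq_of_mul_eq_one_left (Refl.R_mul_self hB ρ a)] at h1)
        (fun y' hy' a ha => himg y' (hMc y' hy') a ha) y hy), fun u hu hfix => ?_⟩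
      refine htriv u hu (Refl.commutes_of_fix hB ρ hρ' hn u (himg u hu) fun a b ha hb => ?_)
      rw [Refl.R, Refl.R, ← map_mul]
      refine hfixρ u hfix _ ?_
      rw [Subgroup.coe_mul, Units.val_mul, Matrix.det_mul, CfsgLib.AutPSL.det_refl ha,
        CfsgLib.AutPSL.det_refl hb, neg_mul_neg, one_mul]
    · have hS : (S0 : Matrix (Fin (m + 2)) (Fin (m + 2)) K)ᵀ = -(S0 : Matrix (Fin (m + 2)) (Fin (m + 2)) K) := by
        refine Matrix.ext fun i j => Subtype.ext ?_
        show ((S0m j i : K) : F) = _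
        rw [hS0t, hc1, neg_one_mul]
        rfl
      have htriv : ∀ u, u * β = β * u → (∀ t, u * ρ t * u⁻¹ = ρ t) → u ∈ Subgroup.zpowers β := by
        intro u hu hall
        obtain ⟨w, h0, σ', τK, c', -, hc', hsim, hact, hfin⟩ := hcen u hu
        obtain ⟨h1, h2'⟩ := Refl.sp_scalar_of_commute (S := S0) hn h2K hS ρ hρ h0 τK c' hc' hsim
          fun t t' ht' => by
            obtain ⟨t'', ht'', e1⟩ := hact t
            rw [show t' = t'' from Subtype.ext (ht'.trans ht''.symm)]
            exact e1.symm.trans (hall t)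
        exact hfin h1 h2'
      refine ⟨fun M hodd hnorm hMc y hy => htriv y (hMc y hy) fun t => ?_, fun u hu hfix => htriv u hu fun t => ?_⟩
      · have := Refl.sp_centralizes (S := S0) hn h2K hS ρ hρ M hodd
          (fun t y' hy' => hnorm _ (hρc t) y' hy') (fun y' hy' t => by
            obtain ⟨w, h0, σ', τK, c', -, -, -, hact, -⟩ := hcen y' (hMc y' hy')
            obtain ⟨t', -, e1⟩ := hact t
            exact ⟨t', e1⟩) y hy t
        exact mul_inv_eq_iff_eq_mul.mpr this
      · obtain ⟨m', Φ, -, hsurj, hdet, -⟩ := Refl.exists_sp_param S0 h2K hS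
        obtain ⟨A, rfl⟩ := hsurj t
        exact hfixρ u hfix _ (hdet A)
  refine ⟨?_, fun u hu hfix => hlines u hu hfix⟩
  rw [eq_bot_iff]
  intro x hxN
  have h := hcentral (AutBalance.coreImage 2 β) (AutBalance.coreImage_odd β)
    (fun v hv y hy => AutBalance.coreImage_conj hv hy)
    (fun y hy => by
      obtain ⟨x', -, rfl⟩ := hy
      exact Subgroup.mem_centralizer_singleton_iff.mp (conj_mem_centralizer x'.2))
    (MulAut.conj (x.1 : PSUG (m + 2) F q)) ⟨x, hxN, rfl⟩
  obtain ⟨j, hj⟩ := h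
  have hj' : β ^ j = MulAut.conj (x.1 : PSUG (m + 2) F q) := hj
  have hordβ : orderOf β ∣ 2 := orderOf_dvd_of_pow_eq_one hx
  rw [Subgroup.mem_bot]
  refine Subtype.ext (psuConj_injective hF hm ?_)
  rw [Subgroup.coe_one, map_one, ← hj']
  rcases Int.even_or_odd j with ⟨i, hi⟩ | ⟨i, hi⟩
  · rw [hi, ← two_mul, _root_.zpow_mul, show β ^ (2 : ℤ) = 1 by exact_mod_cast hx, _root_.one_zpow]
  · exfalso
    rw [hi, _root_.zpow_add, _root_.zpow_mul, show β ^ (2 : ℤ) = 1 by exact_mod_cast hx, _root_.one_zpow, one_mul, zpow_one] at hj'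
    obtain ⟨s, hs'⟩ := QuotientGroup.mk_surjective (x.1 : PSUG (m + 2) F q)
    rw [← hs', ← conjU_su] at hj'
    have := field_eq_one_of_conjU hF hm (g := g⁻¹ * suToGU s) (σ := T)
      (by rw [map_mul, map_inv, ← hj', hβ, inv_mul_cancel_left])
    have h2' := orderOf_tau hF
    rw [← hT, this, orderOf_one] at h2'
    omega

end CfsgLib.AutPSU
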