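import Cfsg.Prelude.Def_LieTypeDatum
import Cfsg.Prelude.Def_ClassicalGeometry
import Cfsg.Agent.Lib.AutPSL.Basic
import Cfsg.Agent.Lib.ClassicalGroups.HermGroup

/-!
Automorphisms of `PSU_n(q)` induced by unitary matrices and field automorphisms; transvections in
`PSU_n(q)`.
-/

set_option autoImplicit false
set_option linter.unusedSectionVars false

namespace CfsgLib.AutPSU

open Matrix Cfsg CfsgLib.ClassicalGroups

variable {n : ℕ} {F : Type*} [Field F] [Fintype F] {q : ℕ}

abbrev Vec (n : ℕ) (F : Type*) := Fin n → F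
abbrev Mat (n : ℕ) (F : Type*) := Matrix (Fin n) (Fin n) F
abbrev SUG (n : ℕ) (F : Type*) [Field F] (q : ℕ) := ↥(Cfsg.SU n F q)
abbrev PSUG (n : ℕ) (F : Type*) [Field F] (q : ℕ) := Cfsg.PSU n F q

/-- The matrix of an element of `SU`. -/
abbrev mat (g : SUG n F q) : Mat n F := (g : Matrix.SpecialLinearGroup (Fin n) F).1

/-- The Hermitian form. -/
abbrev hh (q : ℕ) (u v : Vec n F) : F := Cfsg.hermForm n F q u v

theorem mat_mul (g h : SUG n F q) : mat (g * h) = mat g * mat h := rfl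
theorem mat_one : mat (1 : SUG n F q) = 1 := rfl

theorem mat_mul_inv (g : SUG n F q) : mat g * mat g⁻¹ = 1 := by
  rw [← mat_mul, mul_inv_cancel, mat_one]

theorem mat_inv_mul (g : SUG n F q) : mat g⁻¹ * mat g = 1 := by
  rw [← mat_mul, inv_mul_cancel, mat_one]

theorem inv_mat_mulVec (g : SUG n F q) (x : Vec n F) : mat g⁻¹ *ᵥ (mat g *ᵥ x) = x := by
  rw [mulVec_mulVec, mat_inv_mul, one_mulVec]

theorem mat_inv_mulVec (g : SUG n F q) (x : Vec n F) : mat g *ᵥ (mat g⁻¹ *ᵥ x) = x := by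
  rw [mulVec_mulVec, mat_mul_inv, one_mulVec]

theorem mat_injective : Function.Injective (mat : SUG n F q → Mat n F) :=
  fun _ _ h => Subtype.ext (Subtype.ext h)

theorem mat_ext {g h : SUG n F q} (H : ∀ x, mat g *ᵥ x = mat h *ᵥ x) : g = h :=
  mat_injective (Matrix.ext_of_mulVec_single fun j => H _)

theorem h_mat (g : SUG n F q) (x y : Vec n F) : hh q (mat g *ᵥ x) (mat g *ᵥ y) = hh q x y :=
  g.2 x y

theorem h_add_left (x y v : Vec n F) : hh q (x + y) v = hh q x v + hh q y v :=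
  hermForm_add_left n x y v

theorem h_sub_left (x y v : Vec n F) : hh q (x - y) v = hh q x v - hh q y v :=
  hermForm_sub_left n x y v

theorem h_smul_left (c : F) (x v : Vec n F) : hh q (c • x) v = c * hh q x v :=
  hermForm_smul_left n c x v

theorem h_zero_left (v : Vec n F) : hh q (0 : Vec n F) v = 0 := by simp [hh, Cfsg.hermForm]

section hFsec
variable (hF : Fintype.card F = q ^ 2)
include hF

/-- The involution `x ↦ x^q`. -/
noncomputable def tau : F ≃+* F :=
  RingEquiv.ofBijective (hermConj hF) (Finite.injective_iff_bijective.mp (hermConj hF).injective)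

theorem tau_apply (x : F) : tau hF x = x ^ q := rfl

theorem tau_tau (x : F) : tau hF (tau hF x) = x := hermConj_conj hF x

theorem tau_ne : ∃ a : F, tau hF a ≠ a := by
  by_contra h
  push Not at h
  classical
  have hq := herm_two_le hF
  have hsub : (Finset.univ : Finset F) ⊆ ((Polynomial.X ^ q - Polynomial.X : Polynomial F)).roots.toFinset := by
    intro x _
    rw [Multiset.mem_toFinset, Polynomial.mem_roots (FiniteField.X_pow_card_sub_X_ne_zero F (by omega))]
    simp only [Polynomial.IsRoot.def, Polynomial.eval_sub, Polynomial.eval_pow, Polynomial.eval_X]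
    rw [← tau_apply hF, h, sub_self]
  have h1 := (Finset.card_le_card hsub).trans (Multiset.toFinset_card_le _)
  have h2 := h1.trans (Polynomial.card_roots' _)
  rw [Finset.card_univ, FiniteField.X_pow_card_sub_X_natDegree_eq F (by omega), hF] at h2
  nlinarith

theorem exists_trace_unit : ∃ e : F, e + tau hF e ≠ 0 := by
  by_contra h
  push Not at h
  obtain ⟨a, ha⟩ := tau_ne hF
  have h1 : (1 : F) + 1 = 0 := by simpa using h 1
  apply ha
  linear_combination h a - a * h1

theorem exists_trace {b : F} (hb : tau hF b = b) : ∃ e : F, e + tau hF e = b := by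
  obtain ⟨e, he⟩ := exists_trace_unit hF
  refine ⟨b / (e + tau hF e) * e, ?_⟩
  rw [map_mul, map_div₀, map_add, tau_tau, hb, add_comm (tau hF e) e]
  field_simp

theorem exists_skew : ∃ s : F, s ≠ 0 ∧ tau hF s = -s := by
  obtain ⟨a, ha⟩ := tau_ne hF
  refine ⟨a - tau hF a, sub_ne_zero.mpr (Ne.symm ha), ?_⟩
  rw [map_sub, tau_tau, neg_sub]

theorem h_tau (u v : Vec n F) : tau hF (hh q u v) = hh q v u := (hermForm_symm hF n u v).symm

theorem h_add_right (x v w : Vec n F) : hh q x (v + w) = hh q x v + hh q x w := by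
  rw [← h_tau hF (v + w) x, h_add_left, map_add, h_tau hF, h_tau hF]

theorem h_sub_right (x v w : Vec n F) : hh q x (v - w) = hh q x v - hh q x w :=
  hermForm_sub_right hF n x v w

theorem h_smul_right (c : F) (x v : Vec n F) : hh q x (c • v) = tau hF c * hh q x v :=
  hermForm_smul_right n c x v

theorem h_zero_right (x : Vec n F) : hh q x (0 : Vec n F) = 0 := by
  rw [← h_tau hF 0 x, h_zero_left, map_zero]

theorem h_self_fixed (v : Vec n F) : tau hF (hh q v v) = hh q v v := h_tau hF v v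

theorem exists_h_ne_zero {v : Vec n F} (hv : v ≠ 0) : ∃ x, hh q x v ≠ 0 := by
  obtain ⟨i, hi⟩ : ∃ i, v i ≠ 0 := by
    by_contra h; push Not at h; exact hv (funext h)
  refine ⟨Pi.single i 1, fun h => hi ?_⟩
  have h2 := congrArg (tau hF) h
  rwa [h_tau, map_zero, hh, hermForm_single_right hF] at h2

theorem eq_zero_of_h_eq_zero {v : Vec n F} (h : ∀ x, hh q x v = 0) : v = 0 := by
  by_contra hv
  obtain ⟨x, hx⟩ := exists_h_ne_zero hF hv
  exact hx (h x)

theorem eq_of_h_eq {v w : Vec n F} (h : ∀ x, hh q x v = hh q x w) : v = w :=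
  sub_eq_zero.mp (eq_zero_of_h_eq_zero hF fun x => by rw [h_sub_right hF, h, sub_self])

theorem tau_map (σ : F ≃+* F) (x : F) : σ (tau hF x) = tau hF (σ x) := map_pow σ x q

end hFsec

theorem h_map (σ : F ≃+* F) (u v : Vec n F) : σ (hh q u v) = hh q (σ ∘ u) (σ ∘ v) := by
  simp [hh, Cfsg.hermForm, map_sum, map_mul, map_pow]

theorem map_mulVec (σ : F ≃+* F) (M : Mat n F) (v : Vec n F) :
    M.map σ *ᵥ (σ ∘ v) = σ ∘ (M *ᵥ v) := by
  funext i; simp [Matrix.mulVec, dotProduct, map_sum, map_mul]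

theorem gl_inv_mulVec (g : GL (Fin n) F) (x : Vec n F) :
    ((g⁻¹ : GL (Fin n) F) : Mat n F) *ᵥ ((g : Mat n F) *ᵥ x) = x := by
  rw [mulVec_mulVec, ← Units.val_mul, inv_mul_cancel, Units.val_one, one_mulVec]

theorem gl_mulVec_inv (g : GL (Fin n) F) (x : Vec n F) :
    (g : Mat n F) *ᵥ (((g⁻¹ : GL (Fin n) F) : Mat n F) *ᵥ x) = x := by
  rw [mulVec_mulVec, ← Units.val_mul, mul_inv_cancel, Units.val_one, one_mulVec]

abbrev GUG (n : ℕ) (F : Type*) [Field F] (q : ℕ) := ↥(Cfsg.GU n F q)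

theorem h_gu (g : GUG n F q) (x y : Vec n F) :
    hh q ((g.1 : Mat n F) *ᵥ x) ((g.1 : Mat n F) *ᵥ y) = hh q x y := g.2 x y

/-- The inclusion `SU → GU`. -/
def suToGU : SUG n F q →* GUG n F q :=
  (Matrix.SpecialLinearGroup.toGL.comp (Cfsg.SU n F q).subtype).codRestrict _ fun s => s.2

theorem suToGU_coe (s : SUG n F q) : ((suToGU s).1 : Mat n F) = mat s := rfl

theorem gu_conj_mem (g : GUG n F q) (s : SUG n F q) :
    CfsgLib.AutPSL.slConj g.1 s.1 ∈ Cfsg.SU n F q := by
  intro u v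
  show hh q ((CfsgLib.AutPSL.slConj g.1 s.1).1 *ᵥ u) ((CfsgLib.AutPSL.slConj g.1 s.1).1 *ᵥ v) = _
  rw [CfsgLib.AutPSL.slConj_coe, ← mulVec_mulVec, ← mulVec_mulVec, ← mulVec_mulVec, ← mulVec_mulVec,
    h_gu, h_mat, ← h_gu g, gl_mulVec_inv, gl_mulVec_inv]

def suConjFun (g : GUG n F q) (s : SUG n F q) : SUG n F q := ⟨_, gu_conj_mem g s⟩

def suConj : GUG n F q →* MulAut (SUG n F q) where
  toFun g :=
    { toFun := suConjFun g
      invFun := suConjFun g⁻¹
      left_inv := fun s => Subtype.ext (by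
        show CfsgLib.AutPSL.slConj (g⁻¹).1 (CfsgLib.AutPSL.slConj g.1 s.1) = s.1
        rw [← MulAut.mul_apply, ← map_mul, ← Subgroup.coe_mul, inv_mul_cancel, Subgroup.coe_one,
          map_one]
        rfl)
      right_inv := fun s => Subtype.ext (by
        show CfsgLib.AutPSL.slConj g.1 (CfsgLib.AutPSL.slConj (g⁻¹).1 s.1) = s.1
        rw [← MulAut.mul_apply, ← map_mul, ← Subgroup.coe_mul, mul_inv_cancel, Subgroup.coe_one,
          map_one]
        rfl)
      map_mul' := fun s t => Subtype.ext (map_mul (CfsgLib.AutPSL.slConj g.1) s.1 t.1) }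
  map_one' := MulEquiv.ext fun s => Subtype.ext (by
    show CfsgLib.AutPSL.slConj ((1 : GUG n F q)).1 s.1 = s.1
    rw [Subgroup.coe_one, map_one]; rfl)
  map_mul' g h := MulEquiv.ext fun s => Subtype.ext (by
    show CfsgLib.AutPSL.slConj ((g * h : GUG n F q)).1 s.1 = _
    rw [Subgroup.coe_mul, map_mul]; rfl)

theorem suConj_mat (g : GUG n F q) (s : SUG n F q) :
    mat (suConj g s) = (g.1 : Mat n F) * mat s * ((g.1⁻¹ : GL (Fin n) F) : Mat n F) := rfl

theorem map_mem_su (σ : F ≃+* F) (s : SUG n F q) :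
    CfsgLib.AutPSL.slField σ s.1 ∈ Cfsg.SU n F q := by
  intro u v
  show hh q ((mat s).map σ *ᵥ u) ((mat s).map σ *ᵥ v) = hh q u v
  have e : ∀ x : Vec n F, σ ∘ (σ.symm ∘ x) = x := fun x => by ext; simp
  rw [← e u, ← e v, map_mulVec, map_mulVec, ← h_map, h_mat, h_map]

def suFieldEquiv (σ : F ≃+* F) : MulAut (SUG n F q) where
  toFun s := ⟨_, map_mem_su σ s⟩
  invFun s := ⟨_, map_mem_su σ⁻¹ s⟩
  left_inv s := Subtype.ext (by
    show CfsgLib.AutPSL.slField σ⁻¹ (CfsgLib.AutPSL.slField σ s.1) = s.1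
    rw [← MulAut.mul_apply, ← map_mul, inv_mul_cancel, map_one]; rfl)
  right_inv s := Subtype.ext (by
    show CfsgLib.AutPSL.slField σ (CfsgLib.AutPSL.slField σ⁻¹ s.1) = s.1
    rw [← MulAut.mul_apply, ← map_mul, mul_inv_cancel, map_one]; rfl)
  map_mul' s t := Subtype.ext (map_mul (CfsgLib.AutPSL.slField σ) s.1 t.1)

def suField : (F ≃+* F) →* MulAut (SUG n F q) where
  toFun := suFieldEquiv
  map_one' := MulEquiv.ext fun s => by apply mat_injective; rfl
  map_mul' a b := MulEquiv.ext fun s => by apply mat_injective; rfl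

theorem suField_mat (σ : F ≃+* F) (s : SUG n F q) : mat (suField σ s) = (mat s).map σ := rfl

noncomputable def conjU : GUG n F q →* MulAut (PSUG n F q) :=
  (CfsgLib.AutPSL.descendAut _).comp suConj

noncomputable def fieldU : (F ≃+* F) →* MulAut (PSUG n F q) :=
  (CfsgLib.AutPSL.descendAut _).comp suField

theorem conjU_mk (g : GUG n F q) (s : SUG n F q) :
    conjU g (QuotientGroup.mk s : PSUG n F q) = QuotientGroup.mk (suConj g s) := rfl

theorem fieldU_mk (σ : F ≃+* F) (s : SUG n F q) :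
    fieldU σ (QuotientGroup.mk s : PSUG n F q) = QuotientGroup.mk (suField σ s) := rfl

theorem conjU_su (a : SUG n F q) :
    conjU (suToGU a) = MulAut.conj (QuotientGroup.mk a : PSUG n F q) := by
  apply MulEquiv.ext
  intro x
  induction x using QuotientGroup.induction_on with
  | H t =>
    rw [conjU_mk, MulAut.conj_apply, ← QuotientGroup.mk_inv, ← QuotientGroup.mk_mul,
      ← QuotientGroup.mk_mul]
    refine congrArg _ (mat_injective ?_)
    rw [suConj_mat, show ((suToGU a).1)⁻¹ = (suToGU a⁻¹).1 from by rw [map_inv]; rfl]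
    rfl

theorem glField_mem_gu (σ : F ≃+* F) (g : GUG n F q) :
    Matrix.GeneralLinearGroup.map σ.toRingHom g.1 ∈ Cfsg.GU n F q := by
  intro u v
  show hh q ((g.1 : Mat n F).map σ *ᵥ u) ((g.1 : Mat n F).map σ *ᵥ v) = hh q u v
  have e : ∀ x : Vec n F, σ ∘ (σ.symm ∘ x) = x := fun x => by ext; simp
  rw [← e u, ← e v, map_mulVec, map_mulVec, ← h_map, h_gu, h_map]

/-- Field automorphisms act on unitary matrices. -/
def guField (σ : F ≃+* F) : GUG n F q →* GUG n F q :=
  ((Matrix.GeneralLinearGroup.map σ.toRingHom).comp (Cfsg.GU n F q).subtype).codRestrict _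
    (glField_mem_gu σ)

theorem guField_coe (σ : F ≃+* F) (g : GUG n F q) :
    ((guField σ g).1 : Mat n F) = (g.1 : Mat n F).map σ := rfl

theorem fieldU_mul_conjU (σ : F ≃+* F) (g : GUG n F q) :
    fieldU σ * conjU g = conjU (guField σ g) * fieldU σ := by
  rw [fieldU, conjU]
  simp only [MonoidHom.comp_apply, ← map_mul]
  congr 1
  apply MulEquiv.ext; intro s; apply mat_injective
  show ((g.1 : Mat n F) * mat s * _).map σ = _ * (mat s).map σ * _
  rw [Matrix.map_mul, Matrix.map_mul, guField_coe]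
  have h : ((guField σ g).1)⁻¹ = Matrix.GeneralLinearGroup.map σ.toRingHom g.1⁻¹ := (map_inv _ _).symm
  rw [h]
  rfl

theorem det_eq_one_of_pow_eq_zero {p : ℕ} [Fact p.Prime] [CharP F p] {A : Mat n F} {k : ℕ}
    (h : (A - 1) ^ k = 0) : A.det = 1 := by
  rcases Nat.eq_zero_or_pos n with rfl | hn
  · exact Matrix.det_isEmpty
  have : Nonempty (Fin n) := ⟨⟨0, hn⟩⟩
  have h1 : A ^ p ^ k = 1 := by
    have e := add_pow_char_pow_of_commute p k (Commute.one_right (A - 1))
    rw [sub_add_cancel, one_pow, pow_eq_zero_of_le (Nat.lt_pow_self (Fact.out : p.Prime).one_lt).le h,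
      zero_add] at e
    exact e
  have h2 := congrArg Matrix.det h1
  rw [Matrix.det_pow, Matrix.det_one] at h2
  exact (iterateFrobenius_inj F p k) (by rw [iterateFrobenius_def, iterateFrobenius_def, h2, one_pow])

theorem exists_su_of_nilp (L : Vec n F →ₗ[F] Vec n F)
    (hL : ∀ x y, hh q (L x) (L y) = hh q x y) {k : ℕ} (hk : (L - 1) ^ k = 0) :
    ∃ g : SUG n F q, ∀ x, mat g *ᵥ x = L x := by
  obtain ⟨p, hp⟩ := CharP.exists F
  have : Fact p.Prime := ⟨CharP.char_is_prime F p⟩
  have hdet : (LinearMap.toMatrix' L).det = 1 := by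
    refine det_eq_one_of_pow_eq_zero (p := p) (k := k) ?_
    show (LinearMap.toMatrixAlgEquiv' L - 1) ^ k = 0
    rw [← map_one LinearMap.toMatrixAlgEquiv', ← map_sub, ← map_pow, hk, map_zero]
  have hval : ∀ x, LinearMap.toMatrix' L *ᵥ x = L x := LinearMap.toMatrix'_mulVec L
  exact ⟨⟨⟨LinearMap.toMatrix' L, hdet⟩, fun u v => by
    show hh q (LinearMap.toMatrix' L *ᵥ u) (LinearMap.toMatrix' L *ᵥ v) = _
    rw [hval, hval, hL]⟩, hval⟩

end CfsgLib.AutPSU
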