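import Cfsg.Agent.Lib.AutPSU.Kernel
import Cfsg.Agent.Lib.AutPSL.FieldGalois

/-!
The order of `Aut(PSU_n(q))`.
-/

set_option autoImplicit false
set_option linter.unusedSectionVars false

namespace CfsgLib.AutPSU

open Matrix Cfsg CfsgLib.ClassicalGroups

variable {m : ℕ} {F : Type*} [Field F] [Fintype F] {q : ℕ}

/-- An inner-diagonal field automorphism is trivial. -/
theorem field_eq_one_of_conjU (hF : Fintype.card F = q ^ 2) (hm : 1 ≤ m) {g : GUG (m + 2) F q}
    {σ : F ≃+* F} (h : conjU g = fieldU σ) : σ = 1 := by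
  classical
  have hpow : ∀ u : normOne F q, σ ((u : Fˣ) : F) = ((u : Fˣ) : F) := by
    intro u
    obtain ⟨d, -, hd⟩ := exists_diag hF (n := m + 2) (by omega) u
    set w : Fin (m + 2) → F := fun i => if i = ⟨0, by omega⟩ then ((u : Fˣ) : F) else 1 with hw
    have e : conjU (g * d * g⁻¹) = conjU (guField σ d) := by
      rw [map_mul, map_mul, map_inv, h, fieldU_mul_conjU, mul_inv_cancel_right]
    obtain ⟨v, hv⟩ := (conjU_eq_iff hF hm).mp e
    set c : F := ((v : Fˣ) : F) with hc
    have hmat : Matrix.diagonal (fun i => σ (w i)) =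
        c • ((g.1 : Mat (m + 2) F) * Matrix.diagonal w * ((g.1⁻¹ : GL (Fin (m + 2)) F) : Mat (m + 2) F)) := by
      have h1 : ((guField σ d).1 : Mat (m + 2) F) = c • ((g * d * g⁻¹ : GUG (m + 2) F q).1 : Mat (m + 2) F) := by
        rw [hv, Subgroup.coe_mul, Units.val_mul, scalarU_coe]
        ext i j
        simp [Matrix.scalar_apply, Matrix.mul_diagonal, mul_comm, hc]
      rw [guField_coe, hd, Matrix.diagonal_map (map_zero σ)] at h1
      refine h1.trans ?_
      rw [Subgroup.coe_mul, Subgroup.coe_mul, Units.val_mul, Units.val_mul, hd]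
      rfl
    have hinv : (g.1 : Mat (m + 2) F) * ((g.1⁻¹ : GL (Fin (m + 2)) F) : Mat (m + 2) F) = 1 := by
      rw [← Units.val_mul, mul_inv_cancel, Units.val_one]
    have hc1 : c = 1 := by
      by_contra hne
      have hsub : Matrix.diagonal (fun i => σ (w i) - c) =
          c • ((g.1 : Mat (m + 2) F) * Matrix.diagonal (fun i => w i - 1) *
            ((g.1⁻¹ : GL (Fin (m + 2)) F) : Mat (m + 2) F)) := by
        have e1 : Matrix.diagonal (fun i => w i - 1) = Matrix.diagonal w - 1 := by
          rw [← Matrix.diagonal_one, Matrix.diagonal_sub]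
        have e2 : Matrix.diagonal (fun i => σ (w i) - c) = Matrix.diagonal (fun i => σ (w i)) - c • 1 := by
          rw [← Matrix.diagonal_one, ← Matrix.diagonal_smul, Matrix.diagonal_sub]
          congr 1; funext i; simp
        rw [e1, e2, hmat, mul_sub, sub_mul, mul_one, hinv, smul_sub]
      have hr : (Matrix.diagonal (fun i => σ (w i) - c)).rank ≤ 1 := by
        rw [hsub]
        have hA : (c • (g.1 : Mat (m + 2) F)) * Matrix.diagonal (fun i => w i - 1) *
            ((g.1⁻¹ : GL (Fin (m + 2)) F) : Mat (m + 2) F) =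
            c • ((g.1 : Mat (m + 2) F) * Matrix.diagonal (fun i => w i - 1) *
            ((g.1⁻¹ : GL (Fin (m + 2)) F) : Mat (m + 2) F)) := by
          rw [Matrix.smul_mul, Matrix.smul_mul]
        rw [← hA]
        refine ((Matrix.rank_mul_le_left _ _).trans (Matrix.rank_mul_le_right _ _)).trans ?_
        rw [Matrix.rank_diagonal]
        refine Fintype.card_le_one_iff.mpr fun a b => Subtype.ext ?_
        have ha := a.2; have hb := b.2
        simp only [hw] at ha hb
        split_ifs at ha hb with h1 h2 <;> first | exact h1.trans h2.symm | exact absurd (sub_self _) (by assumption)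
      rw [Matrix.rank_diagonal] at hr
      have h01 := Fintype.card_le_one_iff.mp hr
        ⟨⟨1, by omega⟩, by simp [hw, sub_ne_zero, Ne.symm hne]⟩
        ⟨⟨2, by omega⟩, by simp [hw, sub_ne_zero, Ne.symm hne]⟩
      simp [Subtype.ext_iff] at h01
    have htr := congrArg Matrix.trace hmat
    rw [hc1, one_smul, Matrix.trace_mul_cycle, ← Units.val_mul, inv_mul_cancel, Units.val_one,
      one_mul, Matrix.trace_diagonal, Matrix.trace_diagonal, Fin.sum_univ_succ,
      Fin.sum_univ_succ (f := w)] at htr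
    have hw0 : w 0 = ((u : Fˣ) : F) := if_pos rfl
    have hws : ∀ i : Fin (m + 1), w i.succ = 1 := fun i => if_neg fun e => by
      have := congrArg Fin.val e
      simp only [Fin.val_succ] at this
      omega
    simp only [hw0, hws, map_one] at htr
    exact add_right_cancel htr
  by_contra hne
  set K := CfsgLib.FieldGalois.fixedSub σ
  have hq := herm_two_le hF
  have hr2 : 2 ≤ orderOf σ := by
    have := orderOf_pos σ
    have : orderOf σ ≠ 1 := fun e => hne (orderOf_eq_one_iff.mp e)
    omega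
  have hK : Nat.card K ≤ q := by
    have h1 := CfsgLib.FieldGalois.natCard_fixedSub σ
    rw [Nat.card_eq_fintype_card (α := F), hF] at h1
    have h2 : Nat.card K ^ 2 ≤ q ^ 2 := h1 ▸ Nat.pow_le_pow_right Nat.card_pos hr2
    exact (Nat.pow_le_pow_iff_left two_ne_zero).mp h2
  have hle : Nat.card (normOne F q) ≤ Nat.card K :=
    Nat.card_le_card_of_injective (fun u => (⟨((u : Fˣ) : F), hpow u⟩ : K)) fun a b e =>
      Subtype.ext (Units.ext (congrArg Subtype.val e))
  rw [card_norm_one_units hF] at hle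
  omega

theorem card_range_conjU (hF : Fintype.card F = q ^ 2) (hm : 1 ≤ m) :
    Nat.card (conjU : GUG (m + 2) F q →* MulAut (PSUG (m + 2) F q)).range =
      Nat.card (Cfsg.SU (m + 2) F q) := by
  have hker : (conjU : GUG (m + 2) F q →* _).ker = (scalarU hF).range := by
    ext g
    rw [MonoidHom.mem_ker]
    exact ⟨fun h => let ⟨u, hu⟩ := eq_scalar_of_conjU_eq_one hF hm h; ⟨u, hu.symm⟩,
      fun ⟨u, hu⟩ => hu ▸ conjU_scalar hF u⟩
  have hinj : Function.Injective (scalarU hF : normOne F q →* GUG (m + 2) F q) := fun a b e => by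
    have := congrArg (fun g : GUG (m + 2) F q => (g.1 : Mat (m + 2) F) 0 0) e
    simp only [scalarU_coe, Matrix.GeneralLinearGroup.coe_scalar, Matrix.scalar_apply,
      Matrix.diagonal_apply_eq] at this
    exact Subtype.ext (Units.ext this)
  have h := (conjU : GUG (m + 2) F q →* MulAut (PSUG (m + 2) F q)).ker.card_mul_index
  rw [Subgroup.index_ker, hker, ← Nat.card_congr (MonoidHom.ofInjective hinj).toEquiv,
    card_norm_one_units hF, ← card_SU_mul hF (n := m + 2) (by omega)] at h
  exact Nat.eq_of_mul_eq_mul_left (by omega) h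

/-- The order of `Aut(PSU_n(q))`. -/
theorem card_mulAut (hF : Fintype.card F = q ^ 2) (hm : 1 ≤ m) (hs : m = 1 → 3 ≤ q) :
    Nat.card (MulAut (PSUG (m + 2) F q)) =
      Nat.gcd (m + 2) (q + 1) * Nat.card (PSUG (m + 2) F q) * Nat.card (F ≃+* F) := by
  let Ψ : (conjU : GUG (m + 2) F q →* MulAut (PSUG (m + 2) F q)).range × (F ≃+* F) →
      MulAut (PSUG (m + 2) F q) := fun x => x.1.1 * fieldU x.2
  have hbij : Function.Bijective Ψ := by
    refine ⟨?_, fun β => ?_⟩
    · rintro ⟨⟨a, g, rfl⟩, σ⟩ ⟨⟨a', g', rfl⟩, σ'⟩ h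
      replace h : conjU g * fieldU σ = conjU g' * fieldU σ' := h
      have e : conjU (g'⁻¹ * g) = fieldU (σ' * σ⁻¹) := by
        rw [map_mul, map_inv, map_mul, map_inv, inv_mul_eq_iff_eq_mul, ← mul_assoc, ← h]
        group
      have hσ : σ' = σ := mul_inv_eq_one.mp (field_eq_one_of_conjU hF hm e)
      subst hσ
      exact Prod.ext (Subtype.ext (mul_right_cancel h)) rfl
    · obtain ⟨g, σ, rfl⟩ := aut_psu_structure hF hm hs β
      exact ⟨(⟨_, g, rfl⟩, σ), rfl⟩
  rw [← Nat.card_eq_of_bijective Ψ hbij, Nat.card_prod, card_range_conjU hF hm,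
    card_SU_eq_center_mul_PSU, card_center_SU hF (by omega)]

end CfsgLib.AutPSU
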