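import Cfsg.Agent.Lib.AutPSU.Frame

/-!
The additive commutant of the torus action on `W` consists of scalars.
-/

set_option autoImplicit false
set_option linter.unusedSectionVars false

namespace CfsgLib.AutPSU

open Matrix Cfsg CfsgLib.ClassicalGroups

variable {m : ℕ} {F : Type*} [Field F] [Fintype F] {q : ℕ}

/-- The action on `W` of an element stabilizing both frame points, normalised at `u`. -/
noncomputable def lam (α : F) (g : SUG (m + 2) F q) (w : Vec m F) : Vec m F :=
  α⁻¹ • wp (mat g *ᵥ inW w)

section hFsec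
variable (hF : Fintype.card F = q ^ 2) (fr : Frame q m F)
include hF

theorem torus_inW {g : SUG (m + 2) F q} {α γ : F} (hu : mat g *ᵥ fr.u = α • fr.u)
    (hv : mat g *ᵥ fr.v = γ • fr.v) (w : Vec m F) :
    mat g *ᵥ inW w = inW (wp (mat g *ᵥ inW w)) := by
  have hα : α ≠ 0 := fun h => u_ne_zero hF fr (by
    have := congrArg (mat g⁻¹ *ᵥ ·) hu
    simpa only [inv_mat_mulVec, h, zero_smul, mulVec_zero] using this)
  have hγ : γ ≠ 0 := fun h => v_ne_zero hF fr (by
    have := congrArg (mat g⁻¹ *ᵥ ·) hv
    simpa only [inv_mat_mulVec, h, zero_smul, mulVec_zero] using this)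
  have h1 : hh q (mat g *ᵥ inW w) fr.u = 0 := by
    have := h_mat g (inW w) fr.u
    rw [hu, h_smul_right hF, h_inW_u hF fr] at this
    exact (mul_eq_zero.mp this).resolve_left (by simpa using hα)
  have h2 : hh q (mat g *ᵥ inW w) fr.v = 0 := by
    have := h_mat g (inW w) fr.v
    rw [hv, h_smul_right hF, h_inW_v hF fr] at this
    exact (mul_eq_zero.mp this).resolve_left (by simpa using hγ)
  conv_lhs => rw [decomp hF fr (mat g *ᵥ inW w), h1, h2, zero_smul, zero_smul, zero_add, zero_add]

theorem exists_torus_lam (i : Fin m) {l : F} (hl : l ≠ 0) :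
    ∃ g : SUG (m + 2) F q, mat g *ᵥ fr.u = l • fr.u ∧ mat g *ᵥ fr.v = (tau hF l)⁻¹ • fr.v ∧
      ∀ w j, lam l g w j = (if j = i then tau hF l / (l * l) else l⁻¹) * w j := by
  obtain ⟨g, hu, hv, hw⟩ := exists_torus hF fr i hl
  refine ⟨g, hu, hv, fun w j => ?_⟩
  rw [lam, hw, wp_inW, Pi.smul_apply, smul_eq_mul]
  split_ifs with h
  · field_simp
  · ring

/-- The units `τ(l)/l²` generate `F` as a ring unless `q = 2`. -/
theorem mul_closed_top (hq : 3 ≤ q) (S : AddSubgroup F) (h1 : (1 : F) ∈ S)
    (hmul : ∀ a b, a ∈ S → b ∈ S → a * b ∈ S) (h : ∀ l : F, l ≠ 0 → tau hF l / (l * l) ∈ S) :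
    S = ⊤ := by
  classical
  let K : Subfield F :=
    { carrier := S
      mul_mem' := fun {a b} => hmul a b
      one_mem' := h1
      add_mem' := S.add_mem
      zero_mem' := S.zero_mem
      neg_mem' := S.neg_mem
      inv_mem' := fun a ha => by
        rcases eq_or_ne a 0 with rfl | h0
        · simpa using S.zero_mem
        · have e : a⁻¹ = a ^ (Fintype.card F - 2) := by
            apply inv_eq_of_mul_eq_one_right
            rw [← pow_succ', show Fintype.card F - 2 + 1 = Fintype.card F - 1 by
              have := Fintype.one_lt_card (α := F); omega]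
            exact FiniteField.pow_card_sub_one_eq_one a h0
          rw [e]
          clear e
          induction Fintype.card F - 2 with
          | zero => simpa using h1
          | succ k ih => rw [pow_succ]; exact hmul _ _ ih ha }
  suffices hK : K = ⊤ by
    ext a
    exact ⟨fun _ => trivial, fun _ => (show a ∈ K from hK ▸ Subfield.mem_top a)⟩
  by_contra hne
  let θ : Fˣ →* Fˣ :=
    { toFun := fun l => Units.map (tau hF).toMonoidHom l / (l * l)
      map_one' := by simp
      map_mul' := fun a b => by rw [map_mul, div_mul_div_comm, mul_mul_mul_comm] }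
  have hker : Nat.card θ.ker ≤ 3 := by
    have hle : θ.ker ≤ (powMonoidHom 3 : Fˣ →* Fˣ).ker := by
      intro l hl
      have e : Units.map (tau hF).toMonoidHom l = l * l := div_eq_one.mp hl
      have e1 : (l : F) ^ q = (l : F) * l := by
        rw [← tau_apply hF]; exact congrArg Units.val e
      have e2 : (l : F) ^ (q ^ 2 - 1) = 1 := by
        rw [← hF]; exact FiniteField.pow_card_sub_one_eq_one _ l.ne_zero
      obtain ⟨k, rfl⟩ : ∃ k, q = k + 2 := ⟨q - 2, by omega⟩
      have e3 : (l : F) ^ k = 1 := by
        apply mul_right_cancel₀ (pow_ne_zero 2 l.ne_zero)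
        rw [← pow_add, e1, one_mul, pow_two]
      apply Units.ext
      show (l : F) ^ 3 = 1
      rw [show (k + 2) ^ 2 - 1 = k * (k + 4) + 3 by
        have : (k + 2) ^ 2 = k * (k + 4) + 4 := by ring
        omega, pow_add, pow_mul, e3, one_pow, one_mul] at e2
      exact e2
    refine (Subgroup.card_le_of_le hle).trans ?_
    rw [IsCyclic.card_powMonoidHom_ker]
    exact Nat.le_of_dvd (by norm_num) (Nat.gcd_dvd_right _ _)
  have hrange : Nat.card θ.range ≤ Nat.card Kˣ := by
    refine Nat.card_le_card_of_injective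
      (fun x : θ.range => Units.mk0 (⟨((x.1 : Fˣ) : F), by
        obtain ⟨l, hl⟩ := x.2
        rw [← hl]
        show ((Units.map (tau hF).toMonoidHom l / (l * l) : Fˣ) : F) ∈ S
        rw [Units.val_div_eq_div_val, Units.val_mul]
        exact h _ l.ne_zero⟩ : K) (fun e => x.1.ne_zero (congrArg Subtype.val e))) ?_
    intro x y e
    exact Subtype.ext (Units.ext (congrArg (fun u : Kˣ => ((u : K) : F)) e))
  have hmul' := θ.ker.card_mul_index
  rw [Subgroup.index_ker, Nat.card_units, Nat.card_eq_fintype_card (α := F), hF] at hmul'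
  rw [Nat.card_units] at hrange
  have hfr := Module.natCard_eq_pow_finrank (K := K) (V := F)
  have hfr2 : 2 ≤ Module.finrank K F := by
    by_contra hlt
    have h1' : Module.finrank K F = 1 := by
      have := Module.finrank_pos (R := K) (M := F)
      omega
    rw [h1', pow_one] at hfr
    apply hne
    have : Function.Surjective (fun x : K => (x : F)) :=
      ((Nat.bijective_iff_injective_and_card _).mpr ⟨Subtype.val_injective, hfr.symm⟩).2
    ext a
    refine ⟨fun _ => trivial, fun _ => ?_⟩
    obtain ⟨x, rfl⟩ := this a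
    exact x.2
  have hKq : Nat.card K ≤ q := by
    have h2 : Nat.card K ^ 2 ≤ q ^ 2 := by
      rw [← hF, ← Nat.card_eq_fintype_card, hfr]
      exact Nat.pow_le_pow_right Nat.card_pos hfr2
    exact (Nat.pow_le_pow_iff_left (by norm_num)).mp h2
  have hq2 : q ^ 2 - 1 = (q - 1) * (q + 1) := by
    rw [mul_comm, ← Nat.sq_sub_sq, one_pow]
  have : (q - 1) * (q + 1) ≤ (q - 1) * 3 := by
    rw [← hq2, ← hmul', mul_comm (q - 1) 3]
    exact Nat.mul_le_mul hker (hrange.trans (by omega))
  have := Nat.le_of_mul_le_mul_left this (by omega)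
  omega

/-- The commutant of the torus is scalar. -/
theorem commutant_scalar (hs : m = 1 → 3 ≤ q) (hm : 1 ≤ m) (L : Vec m F → Vec m F)
    (hadd : ∀ w w', L (w + w') = L w + L w')
    (hcomm : ∀ (g : SUG (m + 2) F q) (α γ : F), mat g *ᵥ fr.u = α • fr.u → mat g *ᵥ fr.v = γ • fr.v →
      ∀ w, L (lam α g w) = lam α g (L w)) :
    ∃ k : F, ∀ w, L w = k • w := by
  classical
  let Lh : Vec m F →+ Vec m F := AddMonoidHom.mk' L hadd
  set e : Fin m → Fin m → F → F := fun i j x => L (Pi.single i x) j with he
  have hrel : ∀ (p : Fin m) (l : F), l ≠ 0 → ∀ i j x,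
      e i j ((if i = p then tau hF l / (l * l) else l⁻¹) * x) =
        (if j = p then tau hF l / (l * l) else l⁻¹) * e i j x := by
    intro p l hl i j x
    obtain ⟨g, hu, hv, hw⟩ := exists_torus_lam hF fr p hl
    have h1 := congrFun (hcomm g l _ hu hv (Pi.single i x)) j
    rw [hw] at h1
    rw [show lam l g (Pi.single i x) =
        Pi.single i ((if i = p then tau hF l / (l * l) else l⁻¹) * x) by
      funext k
      rw [hw]
      by_cases hk : k = i
      · subst hk; simp
      · simp [hk]] at h1
    exact h1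
  have hee : ∀ i j x y, e i j (x + y) = e i j x + e i j y := fun i j x y => by
    simp only [he, Pi.single_add, hadd, Pi.add_apply]
  have hoff : ∀ i j, i ≠ j → ∀ x, e i j x = 0 := by
    intro i j hij x0
    by_contra hne
    -- `c ↦ c²/τ(c)` would be additive
    have hθ : ∀ c : F, c ≠ 0 → ∀ x, e i j (c * x) = c * c / tau hF c * e i j x := by
      intro c hc x
      have h1 := hrel j c⁻¹ (inv_ne_zero hc) i j x
      rw [if_neg hij, if_pos rfl, inv_inv, map_inv₀] at h1
      rw [h1]
      congr 1
      field_simp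
    obtain ⟨a, ha⟩ := tau_ne hF
    have ha0 : a ≠ 0 := fun h => ha (by rw [h, map_zero])
    have ha1 : a + 1 ≠ 0 := fun h => ha (by
      rw [eq_neg_of_add_eq_zero_left h, map_neg, map_one])
    have h2 := hee i j (a * x0) (1 * x0)
    rw [← add_mul, hθ _ ha1, hθ _ ha0, hθ _ one_ne_zero, map_one, one_mul, div_one, one_mul] at h2
    have hta : tau hF a ≠ 0 := by simpa using ha0
    have hta1 : tau hF a + 1 ≠ 0 := by
      rw [← map_one (tau hF), ← map_add]; exact (map_ne_zero _).mpr ha1
    have h3 : (a + 1) * (a + 1) / (tau hF (a + 1)) = a * a / tau hF a + 1 := by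
      apply mul_right_cancel₀ hne
      rw [h2]; ring
    rw [map_add, map_one, div_add_one hta, div_eq_div_iff hta1 hta] at h3
    have h4 : (a - tau hF a) * (a - tau hF a) = 0 := by linear_combination -h3
    exact ha (sub_eq_zero.mp (mul_self_eq_zero.mp h4)).symm
  have hdiag : ∀ i c x, e i i (c * x) = c * e i i x := by
    intro i
    let S : AddSubgroup F :=
      { carrier := {c | ∀ x, e i i (c * x) = c * e i i x}
        add_mem' := fun {a b} ha hb x => by rw [add_mul, hee, ha, hb, add_mul]
        zero_mem' := fun x => by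
          rw [zero_mul, zero_mul]
          simp only [he, Pi.single_zero]
          exact congrFun (map_zero Lh) i
        neg_mem' := fun {a} ha x => by
          rw [neg_mul, neg_mul, ← ha]
          simp only [he, Pi.single_neg]
          exact congrFun (map_neg Lh _) i }
    suffices hS : S = ⊤ from fun c => (hS ▸ AddSubgroup.mem_top c : c ∈ S)
    by_cases hm1 : m = 1
    · refine mul_closed_top hF (hs hm1) S (fun x => by rw [one_mul, one_mul]) ?_ fun l hl x => ?_
      · intro a b ha hb x; rw [mul_assoc, ha, hb, mul_assoc]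
      · simpa using hrel i l hl i i x
    · obtain ⟨j, hj⟩ : ∃ j : Fin m, i ≠ j := by
        by_cases hi : (i : ℕ) = 0
        · exact ⟨⟨1, by omega⟩, fun h => by rw [h] at hi; simp at hi⟩
        · exact ⟨⟨0, by omega⟩, fun h => hi (by rw [h])⟩
      rw [eq_top_iff]
      intro c _ x
      rcases eq_or_ne c 0 with rfl | hc
      · rw [zero_mul, zero_mul]
        simp only [he, Pi.single_zero]
        exact congrFun (map_zero Lh) i
      · have := hrel j c⁻¹ (inv_ne_zero hc) i i x
        rwa [if_neg hj, inv_inv] at this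
  have hLw : ∀ w j, L w j = e j j 1 * w j := by
    intro w j
    conv_lhs => rw [← Finset.univ_sum_single w]
    rw [show L (∑ k, Pi.single k (w k)) = ∑ k, L (Pi.single k (w k)) from map_sum Lh _ _,
      Finset.sum_apply, Finset.sum_eq_single j]
    · show e j j (w j) = _
      conv_lhs => rw [← mul_one (w j), hdiag]
      rw [mul_comm]
    · intro k _ hk; exact hoff k j hk (w k)
    · simp
  set z : Fin m := ⟨0, hm⟩
  refine ⟨e z z 1, fun w => funext fun j => ?_⟩
  rw [hLw, Pi.smul_apply, smul_eq_mul]
  by_cases hj : z = j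
  · rw [hj]
  · congr 1
    obtain ⟨g, hu, hv, hw⟩ := exists_swap hF fr hj
    have h1 := congrFun (hcomm g 1 1 (by rw [hu, one_smul]) (by rw [hv, one_smul]) (Pi.single j 1)) z
    rw [lam, lam, hw, hw, wp_inW, wp_inW, inv_one, one_smul, one_smul, hLw] at h1
    simp only [if_true, hLw, Pi.single_eq_same, mul_one] at h1
    exact h1.symm

end hFsec

end CfsgLib.AutPSU
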