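import Cfsg.Agent.Lib.AutPSU.Lang
import Cfsg.Agent.Lib.AutPSp.Transport

/-!
Field automorphisms of `PSU_n(q)` up to conjugation.
-/

set_option autoImplicit false
set_option linter.unusedSectionVars false

namespace CfsgLib.AutPSU

open Cfsg

variable {m : ℕ} {F : Type*} [Field F] [Fintype F] {q : ℕ}

theorem fieldClass_normal_form (hF : Fintype.card F = q ^ 2) (hm : 1 ≤ m)
    {x : MulAut (PSUG (m + 2) F q)} (hx : Cfsg.IsFieldAutClassPSU x) :
    ∃ (α : MulAut (PSUG (m + 2) F q)) (σ : F ≃+* F), Odd (orderOf σ) ∧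
      α * x * α⁻¹ = fieldU σ ∧ orderOf σ = orderOf x := by
  obtain ⟨α, φ, σ, -, hodd, hφ, he⟩ := hx
  rw [isFieldAutOf_iff] at hφ
  subst hφ
  refine ⟨α, σ, hodd, he, ?_⟩
  rw [← orderOf_injective (fieldU : (F ≃+* F) →* MulAut (PSUG (m + 2) F q)) (fieldU_injective hF hm) σ, ← he]
  exact orderOf_injective (MulAut.conj α).toMonoidHom (MulAut.conj α).injective x

end CfsgLib.AutPSU
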