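import Cfsg.Agent.Lib.AutPSU.Transvection

/-!
A hyperbolic frame of `F^{m+2}` for the Hermitian form and the torus attached to it.
-/

set_option autoImplicit false
set_option linter.unusedSectionVars false

namespace CfsgLib.AutPSU

open Matrix Cfsg CfsgLib.ClassicalGroups

variable {m : ℕ} {F : Type*} [Field F] [Fintype F] {q : ℕ}

/-- Embedding of the last `m` coordinates. -/
def inW (w : Vec m F) : Vec (m + 2) F := Fin.cons 0 (Fin.cons 0 w)

/-- The last `m` coordinates. -/
def wp (x : Vec (m + 2) F) : Vec m F := fun i => x i.succ.succ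

theorem wp_inW (w : Vec m F) : wp (inW w) = w := rfl
theorem wp_add (x y : Vec (m + 2) F) : wp (x + y) = wp x + wp y := rfl
theorem wp_smul (c : F) (x : Vec (m + 2) F) : wp (c • x) = c • wp x := rfl

theorem inW_injective : Function.Injective (inW : Vec m F → Vec (m + 2) F) :=
  fun w w' h => congrArg wp h

theorem inW_add (w w' : Vec m F) : inW (w + w') = inW w + inW w' := by
  funext k; refine Fin.cases ?_ (Fin.cases ?_ fun i => ?_) k <;> simp [inW]

theorem inW_smul (c : F) (w : Vec m F) : inW (c • w) = c • inW w := by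
  funext k; refine Fin.cases ?_ (Fin.cases ?_ fun i => ?_) k <;> simp [inW]

theorem inW_zero : inW (0 : Vec m F) = 0 := by
  funext k; refine Fin.cases ?_ (Fin.cases ?_ fun i => ?_) k <;> simp [inW]

theorem h_inW_left (w : Vec m F) (x : Vec (m + 2) F) : hh q (inW w) x = hh q w (wp x) := by
  show Cfsg.hermForm (m + 2) F q _ x = _
  rw [Cfsg.hermForm, Fin.sum_univ_succ, Fin.sum_univ_succ]
  simp [inW, wp, hh, Cfsg.hermForm]

theorem h_inW (w w' : Vec m F) : hh q (inW w) (inW w') = hh q w w' := by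
  rw [h_inW_left, wp_inW]

/-- A hyperbolic pair in the first two coordinates. -/
structure Frame (q m : ℕ) (F : Type*) [Field F] where
  u : Vec (m + 2) F
  v : Vec (m + 2) F
  huu : hh q u u = 0
  hvv : hh q v v = 0
  huv : hh q u v = 1
  hu : wp u = 0
  hv : wp v = 0

theorem exists_frame (hF : Fintype.card F = q ^ 2) (m : ℕ) : Nonempty (Frame q m F) := by
  obtain ⟨ζ, hζ0, hζ⟩ := CfsgLib.ClassicalGroups.exists_norm_eq hF (c := (-1 : F))
    (by rw [← tau_apply hF, map_neg, map_one]) (neg_ne_zero.mpr one_ne_zero)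
  obtain ⟨ρ, hρ, hρ2⟩ := exists_norm_one_sq_ne hF
  have hρ1 : ρ ≠ 1 := fun e => hρ2 (by rw [e, one_mul])
  have h2 : ∀ a b c d : F, hh q (Fin.cons a (Fin.cons b (0 : Vec m F)) : Vec (m + 2) F)
      (Fin.cons c (Fin.cons d 0)) = a * tau hF c + b * tau hF d := fun a b c d => by
    show Cfsg.hermForm (m + 2) F q _ _ = _
    rw [hermForm_cons, hermForm_cons, tau_apply, tau_apply]
    simp [Cfsg.hermForm]
  set u : Vec (m + 2) F := Fin.cons 1 (Fin.cons ζ 0) with hu
  set v0 : Vec (m + 2) F := Fin.cons 1 (Fin.cons (ρ * ζ) 0) with hv0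
  have hζ' : ζ * tau hF ζ = -1 := by rw [tau_apply, ← pow_succ']; exact hζ
  have hρ' : ρ * tau hF ρ = 1 := by rw [tau_apply, ← pow_succ']; exact hρ
  have huu : hh q u u = 0 := by rw [hu, h2, map_one, hζ']; ring
  have hvv : hh q v0 v0 = 0 := by
    rw [hv0, h2, map_one, map_mul]; linear_combination (ρ * tau hF ρ) * hζ' - hρ'
  have huv : hh q u v0 ≠ 0 := by
    rw [hu, hv0, h2, map_one, map_mul]
    intro h
    apply hρ1
    have h1 : tau hF ρ = 1 := by linear_combination -h + tau hF ρ * hζ'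
    rw [← tau_tau hF ρ, h1, map_one]
  refine ⟨⟨u, tau hF (hh q u v0)⁻¹ • v0, huu, ?_, ?_, ?_, ?_⟩⟩
  · rw [h_smul_left, h_smul_right hF, hvv, mul_zero, mul_zero]
  · rw [h_smul_right hF, tau_tau, inv_mul_cancel₀ huv]
  · funext i; simp [hu, wp]
  · funext i; simp [hv0, wp]

variable (hF : Fintype.card F = q ^ 2) (fr : Frame q m F)
include hF

theorem hvu : hh q fr.v fr.u = 1 := by rw [← h_tau hF fr.u fr.v, fr.huv, map_one]

theorem h_inW_u (w : Vec m F) : hh q (inW w) fr.u = 0 := by rw [h_inW_left, fr.hu, h_zero_right hF]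
theorem h_inW_v (w : Vec m F) : hh q (inW w) fr.v = 0 := by rw [h_inW_left, fr.hv, h_zero_right hF]
theorem h_u_inW (w : Vec m F) : hh q fr.u (inW w) = 0 := by
  rw [← h_tau hF (inW w), h_inW_u hF fr, map_zero]
theorem h_v_inW (w : Vec m F) : hh q fr.v (inW w) = 0 := by
  rw [← h_tau hF (inW w), h_inW_v hF fr, map_zero]

theorem u_ne_zero : fr.u ≠ 0 := fun h => by
  have := fr.huv; rw [h, h_zero_left] at this; exact zero_ne_one this

theorem v_ne_zero : fr.v ≠ 0 := fun h => by
  have := fr.huv; rw [h, h_zero_right hF] at this; exact zero_ne_one this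

theorem decomp (x : Vec (m + 2) F) :
    x = hh q x fr.v • fr.u + hh q x fr.u • fr.v + inW (wp x) := by
  set z := x - (hh q x fr.v • fr.u + hh q x fr.u • fr.v + inW (wp x)) with hz
  suffices z = 0 from sub_eq_zero.mp this
  have hzu : hh q z fr.u = 0 := by
    rw [hz, h_sub_left, h_add_left, h_add_left, h_smul_left, h_smul_left, fr.huu, hvu hF fr,
      h_inW_u hF fr]
    ring
  have hzv : hh q z fr.v = 0 := by
    rw [hz, h_sub_left, h_add_left, h_add_left, h_smul_left, h_smul_left, fr.huv, fr.hvv,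
      h_inW_v hF fr]
    ring
  have hzw : wp z = 0 := by
    funext i
    have e1 := congrFun fr.hu i
    have e2 := congrFun fr.hv i
    simp only [wp, Pi.zero_apply] at e1 e2
    simp [hz, wp, inW, e1, e2]
  have two : ∀ a b : Vec (m + 2) F, wp a = 0 → hh q a b = a 0 * tau hF (b 0) + a 1 * tau hF (b 1) := by
    intro a b ha
    show Cfsg.hermForm (m + 2) F q a b = _
    rw [Cfsg.hermForm, Fin.sum_univ_succ, Fin.sum_univ_succ, tau_apply, tau_apply]
    have : ∀ i : Fin m, a i.succ.succ = 0 := fun i => congrFun ha i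
    simp [this]
  have e1 := two _ fr.u fr.hu
  have e2 := two _ fr.v fr.hu
  rw [fr.huu] at e1
  rw [fr.huv] at e2
  rw [two _ _ hzw] at hzu hzv
  have hdet : fr.u 0 * fr.v 1 - fr.u 1 * fr.v 0 ≠ 0 := by
    intro h
    have h' := congrArg (tau hF) h
    rw [map_sub, map_mul, map_mul, map_zero] at h'
    have a0 : tau hF (fr.u 0) = 0 := by
      linear_combination tau hF (fr.u 0) * e2 - tau hF (fr.v 0) * e1 + fr.u 1 * h'
    have a1 : tau hF (fr.u 1) = 0 := by
      linear_combination tau hF (fr.u 1) * e2 - tau hF (fr.v 1) * e1 - fr.u 0 * h'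
    rw [map_eq_zero] at a0 a1
    rw [a0, a1, zero_mul, zero_mul, add_zero] at e2
    exact one_ne_zero e2
  have hdet' : tau hF (fr.u 0) * tau hF (fr.v 1) - tau hF (fr.u 1) * tau hF (fr.v 0) ≠ 0 := by
    intro h
    apply hdet
    have := congrArg (tau hF) h
    simpa [map_sub, map_mul, tau_tau] using this
  funext k
  refine Fin.cases ?_ (Fin.cases ?_ fun i => ?_) k
  · refine (mul_eq_zero.mp ?_).resolve_left hdet'
    linear_combination tau hF (fr.v 1) * hzu - tau hF (fr.u 1) * hzv
  · refine (mul_eq_zero.mp ?_).resolve_left hdet'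
    show _ * z 1 = 0
    linear_combination tau hF (fr.u 0) * hzv - tau hF (fr.v 0) * hzu
  · exact congrFun hzw i

/-- Vectors are determined by their frame coordinates. -/
theorem frame_ext {x y : Vec (m + 2) F} (h1 : hh q x fr.v = hh q y fr.v)
    (h2 : hh q x fr.u = hh q y fr.u) (h3 : wp x = wp y) : x = y := by
  rw [decomp hF fr x, decomp hF fr y, h1, h2, h3]

theorem mulVec_decomp (g : Mat (m + 2) F) (x : Vec (m + 2) F) :
    g *ᵥ x = hh q x fr.v • (g *ᵥ fr.u) + hh q x fr.u • (g *ᵥ fr.v) + g *ᵥ inW (wp x) := by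
  conv_lhs => rw [decomp hF fr x]
  rw [mulVec_add, mulVec_add, mulVec_smul, mulVec_smul]

/-- An element of `GU` from the image of the frame. -/
theorem exists_gu_frame (u' v' : Vec (m + 2) F) (M : Vec m F →ₗ[F] Vec (m + 2) F)
    (h1 : hh q u' u' = 0) (h2 : hh q v' v' = 0) (h3 : hh q u' v' = 1)
    (h4 : ∀ w, hh q (M w) u' = 0) (h5 : ∀ w, hh q (M w) v' = 0)
    (h6 : ∀ w w', hh q (M w) (M w') = hh q w w') :
    ∃ g : GUG (m + 2) F q, (g.1 : Mat (m + 2) F) *ᵥ fr.u = u' ∧ (g.1 : Mat (m + 2) F) *ᵥ fr.v = v' ∧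
      ∀ w, (g.1 : Mat (m + 2) F) *ᵥ inW w = M w := by
  let L : Vec (m + 2) F →ₗ[F] Vec (m + 2) F :=
    { toFun := fun x => hh q x fr.v • u' + hh q x fr.u • v' + M (wp x)
      map_add' := fun x y => by rw [h_add_left, h_add_left, wp_add, map_add]; module
      map_smul' := fun c x => by
        rw [h_smul_left, h_smul_left, wp_smul, map_smul, RingHom.id_apply]; module }
  have hLa : ∀ x, L x = hh q x fr.v • u' + hh q x fr.u • v' + M (wp x) := fun x => rfl
  have h3' : hh q v' u' = 1 := by rw [← h_tau hF u' v', h3, map_one]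
  have h4' : ∀ w, hh q u' (M w) = 0 := fun w => by rw [← h_tau hF (M w), h4, map_zero]
  have h5' : ∀ w, hh q v' (M w) = 0 := fun w => by rw [← h_tau hF (M w), h5, map_zero]
  obtain ⟨g, hg⟩ := CfsgLib.ClassicalGroups.exists_GU_of_preserving hF L (fun x y => by
    show hh q (L x) (L y) = hh q x y
    conv_rhs => rw [decomp hF fr x, decomp hF fr y]
    simp only [hLa, h_add_left, h_add_right hF, h_smul_left, h_smul_right hF, h1, h2, h3, h3', h4, h4',
      h5, h5', h6, fr.huu, fr.hvv, fr.huv, hvu hF fr, h_inW_u hF fr, h_inW_v hF fr, h_u_inW hF fr,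
      h_v_inW hF fr, h_inW, mul_zero, zero_mul, add_zero, zero_add, mul_one])
  refine ⟨g, ?_, ?_, fun w => ?_⟩
  · rw [hg, hLa, fr.huv, fr.huu, fr.hu, map_zero]; simp
  · rw [hg, hLa, fr.hvv, hvu hF fr, fr.hv, map_zero]; simp
  · rw [hg, hLa, h_inW_v hF fr, h_inW_u hF fr, wp_inW]; simp

/-- The element of `SU` acting diagonally in the frame: `u ↦ λ u`, `v ↦ τ(λ)⁻¹ v`, `e_i ↦ τ(λ)/λ e_i`. -/
theorem exists_torus (i : Fin m) {l : F} (hl : l ≠ 0) :
    ∃ g : SUG (m + 2) F q, mat g *ᵥ fr.u = l • fr.u ∧ mat g *ᵥ fr.v = (tau hF l)⁻¹ • fr.v ∧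
      ∀ w, mat g *ᵥ inW w = inW (fun j => (if j = i then tau hF l / l else 1) * w j) := by
  set d : Fin m → F := fun j => if j = i then tau hF l / l else 1 with hd
  have htl : tau hF l ≠ 0 := by simpa using hl
  have hdn : ∀ j, d j * tau hF (d j) = 1 := fun j => by
    simp only [hd]
    split_ifs
    · rw [map_div₀, tau_tau]; field_simp
    · simp
  let M : Vec m F →ₗ[F] Vec (m + 2) F :=
    { toFun := fun w => inW (fun j => d j * w j)
      map_add' := fun w w' => by rw [← inW_add]; congr 1; funext j; simp [mul_add]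
      map_smul' := fun c w => by rw [← inW_smul]; congr 1; funext j; simp [mul_left_comm] }
  obtain ⟨g, hgu, hgv, hgw⟩ := exists_gu_frame hF fr (l • fr.u) ((tau hF l)⁻¹ • fr.v) M
    (by rw [h_smul_left, h_smul_right hF, fr.huu, mul_zero, mul_zero])
    (by rw [h_smul_left, h_smul_right hF, fr.hvv, mul_zero, mul_zero])
    (by rw [h_smul_left, h_smul_right hF, fr.huv, map_inv₀, tau_tau, mul_one, mul_inv_cancel₀ hl])
    (fun w => by
      show hh q (inW _) _ = 0
      rw [h_smul_right hF, h_inW_u hF fr, mul_zero])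
    (fun w => by
      show hh q (inW _) _ = 0
      rw [h_smul_right hF, h_inW_v hF fr, mul_zero])
    (fun w w' => by
      show hh q (inW _) (inW _) = _
      rw [h_inW, hh, hh, Cfsg.hermForm, Cfsg.hermForm]
      refine Finset.sum_congr rfl fun j _ => ?_
      have := hdn j
      rw [tau_apply] at this
      rw [mul_pow]
      linear_combination (w j * w' j ^ q) * this)
  -- the determinant
  let P : Vec (m + 2) F →ₗ[F] Vec (m + 2) F :=
    { toFun := fun y => y 0 • fr.u + y 1 • fr.v + inW (wp y)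
      map_add' := fun x y => by rw [wp_add, inW_add, Pi.add_apply, Pi.add_apply]; module
      map_smul' := fun c x => by
        rw [wp_smul, inW_smul, Pi.smul_apply, Pi.smul_apply, RingHom.id_apply]; module }
  have hPa : ∀ y, P y = y 0 • fr.u + y 1 • fr.v + inW (wp y) := fun y => rfl
  have hPc : ∀ y, hh q (P y) fr.v = y 0 ∧ hh q (P y) fr.u = y 1 ∧ wp (P y) = wp y := fun y => by
    refine ⟨?_, ?_, ?_⟩
    · rw [hPa, h_add_left, h_add_left, h_smul_left, h_smul_left, fr.huv, fr.hvv, h_inW_v hF fr]; ring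
    · rw [hPa, h_add_left, h_add_left, h_smul_left, h_smul_left, fr.huu, hvu hF fr, h_inW_u hF fr]; ring
    · rw [hPa, wp_add, wp_add, wp_smul, wp_smul, fr.hu, fr.hv, wp_inW]; simp
  have hPinj : Function.Injective P := fun x y h => by
    have hx := hPc x; have hy := hPc y
    rw [h] at hx
    funext k
    refine Fin.cases ?_ (Fin.cases ?_ fun j => ?_) k
    · exact hx.1.symm.trans hy.1
    · exact hx.2.1.symm.trans hy.2.1
    · exact congrFun (hx.2.2.symm.trans hy.2.2) j
  set D : Fin (m + 2) → F := Fin.cons l (Fin.cons (tau hF l)⁻¹ d) with hD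
  have hB : (LinearMap.toMatrix' P).det ≠ 0 := by
    rw [LinearMap.det_toMatrix']
    intro h0
    exact (LinearMap.det_eq_zero_iff_ker_ne_bot.1 h0) (LinearMap.ker_eq_bot.2 hPinj)
  have hcomm : (g.1 : Mat (m + 2) F) * LinearMap.toMatrix' P =
      LinearMap.toMatrix' P * Matrix.diagonal D := by
    apply Matrix.ext_of_mulVec_single
    intro k
    generalize (Pi.single k 1 : Vec (m + 2) F) = y
    have e : ∀ z, LinearMap.toMatrix' P *ᵥ z = P z := LinearMap.toMatrix'_mulVec P
    have hwd : wp (Matrix.diagonal D *ᵥ y) = fun j => d j * wp y j := by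
      funext j; simp [wp, hD, Matrix.mulVec_diagonal]
    rw [← mulVec_mulVec, ← mulVec_mulVec, e, e, hPa, hPa, hwd, mulVec_add, mulVec_add, mulVec_smul,
      mulVec_smul, hgu, hgv, hgw, Matrix.mulVec_diagonal, Matrix.mulVec_diagonal]
    simp [hD, M, smul_smul, mul_comm]
  have hdet : (g.1 : Mat (m + 2) F).det = 1 := by
    have h := congrArg Matrix.det hcomm
    rw [Matrix.det_mul, Matrix.det_mul, Matrix.det_diagonal, mul_comm] at h
    rw [mul_left_cancel₀ hB h, hD, Fin.prod_univ_succ, Fin.prod_univ_succ]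
    simp only [Fin.cons_zero, Fin.cons_succ, hd, Finset.prod_ite_eq', Finset.mem_univ, if_true]
    field_simp
  exact ⟨⟨⟨(g.1 : Mat (m + 2) F), hdet⟩, g.2⟩, hgu, hgv, hgw⟩

/-- The signed transposition of two coordinates in `W`. -/
theorem exists_swap {i j : Fin m} (hij : i ≠ j) :
    ∃ g : SUG (m + 2) F q, mat g *ᵥ fr.u = fr.u ∧ mat g *ᵥ fr.v = fr.v ∧
      ∀ w, mat g *ᵥ inW w = inW (fun k => if k = i then w j else if k = j then -w i else w k) := by
  set k : Fin (m + 2) := i.succ.succ
  set l : Fin (m + 2) := j.succ.succ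
  have hkl : k ≠ l := fun e => hij (Fin.succ_injective _ (Fin.succ_injective _ e))
  let s : Matrix.SpecialLinearGroup (Fin (m + 2)) F :=
    Matrix.SpecialLinearGroup.transvection hkl 1 *
      Matrix.SpecialLinearGroup.transvection hkl.symm (-(1 : F)⁻¹) *
        Matrix.SpecialLinearGroup.transvection hkl 1
  have hw' := Cfsg.Agent.Classical.slWeyl_coe hkl (1 : F) one_ne_zero
  have hwv : ∀ (x : Vec (m + 2) F) (a : Fin (m + 2)),
      (s.1 *ᵥ x) a = if a = k then x l else if a = l then -x k else x a := by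
    intro x a
    rw [show s.1 = _ from hw']
    simp only [Matrix.add_mulVec, Matrix.one_mulVec, Matrix.single_mulVec_eq, inv_one, Pi.add_apply,
      Pi.smul_apply, Pi.single_apply, smul_eq_mul]
    by_cases hak : a = k
    · subst hak; simp [hkl]
    · by_cases hal : a = l
      · subst hal; simp [hak]
      · simp [hak, hal]
  have hs : s ∈ Cfsg.SU (m + 2) F q := by
    rw [CfsgLib.ClassicalGroups.mem_SU_iff]
    intro x y
    simp only [Cfsg.hermForm, hwv]
    rw [← Equiv.sum_comp (Equiv.swap k l) (fun a => x a * y a ^ q)]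
    refine Finset.sum_congr rfl fun a _ => ?_
    by_cases hak : a = k
    · simp [hak]
    · by_cases hal : a = l
      · subst hal
        rw [if_neg hak, if_pos rfl, if_neg hak, if_pos rfl, Equiv.swap_apply_right,
          ← tau_apply hF (-y k), map_neg, tau_apply]
        ring
      · rw [if_neg hak, if_neg hal, if_neg hak, if_neg hal, Equiv.swap_apply_of_ne_of_ne hak hal]
  have hfix : ∀ x : Vec (m + 2) F, wp x = 0 → s.1 *ᵥ x = x := by
    intro x hx
    funext a
    have hi : x k = 0 := congrFun hx i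
    have hj : x l = 0 := congrFun hx j
    rw [hwv]
    split_ifs with h1 h2
    · rw [h1, hi, hj]
    · rw [h2, hi, hj, neg_zero]
    · rfl
  refine ⟨⟨s, hs⟩, hfix _ fr.hu, hfix _ fr.hv, fun w => ?_⟩
  funext a
  show (s.1 *ᵥ inW w) a = _
  rw [hwv]
  refine Fin.cases ?_ (Fin.cases ?_ fun b => ?_) a
  · simp [inW, k, l, (Fin.succ_ne_zero _).symm]
  · have h1 : ∀ c : Fin m, (Fin.succ 0 : Fin (m + 2)) ≠ c.succ.succ := fun c e =>
      Fin.succ_ne_zero c (Fin.succ_injective _ e).symm
    rw [if_neg (h1 i), if_neg (h1 j)]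
    simp [inW]
  · simp [inW, k, l]

/-- A vector fixed linewise on the frame family is an eigenvector: scalar criterion. -/
theorem eq_scalar_of_fix_isotropic (g : Mat (m + 2) F) (hm : 1 ≤ m)
    (h : ∀ x : Vec (m + 2) F, x ≠ 0 → hh q x x = 0 → ∃ c : F, g *ᵥ x = c • x) :
    ∃ c : F, g = c • (1 : Mat (m + 2) F) := by
  obtain ⟨fr⟩ := exists_frame hF m
  obtain ⟨α, hα⟩ := h fr.u (u_ne_zero hF fr) fr.huu
  obtain ⟨γ, hγ⟩ := h fr.v (v_ne_zero hF fr) fr.hvv
  have key : ∀ (w : Vec m F) (b : F), b + tau hF b + hh q w w = 0 →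
      ∃ k, g *ᵥ inW w = (k - α) • fr.u + (b * k - b * γ) • fr.v + k • inW w := by
    intro w b hb
    set y := fr.u + inW w + b • fr.v with hy
    have hy0 : y ≠ 0 := fun e => by
      have := congrArg (fun z => hh q z fr.v) e
      simp only [hy, h_add_left, h_smul_left, fr.huv, fr.hvv, h_inW_v hF fr, h_zero_left, mul_zero,
        add_zero] at this
      exact one_ne_zero this
    have hyy : hh q y y = 0 := by
      simp only [hy, h_add_left, h_add_right hF, h_smul_left, h_smul_right hF, fr.huu, fr.hvv, fr.huv,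
        hvu hF fr, h_inW_u hF fr, h_inW_v hF fr, h_u_inW hF fr, h_v_inW hF fr, h_inW]
      linear_combination hb
    obtain ⟨k, hk⟩ := h y hy0 hyy
    rw [hy, mulVec_add, mulVec_add, mulVec_smul, hα, hγ] at hk
    exact ⟨k, by linear_combination (norm := module) hk⟩
  obtain ⟨s, hs0, hs⟩ := exists_skew hF
  obtain ⟨k, hk⟩ := key 0 s (by rw [h_zero_left, hs]; ring)
  have hk1 := congrArg (fun z => hh q z fr.v) hk
  have hk2 := congrArg (fun z => hh q z fr.u) hk
  simp only [inW_zero, mulVec_zero, smul_zero, add_zero, h_zero_left, h_add_left, h_smul_left,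
    fr.huv, fr.hvv, fr.huu, hvu hF fr, mul_zero, zero_add, mul_one] at hk1 hk2
  have hαγ : γ = α := by
    apply mul_left_cancel₀ hs0
    linear_combination hk2 - s * hk1
  subst hαγ
  have hwt : ∀ w : Vec m F, g *ᵥ inW w = γ • inW w := by
    have hstep : ∀ w : Vec m F, hh q (g *ᵥ inW w) fr.v = 0 → g *ᵥ inW w = γ • inW w := by
      intro w hw
      obtain ⟨b, hb⟩ := exists_trace hF (b := -hh q w w) (by rw [map_neg, h_self_fixed hF])
      obtain ⟨k, hk⟩ := key w b (by rw [hb]; ring)
      have e := congrArg (fun z => hh q z fr.v) hk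
      simp only [hw, h_add_left, h_smul_left, fr.huv, fr.hvv, h_inW_v hF fr, mul_zero, add_zero,
        mul_one] at e
      have : k = γ := sub_eq_zero.mp e.symm
      subst this
      rw [hk]; simp
    intro w
    apply hstep
    -- vary the parameter `b` to see that `k = γ`
    obtain ⟨b, hb⟩ := exists_trace hF (b := -hh q w w) (by rw [map_neg, h_self_fixed hF])
    obtain ⟨k, hk⟩ := key w b (by rw [hb]; ring)
    obtain ⟨k', hk'⟩ := key w (b + s) (by rw [map_add, hs]; linear_combination hb)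
    have e := congrArg (fun z => hh q z fr.v) (hk.symm.trans hk')
    have e' := congrArg (fun z => hh q z fr.u) (hk.symm.trans hk')
    simp only [h_add_left, h_smul_left, fr.huv, fr.hvv, fr.huu, hvu hF fr, h_inW_v hF fr,
      h_inW_u hF fr, mul_zero, add_zero, zero_add, mul_one, sub_left_inj] at e e'
    subst e
    have e2 : k = γ := by
      apply mul_left_cancel₀ hs0
      linear_combination -e'
    rw [hk, e2]
    simp [h_add_left, h_smul_left, h_inW_v hF fr, fr.hvv]
  refine ⟨γ, Matrix.ext_of_mulVec_single fun j => ?_⟩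
  generalize (Pi.single j 1 : Vec (m + 2) F) = x
  rw [mulVec_decomp hF fr g x, hα, hγ, hwt, smul_mulVec, one_mulVec]
  conv_rhs => rw [decomp hF fr x]
  module

end CfsgLib.AutPSU
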