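import Cfsg.Agent.Lib.AutPSU.BalanceGraph
import Cfsg.Agent.Lib.AutPSL.Hermitian
import Cfsg.Agent.Lib.AutPOmega.FieldSquares
import Cfsg.Agent.Lib.H82.GraphForms

/-!
Involutory graph automorphisms of `PSU_n(q)` correspond to those of `PSL_n(q)`: descent of the bilinear form to the
fixed field of `x ↦ x^q`.
-/

set_option autoImplicit false
set_option linter.unusedSectionVars false

namespace CfsgLib.AutPSU.Graph

open Matrix Cfsg CfsgLib.FieldGalois CfsgLib.GraphForms82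

variable {m : ℕ} {F : Type*} [Field F] [Fintype F] {q : ℕ}

/-- The graph automorphism `s ↦ g s^τ g⁻¹`. -/
noncomputable def gt (hF : Fintype.card F = q ^ 2) {n : ℕ} (g : GUG n F q) : MulAut (PSUG n F q) :=
  conjU g * fieldU (tau hF)

variable (hF : Fintype.card F = q ^ 2)

section Basic
include hF

theorem map_tau_tau {a b : Type*} (M : Matrix a b F) : (M.map (tau hF)).map (tau hF) = M := by
  ext i j; simp [tau_tau hF]

theorem gl_map_ne (P : GL (Fin (m + 2)) F) : IsUnit ((P : Mat (m + 2) F).map (tau hF)) :=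
  (Matrix.GeneralLinearGroup.map (tau hF).toRingHom P).isUnit

theorem map_smul_tau {a b : Type*} (c : F) (M : Matrix a b F) :
    (c • M).map (tau hF) = tau hF c • M.map (tau hF) := by
  ext i j; simp

theorem exists_mul_tau {c : F} (hc0 : c ≠ 0) (hc : tau hF c = c) : ∃ d : F, d ≠ 0 ∧ d * tau hF d = c := by
  obtain ⟨x, hx⟩ := exists_norm_eq (tau hF) (c := Units.mk0 c hc0) hc
  refine ⟨x, x.ne_zero, ?_⟩
  have h := congrArg Units.val hx
  rw [normU_val, Fin.prod_univ_eq_prod_range (fun i => ((tau hF) ^ i) (x : F)) (orderOf (tau hF)),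
    orderOf_tau hF, Finset.prod_range_succ, Finset.prod_range_one, pow_zero, pow_one, RingAut.one_apply] at h
  exact h

theorem exists_tau_eq_mul {r : F} (hr : r * tau hF r = 1) : ∃ d : F, d ≠ 0 ∧ tau hF d = r * d := by
  have hr0 : r ≠ 0 := fun h => by rw [h, zero_mul] at hr; exact zero_ne_one hr
  obtain ⟨y, hy⟩ := hilbert90 (tau hF) (x := Units.mk0 r hr0) (by
    apply Units.ext
    simp only [normU_val, Units.val_mk0, Units.val_one]
    rw [Fin.prod_univ_eq_prod_range (fun i => ((tau hF) ^ i) r) (orderOf (tau hF)),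
      orderOf_tau hF, Finset.prod_range_succ, Finset.prod_range_one, pow_zero, pow_one, RingAut.one_apply]
    exact hr)
  have h : r * tau hF (y : F) = y := congrArg Units.val hy
  refine ⟨(y : F)⁻¹, inv_ne_zero y.ne_zero, ?_⟩
  rw [map_inv₀]
  conv_rhs => rw [← h]
  rw [mul_inv, ← mul_assoc, mul_inv_cancel₀ hr0, one_mul]

theorem smul_one_gu {k : GUG (m + 2) F q} {c : F} (h : (k.1 : Mat (m + 2) F) = c • 1) :
    c * tau hF c = 1 ∧ conjU k = 1 := by
  have hg := gu_gram hF k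
  rw [h, map_smul_tau hF, Matrix.map_one _ (map_zero _) (map_one _), transpose_smul, transpose_one,
    Matrix.smul_mul, Matrix.one_mul, smul_smul] at hg
  have h1 : c * tau hF c = 1 := by simpa using congrFun (congrFun hg 0) 0
  have hc0 : c ≠ 0 := fun e => by rw [e, zero_mul] at h1; exact zero_ne_one h1
  refine ⟨h1, ?_⟩
  rw [show k = scalarU hF ⟨Units.mk0 c hc0, (mem_normOne_iff hF).mpr h1⟩ from Subtype.ext (Units.ext (by
    rw [scalarU_coe, h]
    ext i j
    simp [Matrix.scalar_apply, Matrix.one_apply, Matrix.diagonal_apply])), conjU_scalar]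

theorem gu_smul_norm {g g' : GUG (m + 2) F q} {c : F} (h : (g'.1 : Mat (m + 2) F) = c • (g.1 : Mat (m + 2) F)) :
    c * tau hF c = 1 := by
  refine (smul_one_gu hF (k := g⁻¹ * g') ?_).1
  rw [Subgroup.coe_mul, Units.val_mul, h, Matrix.mul_smul, Subgroup.coe_inv, ← Units.val_mul, inv_mul_cancel,
    Units.val_one]

theorem gt_eq_iff (hm : 1 ≤ m) {g g' : GUG (m + 2) F q} :
    gt hF g = gt hF g' ↔ ∃ c : F, c ≠ 0 ∧ (g'.1 : Mat (m + 2) F) = c • (g.1 : Mat (m + 2) F) := by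
  rw [gt, gt, mul_left_inj, conjU_eq_iff hF hm]
  constructor
  · rintro ⟨u, rfl⟩
    refine ⟨((u : Fˣ) : F), (u : Fˣ).ne_zero, ?_⟩
    rw [Subgroup.coe_mul, Units.val_mul, scalarU_coe]
    ext i j; simp [Matrix.scalar_apply, Matrix.mul_diagonal, mul_comm]
  · rintro ⟨c, hc0, hc⟩
    refine ⟨⟨Units.mk0 c hc0, (mem_normOne_iff hF).mpr (gu_smul_norm hF hc)⟩, Subtype.ext (Units.ext ?_)⟩
    rw [hc, Subgroup.coe_mul, Units.val_mul, scalarU_coe]
    ext i j; simp [Matrix.scalar_apply, Matrix.mul_diagonal, mul_comm]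

theorem conj_gt (k g : GUG (m + 2) F q) :
    conjU k * gt hF g * (conjU k)⁻¹ = gt hF (k * g * (guField (tau hF) k)⁻¹) := by
  rw [gt, gt, ← map_inv, ← map_inv (guField (tau hF)) k, map_mul, map_mul, mul_assoc, mul_assoc,
    fieldU_mul_conjU]
  simp only [mul_assoc]

/-- Conjugation as an equation of matrices. -/
theorem conj_gt_eq_iff (hm : 1 ≤ m) {k g g' : GUG (m + 2) F q} :
    conjU k * gt hF g * (conjU k)⁻¹ = gt hF g' ↔ ∃ c : F, c ≠ 0 ∧
      (k.1 : Mat (m + 2) F) * (g.1 : Mat (m + 2) F) =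
        c • ((g'.1 : Mat (m + 2) F) * (k.1 : Mat (m + 2) F).map (tau hF)) := by
  have hk : (k.1 : Mat (m + 2) F).map (tau hF) = ((guField (tau hF) k).1 : Mat (m + 2) F) :=
    (guField_coe _ _).symm
  rw [conj_gt, eq_comm, gt_eq_iff hF hm]
  refine exists_congr fun c => and_congr_right fun _ => ?_
  rw [hk, Subgroup.coe_mul, Subgroup.coe_inv, Units.val_mul, ← Matrix.smul_mul]
  constructor
  · intro h
    rw [← h, Matrix.mul_assoc, Units.inv_mul, mul_one, Subgroup.coe_mul, Units.val_mul]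
  · intro h
    rw [Subgroup.coe_mul, Units.val_mul, h, Matrix.mul_assoc, ← Units.val_mul, mul_inv_cancel, Units.val_one,
      mul_one]

theorem gt_ne_one (hm : 1 ≤ m) (g : GUG (m + 2) F q) : gt hF g ≠ 1 := by
  intro h
  have h1 := field_eq_one_of_conjU hF hm (g := g⁻¹) (σ := tau hF)
    (by rw [map_inv]; exact inv_eq_of_mul_eq_one_right h)
  obtain ⟨a, ha⟩ := tau_ne hF
  exact ha (by rw [h1]; rfl)

theorem gt_sq (g : GUG (m + 2) F q) : gt hF g * gt hF g = conjU (g * guField (tau hF) g) := by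
  have h2 : fieldU (n := m + 2) (q := q) (tau hF) * fieldU (tau hF) = 1 := by
    rw [← map_mul, show tau hF * tau hF = 1 from RingEquiv.ext fun a => tau_tau hF a, map_one]
  rw [gt, mul_assoc, ← mul_assoc (fieldU (tau hF)), fieldU_mul_conjU, mul_assoc, h2, mul_one, ← map_mul]

/-- The form descended from a unitary matrix. -/
structure Datum {F₀ : Type*} [Field F₀] (e : F₀ →+* F) (γ : MulAut (PSUG (m + 2) F q))
    (γ' : MulAut (AutPSL.PSLG (m + 2) F₀)) where
  g : GUG (m + 2) F q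
  B : GL (Fin (m + 2)) F₀
  P : GL (Fin (m + 2)) F
  v : F
  s : F
  v0 : v ≠ 0
  s0 : s ≠ 0
  hγ : γ = gt hF g
  hγ' : γ' = gx B
  form : (P : Mat (m + 2) F)ᵀ * (P : Mat (m + 2) F).map (tau hF) =
    s • (B : Matrix (Fin (m + 2)) (Fin (m + 2)) F₀).map e
  twist : (g.1 : Mat (m + 2) F) * (P : Mat (m + 2) F).map (tau hF) = v • (P : Mat (m + 2) F)

end Basic

theorem descend_scalar {F₀ : Type*} [Field F₀] {ι : Type*} (e : F₀ →+* F) {M N : Matrix ι ι F₀} {r : F}
    (hM : M ≠ 0) (h : N.map e = r • M.map e) : ∃ c : F₀, r = e c ∧ N = c • M := by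
  obtain ⟨i, j, hij⟩ : ∃ i j, M i j ≠ 0 := by
    by_contra hall
    push Not at hall
    exact hM (Matrix.ext hall)
  have he : r = e (N i j / M i j) := by
    have := congrFun (congrFun h i) j
    simp only [Matrix.map_apply, Matrix.smul_apply, smul_eq_mul] at this
    rw [map_div₀, this, mul_div_assoc, div_self ((map_ne_zero e).mpr hij), mul_one]
  refine ⟨_, he, Matrix.map_injective e.injective ?_⟩
  show N.map e = _
  rw [h, he]
  ext a b; simp

variable {F₀ : Type*} [Field F₀] (e : F₀ →+* F) (hfix : ∀ y : F, tau hF y = y ↔ ∃ a, e a = y)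

theorem gl_ne_zero (B : GL (Fin (m + 2)) F₀) : (B : Matrix (Fin (m + 2)) (Fin (m + 2)) F₀) ≠ 0 := by
  intro h0
  have := B.isUnit
  rw [h0, isUnit_zero_iff] at this
  exact zero_ne_one ((congrFun (congrFun this 0) 0).trans (Matrix.one_apply_eq _))

theorem glmap_coe (A : GL (Fin (m + 2)) F₀) :
    ((Matrix.GeneralLinearGroup.map e A : GL (Fin (m + 2)) F) : Mat (m + 2) F) =
      (A : Matrix (Fin (m + 2)) (Fin (m + 2)) F₀).map e := rfl

include hfix in
theorem map_e_tau {a b : Type*} (M : Matrix a b F₀) : (M.map e).map (tau hF) = M.map e := by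
  ext i j
  exact (hfix _).mpr ⟨M i j, rfl⟩

variable {e} {γ δ : MulAut (PSUG (m + 2) F q)} {γ' δ' : MulAut (AutPSL.PSLG (m + 2) F₀)}

include hfix in
/-- The matrix of the form is Hermitian. -/
theorem Datum.herm (D : Datum hF e γ γ') : D.s • (D.B : Matrix (Fin (m + 2)) (Fin (m + 2)) F₀)ᵀ.map e =
    tau hF D.s • (D.B : Matrix (Fin (m + 2)) (Fin (m + 2)) F₀).map e := by
  have h1 := congrArg Matrix.transpose D.form
  have h2 := congrArg (fun M : Mat (m + 2) F => M.map (tau hF)) D.form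
  simp only [Matrix.map_mul, map_tau_tau hF, map_smul_tau hF, map_e_tau hF e hfix] at h2
  rw [transpose_mul, transpose_transpose, transpose_smul, ← Matrix.transpose_map, ← Matrix.transpose_map] at h1
  rw [← h1, h2]

include hfix in
theorem Datum.norm_v (D : Datum hF e γ γ') : D.v * tau hF D.v * D.s = tau hF D.s := by
  have h1 : ((D.g.1 : Mat (m + 2) F) * (D.P : Mat (m + 2) F).map (tau hF))ᵀ *
      ((D.g.1 : Mat (m + 2) F) * (D.P : Mat (m + 2) F).map (tau hF)).map (tau hF) =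
      ((D.P : Mat (m + 2) F).map (tau hF))ᵀ * (D.P : Mat (m + 2) F) := by
    rw [transpose_mul, Matrix.map_mul, map_tau_tau hF, Matrix.mul_assoc,
      ← Matrix.mul_assoc (D.g.1 : Mat (m + 2) F)ᵀ, gu_gram hF, Matrix.one_mul]
  have h2 := congrArg (fun M : Mat (m + 2) F => M.map (tau hF)) D.form
  simp only [Matrix.map_mul, map_tau_tau hF, map_smul_tau hF, map_e_tau hF e hfix] at h2
  rw [D.twist, transpose_smul, map_smul_tau hF, Matrix.smul_mul, Matrix.mul_smul, smul_smul, D.form, smul_smul,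
    ← Matrix.transpose_map, h2] at h1
  obtain ⟨i, j, hij⟩ : ∃ i j, (D.B : Matrix (Fin (m + 2)) (Fin (m + 2)) F₀) i j ≠ 0 := by
    by_contra hall
    push Not at hall
    exact gl_ne_zero D.B (Matrix.ext hall)
  have h3 := congrFun (congrFun h1 i) j
  simp only [Matrix.smul_apply, Matrix.map_apply, smul_eq_mul] at h3
  exact mul_right_cancel₀ ((map_ne_zero e).mpr hij) h3

include hfix in
theorem Datum.transpose_B (D : Datum hF e γ γ') :
    (D.B : Matrix (Fin (m + 2)) (Fin (m + 2)) F₀)ᵀ = D.B ∨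
      (D.B : Matrix (Fin (m + 2)) (Fin (m + 2)) F₀)ᵀ = -(D.B : Matrix (Fin (m + 2)) (Fin (m + 2)) F₀) := by
  obtain ⟨c, -, hcB⟩ := descend_scalar e (gl_ne_zero D.B)
    (N := (D.B : Matrix (Fin (m + 2)) (Fin (m + 2)) F₀)ᵀ) (r := D.s⁻¹ * tau hF D.s) (by
      rw [mul_smul, ← D.herm hF hfix, smul_smul, inv_mul_cancel₀ D.s0, one_smul])
  have h := congrArg Matrix.transpose hcB
  rw [transpose_transpose, transpose_smul, hcB, smul_smul] at h
  have h3 : (c * c - 1) • (D.B : Matrix (Fin (m + 2)) (Fin (m + 2)) F₀) = 0 := by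
    rw [sub_smul, one_smul, ← h, sub_self]
  rcases mul_self_eq_one_iff.mp (sub_eq_zero.mp ((smul_eq_zero.mp h3).resolve_right (gl_ne_zero D.B))) with h | h
  · exact Or.inl (by rw [hcB, h, one_smul])
  · exact Or.inr (by rw [hcB, h, neg_smul, one_smul])

include hfix in
theorem Datum.orderOf_left (hm : 1 ≤ m) (D : Datum hF e γ γ') : orderOf γ = 2 := by
  rw [D.hγ]
  refine orderOf_eq_prime ?_ (gt_ne_one hF hm _)
  rw [pow_two, gt_sq]
  refine (smul_one_gu hF (c := D.v * tau hF D.v) ?_).2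
  refine D.P.isUnit.mul_right_cancel ?_
  have h := congrArg (fun M : Mat (m + 2) F => M.map (tau hF)) D.twist
  simp only [Matrix.map_mul, map_tau_tau hF, map_smul_tau hF] at h
  rw [Subgroup.coe_mul, Units.val_mul, guField_coe, Matrix.mul_assoc, h, Matrix.mul_smul, D.twist, smul_smul,
    Matrix.smul_mul, one_mul, mul_comm]

include hfix in
theorem Datum.orderOf_right (hm : 1 ≤ m) (D : Datum hF e γ γ') : orderOf γ' = 2 := by
  rw [D.hγ', gx_orderOf_two (by omega)]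
  exact D.transpose_B hF hfix

theorem Datum.graph_left (hm : 1 ≤ m) (D : Datum hF e γ γ') : Cfsg.IsGraphAutClassPSU γ :=
  ⟨by omega, conjU D.g, fieldU (tau hF), tau hF, by rw [orderOf_tau hF]; exact even_two,
    isInnerDiagonal_iff.mpr ⟨_, rfl⟩, isFieldAutOf_iff.mpr rfl, D.hγ⟩

theorem Datum.graph_right (hm : 1 ≤ m) (D : Datum hF e γ γ') : Cfsg.IsGraphAutClassPSL γ' :=
  GraphForms82.isGraphAut_iff.mpr ⟨by omega, _, D.hγ'⟩

section Rel

/-- `k` descends to `A`. -/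
def Rel (P₁ P₂ : GL (Fin (m + 2)) F) (e : F₀ →+* F) (k : GUG (m + 2) F q) (A : GL (Fin (m + 2)) F₀)
    (d : F) : Prop :=
  d ≠ 0 ∧ d • ((k.1 : Mat (m + 2) F) * (P₁ : Mat (m + 2) F)) =
    (P₂ : Mat (m + 2) F) * (A : Matrix (Fin (m + 2)) (Fin (m + 2)) F₀).map e

variable (D₁ : Datum hF e γ γ') (D₂ : Datum hF e δ δ')

include hfix in
theorem rel_congr {k : GUG (m + 2) F q} {A : GL (Fin (m + 2)) F₀} {d : F} (h : Rel D₁.P D₂.P e k A d) :
    ∃ c : F₀ˣ, d * tau hF d * D₁.s = D₂.s * e c ∧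
      (A : Matrix (Fin (m + 2)) (Fin (m + 2)) F₀)ᵀ * D₂.B * A =
        (c : F₀) • (D₁.B : Matrix (Fin (m + 2)) (Fin (m + 2)) F₀) := by
  obtain ⟨hd, h⟩ := h
  have h1 : (d • ((k.1 : Mat (m + 2) F) * (D₁.P : Mat (m + 2) F)))ᵀ *
      (d • ((k.1 : Mat (m + 2) F) * (D₁.P : Mat (m + 2) F))).map (tau hF) =
      (d * tau hF d * D₁.s) • (D₁.B : Matrix (Fin (m + 2)) (Fin (m + 2)) F₀).map e := by
    rw [map_smul_tau hF, transpose_smul, Matrix.smul_mul, Matrix.mul_smul, smul_smul, transpose_mul,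
      Matrix.map_mul, Matrix.mul_assoc, ← Matrix.mul_assoc (k.1 : Mat (m + 2) F)ᵀ, gu_gram hF, Matrix.one_mul,
      D₁.form, smul_smul]
  rw [h, transpose_mul, Matrix.map_mul, map_e_tau hF e hfix, Matrix.mul_assoc,
    ← Matrix.mul_assoc (D₂.P : Mat (m + 2) F)ᵀ, D₂.form, Matrix.smul_mul, Matrix.mul_smul,
    ← Matrix.mul_assoc, ← Matrix.transpose_map, ← Matrix.map_mul, ← Matrix.map_mul] at h1
  obtain ⟨c, hc, hN⟩ := descend_scalar e (gl_ne_zero D₁.B)
    (r := D₂.s⁻¹ * (d * tau hF d * D₁.s)) (by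
      rw [mul_smul, ← h1, smul_smul, inv_mul_cancel₀ D₂.s0, one_smul])
  have hc0 : c ≠ 0 := by
    rintro rfl
    rw [map_zero] at hc
    exact mul_ne_zero (inv_ne_zero D₂.s0) (mul_ne_zero (mul_ne_zero hd ((map_ne_zero _).mpr hd)) D₁.s0) hc
  refine ⟨Units.mk0 c hc0, ?_, hN⟩
  rw [Units.val_mk0, ← hc, ← mul_assoc, mul_inv_cancel₀ D₂.s0, one_mul]

include hfix in
theorem rel_conj (hm : 1 ≤ m) {k : GUG (m + 2) F q} {A : GL (Fin (m + 2)) F₀} {d : F}
    (h : Rel D₁.P D₂.P e k A d) : conjU k * γ * (conjU k)⁻¹ = δ := by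
  obtain ⟨hd, h⟩ := h
  rw [D₁.hγ, D₂.hγ, conj_gt_eq_iff hF hm]
  refine ⟨D₁.v * tau hF d / (d * D₂.v), div_ne_zero (mul_ne_zero D₁.v0 ((map_ne_zero _).mpr hd))
    (mul_ne_zero hd D₂.v0), (gl_map_ne hF D₁.P).mul_right_cancel ?_⟩
  have h' := congrArg (fun M : Mat (m + 2) F => M.map (tau hF)) h
  simp only [Matrix.map_mul, map_smul_tau hF, map_e_tau hF e hfix] at h'
  have h'' := congrArg (fun M => (tau hF d)⁻¹ • M) h'
  simp only [smul_smul, inv_mul_cancel₀ ((map_ne_zero (tau hF)).mpr hd), one_smul] at h''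
  have hk := congrArg (fun M => d⁻¹ • M) h
  simp only [smul_smul, inv_mul_cancel₀ hd, one_smul] at hk
  rw [Matrix.mul_assoc, D₁.twist, Matrix.mul_smul, hk, smul_smul, Matrix.smul_mul, Matrix.mul_assoc, h'',
    Matrix.mul_smul, ← Matrix.mul_assoc, D₂.twist, Matrix.smul_mul, smul_smul, smul_smul]
  congr 1
  have := (map_ne_zero (tau hF)).mpr hd
  have := D₂.v0
  field_simp

include hfix in
theorem exists_rel_of_conj (hm : 1 ≤ m) {k : GUG (m + 2) F q} (h : conjU k * γ * (conjU k)⁻¹ = δ) :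
    ∃ (A : GL (Fin (m + 2)) F₀) (d : F), Rel D₁.P D₂.P e k A d := by
  classical
  rw [D₁.hγ, D₂.hγ, conj_gt_eq_iff hF hm] at h
  obtain ⟨c, hc0, hc⟩ := h
  set X : Mat (m + 2) F := ((D₂.P⁻¹ : GL (Fin (m + 2)) F) : Mat (m + 2) F) * (k.1 : Mat (m + 2) F) * D₁.P
  have hX : (D₂.P : Mat (m + 2) F) * X = (k.1 : Mat (m + 2) F) * D₁.P := by
    rw [← Matrix.mul_assoc, ← Matrix.mul_assoc, ← Units.val_mul, mul_inv_cancel, Units.val_one, one_mul]
  have hX' := congrArg (fun M : Mat (m + 2) F => M.map (tau hF)) hX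
  simp only [Matrix.map_mul] at hX'
  have h1 : (k.1 : Mat (m + 2) F) * (D₁.g.1 : Mat (m + 2) F) * (D₁.P : Mat (m + 2) F).map (tau hF) =
      c • ((D₂.g.1 : Mat (m + 2) F) * (k.1 : Mat (m + 2) F).map (tau hF)) *
        (D₁.P : Mat (m + 2) F).map (tau hF) := by rw [hc]
  rw [Matrix.mul_assoc, D₁.twist, Matrix.mul_smul, ← hX, Matrix.smul_mul, Matrix.mul_assoc, ← hX',
    ← Matrix.mul_assoc (D₂.g.1 : Mat (m + 2) F), D₂.twist, Matrix.smul_mul, smul_smul] at h1
  have h1' : (D₂.P : Mat (m + 2) F) * (D₁.v • X) =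
      (D₂.P : Mat (m + 2) F) * ((c * D₂.v) • X.map (tau hF)) := by
    rw [Matrix.mul_smul, Matrix.mul_smul]; exact h1
  have h2 := congrArg (fun M => D₁.v⁻¹ • M) (D₂.P.isUnit.mul_left_cancel h1')
  simp only [smul_smul, inv_mul_cancel₀ D₁.v0, one_smul] at h2
  set r := D₁.v⁻¹ * (c * D₂.v)
  have hXu : IsUnit X := ((D₂.P⁻¹).isUnit.mul k.1.isUnit).mul D₁.P.isUnit
  have hr : r * tau hF r = 1 := by
    have h3 := congrArg (fun M : Mat (m + 2) F => M.map (tau hF)) h2
    simp only [map_smul_tau hF, map_tau_tau hF] at h3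
    have h4 : X = (r * tau hF r) • X := by
      conv_lhs => rw [h2, h3]
      rw [smul_smul]
    obtain ⟨i, j, hij⟩ : ∃ i j, X i j ≠ 0 := by
      by_contra hall
      push Not at hall
      have h0 : X = 0 := Matrix.ext hall
      rw [h0, isUnit_zero_iff] at hXu
      exact zero_ne_one ((congrFun (congrFun hXu 0) 0).trans (Matrix.one_apply_eq _))
    have h5 := congrFun (congrFun h4 i) j
    rw [Matrix.smul_apply, smul_eq_mul] at h5
    exact mul_right_cancel₀ hij (by rw [one_mul, ← h5])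
  obtain ⟨d, hd, hdr⟩ := exists_tau_eq_mul hF hr
  have h6 : ∀ i j, ∃ a, e a = d * X i j := fun i j => (hfix _).mp (by
    rw [map_mul, hdr]
    conv_rhs => rw [h2]
    simp only [Matrix.smul_apply, Matrix.map_apply, smul_eq_mul]
    ring)
  choose a ha using h6
  have hmap : (Matrix.of a).map e = d • X := by ext i j; simp [ha]
  have hdet : (Matrix.of a).det ≠ 0 := by
    intro h0
    have h7 : ((Matrix.of a).map e).det = 0 := by
      rw [← RingHom.mapMatrix_apply, ← RingHom.map_det, h0, map_zero]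
    rw [hmap, det_smul] at h7
    exact mul_ne_zero (pow_ne_zero _ hd) ((Matrix.isUnit_iff_isUnit_det _).mp hXu).ne_zero h7
  refine ⟨Matrix.GeneralLinearGroup.mkOfDetNeZero _ hdet, d, hd, ?_⟩
  rw [show ((Matrix.GeneralLinearGroup.mkOfDetNeZero _ hdet : GL (Fin (m + 2)) F₀) :
      Matrix (Fin (m + 2)) (Fin (m + 2)) F₀) = Matrix.of a from rfl, hmap, Matrix.mul_smul, hX]

include hfix in
theorem exists_rel_of_congr {A : GL (Fin (m + 2)) F₀} {c : F₀ˣ}
    (h : (A : Matrix (Fin (m + 2)) (Fin (m + 2)) F₀)ᵀ * D₂.B * A =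
      (c : F₀) • (D₁.B : Matrix (Fin (m + 2)) (Fin (m + 2)) F₀)) :
    ∃ (k : GUG (m + 2) F q) (d : F), Rel D₁.P D₂.P e k A d := by
  set Ae := (A : Matrix (Fin (m + 2)) (Fin (m + 2)) F₀).map e
  have hB : Aeᵀ * (D₂.B : Matrix (Fin (m + 2)) (Fin (m + 2)) F₀).map e * Ae =
      e c • (D₁.B : Matrix (Fin (m + 2)) (Fin (m + 2)) F₀).map e := by
    rw [← Matrix.transpose_map, ← Matrix.map_mul, ← Matrix.map_mul, h]
    ext i j; simp
  have hne : e c ≠ 0 := (map_ne_zero e).mpr c.ne_zero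
  have hBT : Aeᵀ * (D₂.B : Matrix (Fin (m + 2)) (Fin (m + 2)) F₀)ᵀ.map e * Ae =
      e c • (D₁.B : Matrix (Fin (m + 2)) (Fin (m + 2)) F₀)ᵀ.map e := by
    have := congrArg Matrix.transpose hB
    rwa [transpose_mul, transpose_mul, transpose_transpose, transpose_smul, ← Matrix.transpose_map,
      ← Matrix.transpose_map, ← Matrix.mul_assoc] at this
  have hrel : tau hF D₂.s * D₁.s = D₂.s * tau hF D₁.s := by
    have h1 := congrArg (fun M => (D₁.s) • (Aeᵀ * M * Ae)) (D₂.herm hF hfix)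
    simp only [Matrix.mul_smul, Matrix.smul_mul, hB, hBT, smul_smul] at h1
    rw [show D₁.s * (D₂.s * e c) = D₂.s * e c * D₁.s by ring, mul_smul (D₂.s * e c), D₁.herm hF hfix,
      smul_smul] at h1
    obtain ⟨i, j, hij⟩ : ∃ i j, (D₁.B : Matrix (Fin (m + 2)) (Fin (m + 2)) F₀) i j ≠ 0 := by
      by_contra hall
      push Not at hall
      exact gl_ne_zero D₁.B (Matrix.ext hall)
    have h2 := congrFun (congrFun h1 i) j
    simp only [Matrix.smul_apply, Matrix.map_apply, smul_eq_mul] at h2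
    have h3 := mul_right_cancel₀ ((map_ne_zero e).mpr hij) h2
    exact mul_right_cancel₀ hne (by linear_combination -h3)
  set r := D₂.s * e c / D₁.s with hr
  have hr0 : r ≠ 0 := div_ne_zero (mul_ne_zero D₂.s0 hne) D₁.s0
  have hfr : tau hF r = r := by
    rw [hr, map_div₀, map_mul, (hfix (e c)).mpr ⟨_, rfl⟩, div_eq_div_iff ((map_ne_zero _).mpr D₁.s0) D₁.s0]
    linear_combination e c * hrel
  obtain ⟨d, hd, hdd⟩ := exists_mul_tau hF hr0 hfr
  let dU : GL (Fin (m + 2)) F := Matrix.GeneralLinearGroup.scalar (Fin (m + 2)) (Units.mk0 d hd)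
  let kk : GL (Fin (m + 2)) F := dU⁻¹ * D₂.P * Matrix.GeneralLinearGroup.map e A * D₁.P⁻¹
  have hdU : ∀ M : Mat (m + 2) F, (dU : Mat (m + 2) F) * M = d • M := fun M => by
    ext i j; simp [dU, Matrix.scalar_apply, Matrix.diagonal_mul]
  have hk : d • ((kk : Mat (m + 2) F) * (D₁.P : Mat (m + 2) F)) = (D₂.P : Mat (m + 2) F) * Ae := by
    rw [← hdU, ← Units.val_mul, ← Units.val_mul, show dU * (kk * D₁.P) = D₂.P * Matrix.GeneralLinearGroup.map e A by
      simp [kk, mul_assoc], Units.val_mul, glmap_coe]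
  refine ⟨⟨kk, mem_gu_of_gram hF kk ?_⟩, d, hd, hk⟩
  have h1 : (d • ((kk : Mat (m + 2) F) * (D₁.P : Mat (m + 2) F)))ᵀ *
      (d • ((kk : Mat (m + 2) F) * (D₁.P : Mat (m + 2) F))).map (tau hF) =
      (d * tau hF d) • ((D₁.P : Mat (m + 2) F)ᵀ * ((kk : Mat (m + 2) F)ᵀ * (kk : Mat (m + 2) F).map (tau hF)) *
        (D₁.P : Mat (m + 2) F).map (tau hF)) := by
    rw [map_smul_tau hF, transpose_smul, Matrix.smul_mul, Matrix.mul_smul, smul_smul, transpose_mul,
      Matrix.map_mul]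
    simp only [Matrix.mul_assoc]
  rw [hk, transpose_mul, Matrix.map_mul, map_e_tau hF e hfix, Matrix.mul_assoc,
    ← Matrix.mul_assoc (D₂.P : Mat (m + 2) F)ᵀ, D₂.form, Matrix.smul_mul, Matrix.mul_smul,
    ← Matrix.mul_assoc Aeᵀ, hB, smul_smul, show D₂.s * e c = d * tau hF d * D₁.s by
      rw [hdd, hr, div_mul_cancel₀ _ D₁.s0],
    mul_smul, ← D₁.form] at h1
  have h2 := congrArg (fun M => (d * tau hF d)⁻¹ • M) h1
  simp only [smul_smul, inv_mul_cancel₀ (hdd ▸ hr0 : d * tau hF d ≠ 0), one_smul] at h2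
  refine (gl_map_ne hF D₁.P).mul_right_cancel (
    ((Matrix.isUnit_transpose (A := (D₁.P : Mat (m + 2) F))).mpr D₁.P.isUnit).mul_left_cancel ?_)
  rw [← Matrix.mul_assoc, ← h2, one_mul]

include hfix D₁ D₂ in
theorem isConjUnder_iff (hm : 1 ≤ m) :
    Cfsg.IsConjUnder (Cfsg.inndiagPSU (m + 2) F q) γ δ ↔
      Cfsg.IsConjUnder (Cfsg.inndiagPSL (m + 2) F₀) γ' δ' := by
  constructor
  · rintro ⟨h, hh, he⟩
    obtain ⟨k, rfl⟩ := mem_inndiag_iff.mp hh
    obtain ⟨A, d, hA⟩ := exists_rel_of_conj hF hfix D₁ D₂ hm he.symm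
    obtain ⟨c, -, hc⟩ := rel_congr hF hfix D₁ D₂ hA
    refine CfsgLib.Split.isConjUnder_symm ?_
    rw [D₁.hγ', D₂.hγ']
    exact (isConj_gx_iff (by omega)).mpr ⟨A, c, hc⟩
  · intro h
    have h' := CfsgLib.Split.isConjUnder_symm h
    rw [D₁.hγ', D₂.hγ'] at h'
    obtain ⟨A, c, hc⟩ := (isConj_gx_iff (by omega)).mp h'
    obtain ⟨k, d, hk⟩ := exists_rel_of_congr hF hfix D₁ D₂ hc
    exact ⟨conjU k, mem_inndiag_iff.mpr ⟨k, rfl⟩, (rel_conj hF hfix D₁ D₂ hm hk).symm⟩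

end Rel

include hfix in
/-- The centralizers in the inner-diagonal groups. -/
theorem centralizer_iso (hm : 1 ≤ m) (D : Datum hF e γ γ') :
    Nonempty (↥(Cfsg.inndiagPSU (m + 2) F q ⊓ Subgroup.centralizer {γ}) ≃*
      ↥(Cfsg.inndiagPSL (m + 2) F₀ ⊓ Subgroup.centralizer {γ'})) := by
  let S : Subgroup (GUG (m + 2) F q × GL (Fin (m + 2)) F₀) :=
    { carrier := {x | ∃ d, Rel D.P D.P e x.1 x.2 d}
      one_mem' := ⟨1, one_ne_zero, by simp⟩
      mul_mem' := by
        rintro ⟨k, A⟩ ⟨k', A'⟩ ⟨d, hd, h⟩ ⟨d', hd', h'⟩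
        refine ⟨d * d', mul_ne_zero hd hd', ?_⟩
        show (d * d') • (((k * k').1 : Mat (m + 2) F) * (D.P : Mat (m + 2) F)) =
          (D.P : Mat (m + 2) F) * ((A * A' : GL (Fin (m + 2)) F₀) : Matrix _ _ F₀).map e
        rw [Subgroup.coe_mul, Units.val_mul, Units.val_mul, Matrix.map_mul, ← Matrix.mul_assoc _ _ (Matrix.map _ _),
          ← h, Matrix.smul_mul, Matrix.mul_assoc, Matrix.mul_assoc, ← h', Matrix.mul_smul, smul_smul]
      inv_mem' := by
        rintro ⟨k, A⟩ ⟨d, hd, h⟩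
        refine ⟨d⁻¹, inv_ne_zero hd, ?_⟩
        show d⁻¹ • (((k⁻¹).1 : Mat (m + 2) F) * (D.P : Mat (m + 2) F)) =
          (D.P : Mat (m + 2) F) * ((A⁻¹ : GL (Fin (m + 2)) F₀) : Matrix _ _ F₀).map e
        have e1 : (A : Matrix (Fin (m + 2)) (Fin (m + 2)) F₀).map e *
            ((A⁻¹ : GL (Fin (m + 2)) F₀) : Matrix _ _ F₀).map e = 1 := by
          rw [← Matrix.map_mul, Units.mul_inv, Matrix.map_one _ (map_zero e) (map_one e)]
        have e2 : ((k⁻¹).1 : Mat (m + 2) F) * (k.1 : Mat (m + 2) F) = 1 := by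
          rw [Subgroup.coe_inv]; exact Units.inv_mul _
        replace h : d • ((k.1 : Mat (m + 2) F) * (D.P : Mat (m + 2) F)) =
            (D.P : Mat (m + 2) F) * (A : Matrix (Fin (m + 2)) (Fin (m + 2)) F₀).map e := h
        conv_lhs => rw [← mul_one (D.P : Mat (m + 2) F), ← e1, ← Matrix.mul_assoc (D.P : Mat (m + 2) F), ← h]
        rw [Matrix.smul_mul, Matrix.mul_smul, smul_smul, inv_mul_cancel₀ hd, one_smul, ← Matrix.mul_assoc,
          ← Matrix.mul_assoc, e2, one_mul] }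
  let φ : ↥S →* MulAut (PSUG (m + 2) F q) := conjU.comp ((MonoidHom.fst _ _).comp S.subtype)
  let φ' : ↥S →* MulAut (AutPSL.PSLG (m + 2) F₀) := AutPSL.conjAut.comp ((MonoidHom.snd _ _).comp S.subtype)
  have hr : φ.range = Cfsg.inndiagPSU (m + 2) F q ⊓ Subgroup.centralizer {γ} := by
    ext β
    constructor
    · rintro ⟨⟨⟨k, A⟩, d, hd⟩, rfl⟩
      refine ⟨mem_inndiag_iff.mpr ⟨k, rfl⟩, Subgroup.mem_centralizer_singleton_iff.mpr ?_⟩
      exact mul_inv_eq_iff_eq_mul.mp (rel_conj hF hfix D D hm hd)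
    · rintro ⟨h1, h2⟩
      obtain ⟨k, rfl⟩ := mem_inndiag_iff.mp h1
      obtain ⟨A, d, h⟩ := exists_rel_of_conj hF hfix D D hm (mul_inv_eq_iff_eq_mul.mpr
        (Subgroup.mem_centralizer_singleton_iff.mp h2))
      exact ⟨⟨⟨k, A⟩, d, h⟩, rfl⟩
  have hr' : φ'.range = Cfsg.inndiagPSL (m + 2) F₀ ⊓ Subgroup.centralizer {γ'} := by
    ext β
    constructor
    · rintro ⟨⟨⟨k, A⟩, d, hd⟩, rfl⟩
      refine ⟨AutPSL.mem_inndiag_iff.mpr ⟨A, rfl⟩, ?_⟩
      obtain ⟨c, -, hc⟩ := rel_congr hF hfix D D hd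
      exact (congrArg (fun z => AutPSL.conjAut A ∈ Subgroup.centralizer {z}) D.hγ').mpr
        ((mem_centralizer_gx (by omega)).mpr ⟨c, hc⟩)
    · rintro ⟨h1, h2⟩
      obtain ⟨A, rfl⟩ := AutPSL.mem_inndiag_iff.mp h1
      rw [D.hγ'] at h2
      obtain ⟨c, hc⟩ := (mem_centralizer_gx (by omega)).mp h2
      obtain ⟨k, d, h⟩ := exists_rel_of_congr hF hfix D D hc
      exact ⟨⟨⟨k, A⟩, d, h⟩, rfl⟩
  have hk : φ.ker = φ'.ker := by
    ext ⟨⟨k, A⟩, d, hd, h⟩
    show conjU k = 1 ↔ AutPSL.conjAut A = 1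
    constructor
    · intro hk1
      obtain ⟨u, rfl⟩ := eq_scalar_of_conjU_eq_one hF hm hk1
      obtain ⟨c, -, hc⟩ := descend_scalar e (M := (1 : Matrix (Fin (m + 2)) (Fin (m + 2)) F₀))
        one_ne_zero (N := (A : Matrix (Fin (m + 2)) (Fin (m + 2)) F₀)) (r := d * ((u : Fˣ) : F)) (by
          refine D.P.isUnit.mul_left_cancel ?_
          rw [← h, Matrix.map_one _ (map_zero e) (map_one e), Matrix.mul_smul, mul_one, mul_smul, scalarU_coe]
          ext i j
          simp [Matrix.scalar_apply, Matrix.diagonal_mul])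
      have hc0 : c ≠ 0 := fun h0 => gl_ne_zero A (by rw [hc, h0, zero_smul])
      refine (AutPSL.conjAut_eq_one_iff (by omega)).mpr ⟨Units.mk0 c hc0, Units.ext ?_⟩
      rw [hc]
      ext i j; simp [Matrix.scalar_apply, Matrix.one_apply, Matrix.diagonal_apply]
    · intro hA1
      obtain ⟨u, rfl⟩ := (AutPSL.conjAut_eq_one_iff (by omega)).mp hA1
      refine (smul_one_gu hF (c := d⁻¹ * e u) ?_).2
      refine D.P.isUnit.mul_right_cancel ?_
      rw [Matrix.smul_mul, one_mul, mul_smul]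
      refine smul_right_injective _ hd ?_
      simp only [smul_smul, mul_inv_cancel_left₀ hd]
      rw [h]
      ext i j
      simp [Matrix.scalar_apply, Matrix.mul_diagonal, Matrix.diagonal_map, mul_comm]
  exact ⟨(MulEquiv.subgroupCongr hr).symm.trans
    ((QuotientGroup.quotientKerEquivRange φ).symm.trans
      ((QuotientGroup.quotientMulEquivOfEq hk).trans
        ((QuotientGroup.quotientKerEquivRange φ').trans (MulEquiv.subgroupCongr hr'))))⟩

theorem exists_hom (hF : Fintype.card F = q ^ 2) [Fintype F₀] (hF₀ : Fintype.card F₀ = q) :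
    ∃ e : F₀ →+* F, ∀ y, tau hF y = y ↔ ∃ a, e a = y := by
  have := Fintype.ofFinite (fixedSub (tau hF))
  have hcard : Fintype.card F₀ = Fintype.card (fixedSub (tau hF)) := by
    exact hF₀.trans ((natCard_fixed_tau hF).symm.trans Nat.card_eq_fintype_card)
  let e := FiniteField.ringEquivOfCardEq hcard
  exact ⟨(fixedSub (tau hF)).subtype.comp e.toRingHom, fun y =>
    ⟨fun h => ⟨e.symm ⟨y, h⟩, by simp⟩, fun ⟨a, ha⟩ => ha ▸ (e a).2⟩⟩

include hfix in
theorem nonempty_trans (hm : 1 ≤ m) (D : Datum hF e γ γ') {X : Type*} [Group X]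
    (h : Nonempty (↥(Cfsg.inndiagPSL (m + 2) F₀ ⊓ Subgroup.centralizer {γ'}) ≃* X)) :
    Nonempty (↥(Cfsg.inndiagPSU (m + 2) F q ⊓ Subgroup.centralizer {γ}) ≃* X) :=
  (centralizer_iso hF hfix hm D).elim fun E => h.map fun E' => E.trans E'

theorem datum_one : Nonempty (Datum hF e (fieldU (n := m + 2) (q := q) (tau hF))
    (gx (1 : GL (Fin (m + 2)) F₀))) :=
  ⟨⟨1, 1, 1, 1, 1, one_ne_zero, one_ne_zero, by rw [gt, map_one, one_mul], rfl,
    by simp [Matrix.map_one _ (map_zero (tau hF)) (map_one (tau hF))],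
    by simp [Matrix.map_one _ (map_zero (tau hF)) (map_one (tau hF))]⟩⟩

section Exists

include hfix

/-- Every involutory graph automorphism descends. -/
theorem exists_datum (hm : 1 ≤ m) {x : MulAut (PSUG (m + 2) F q)} (hx : Cfsg.IsGraphAutClassPSU x)
    (hx2 : orderOf x = 2) :
    ∃ y : MulAut (AutPSL.PSLG (m + 2) F₀), Nonempty (Datum hF e x y) := by
  classical
  obtain ⟨-, δ₁, φ₁, σ, hev, hδ, hφ, rfl⟩ := hx
  obtain ⟨g, rfl⟩ := isInnerDiagonal_iff.mp hδ
  rw [isFieldAutOf_iff] at hφ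
  subst hφ
  have hsq : conjU (g * guField σ g) * fieldU (σ * σ) = 1 := by
    have := pow_orderOf_eq_one (conjU g * fieldU σ)
    rw [hx2, pow_two, mul_assoc, ← mul_assoc (fieldU σ), fieldU_mul_conjU, mul_assoc, ← map_mul, ← mul_assoc,
      ← map_mul] at this
    exact this
  have hσ2 : σ * σ = 1 := field_eq_one_of_conjU hF hm (g := (g * guField σ g)⁻¹)
    (by rw [map_inv]; exact inv_eq_of_mul_eq_one_right hsq)
  have hσ : orderOf σ = 2 := orderOf_eq_prime (by rw [pow_two]; exact hσ2) fun h1 => by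
    rw [h1, orderOf_one] at hev; exact Nat.not_even_one hev
  obtain rfl : σ = tau hF := involution_unique hσ (orderOf_tau hF)
  rw [hσ2, map_one, mul_one] at hsq
  obtain ⟨u, hu⟩ := eq_scalar_of_conjU_eq_one hF hm hsq
  set c : F := ((u : Fˣ) : F) with hcdef
  have hcn : c * tau hF c = 1 := (mem_normOne_iff hF).mp u.2
  have hgg : (g.1 : Mat (m + 2) F) * (g.1 : Mat (m + 2) F).map (tau hF) = c • 1 := by
    rw [← guField_coe, ← Units.val_mul, ← Subgroup.coe_mul, hu, scalarU_coe]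
    ext i j
    simp [Matrix.scalar_apply, Matrix.one_apply, Matrix.diagonal_apply, c]
  have hcf : tau hF c = c := by
    have h1 := congrArg (fun M : Mat (m + 2) F => M.map (tau hF)) hgg
    simp only [Matrix.map_mul, map_tau_tau hF, map_smul_tau hF, Matrix.map_one _ (map_zero _) (map_one _)] at h1
    have h2 : (g.1 : Mat (m + 2) F).map (tau hF) * g.1 = c • 1 := by
      have hu' := g.1.isUnit
      refine hu'.mul_left_cancel ?_
      rw [← Matrix.mul_assoc, hgg, Matrix.smul_mul, Matrix.mul_smul, one_mul, mul_one]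
    rw [h1] at h2
    simpa using congrFun (congrFun h2 0) 0
  have hc0 : c ≠ 0 := (u : Fˣ).ne_zero
  obtain ⟨w, hw0, hw⟩ := exists_mul_tau hF (inv_ne_zero hc0) (by rw [map_inv₀, hcf])
  let wg : GL (Fin (m + 2)) F := Matrix.GeneralLinearGroup.scalar (Fin (m + 2)) (Units.mk0 w hw0) * g.1
  have hwg : (wg : Mat (m + 2) F) = w • (g.1 : Mat (m + 2) F) := by
    ext i j; simp [wg, Matrix.scalar_apply, Matrix.diagonal_mul]
  obtain ⟨P, hP⟩ := exists_of_cocy_eq_one (tau hF) wg (by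
    rw [orderOf_tau hF]
    refine Units.ext ?_
    show (wg : Mat (m + 2) F) * ((wg : Mat (m + 2) F) * (1 : Mat (m + 2) F).map (tau hF)).map (tau hF) = 1
    rw [Matrix.map_one _ (map_zero _) (map_one _), mul_one, hwg, map_smul_tau hF, Matrix.smul_mul,
      Matrix.mul_smul, smul_smul, hgg, smul_smul, hw, inv_mul_cancel₀ hc0, one_smul])
  have hP' : (g.1 : Mat (m + 2) F) * (P : Mat (m + 2) F).map (tau hF) = w⁻¹ • (P : Mat (m + 2) F) := by
    have h : (wg : Mat (m + 2) F) * (P : Mat (m + 2) F).map (tau hF) = P := congrArg Units.val hP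
    rw [hwg, Matrix.smul_mul] at h
    conv_rhs => rw [← h, smul_smul, inv_mul_cancel₀ hw0, one_smul]
  set H := (P : Mat (m + 2) F)ᵀ * (P : Mat (m + 2) F).map (tau hF) with hH
  have hHc : H.map (tau hF) = c • H := by
    have h1 : ((g.1 : Mat (m + 2) F) * (P : Mat (m + 2) F).map (tau hF))ᵀ *
        ((g.1 : Mat (m + 2) F) * (P : Mat (m + 2) F).map (tau hF)).map (tau hF) =
        ((P : Mat (m + 2) F).map (tau hF))ᵀ * (P : Mat (m + 2) F) := by
      rw [transpose_mul, Matrix.map_mul, map_tau_tau hF, Matrix.mul_assoc,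
        ← Matrix.mul_assoc (g.1 : Mat (m + 2) F)ᵀ, gu_gram hF, Matrix.one_mul]
    rw [hP', transpose_smul, map_smul_tau hF, Matrix.smul_mul, Matrix.mul_smul, smul_smul, map_inv₀, ← mul_inv,
      hw, inv_inv, ← hH] at h1
    rw [hH, Matrix.map_mul, map_tau_tau hF, Matrix.transpose_map, ← h1]
  obtain ⟨s, hs0, hs⟩ := exists_tau_eq_mul hF hcn
  have h6 : ∀ i j, ∃ a, e a = H i j / s := fun i j => (hfix _).mp (by
    rw [map_div₀, hs, show tau hF (H i j) = c * H i j from congrFun (congrFun hHc i) j,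
      mul_div_mul_left _ _ hc0])
  choose a ha using h6
  have hmap : H = s • (Matrix.of a).map e := by
    ext i j; simp [ha, mul_div_cancel₀ _ hs0]
  have hdet : (Matrix.of a).det ≠ 0 := by
    intro h0
    have h7 : ((Matrix.of a).map e).det = 0 := by
      rw [← RingHom.mapMatrix_apply, ← RingHom.map_det, h0, map_zero]
    have h8 : H.det ≠ 0 := ((Matrix.isUnit_iff_isUnit_det _).mp
      (((Matrix.isUnit_transpose (A := (P : Mat (m + 2) F))).mpr P.isUnit).mul (gl_map_ne hF P))).ne_zero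
    rw [hmap, det_smul, h7, mul_zero] at h8
    exact h8 rfl
  exact ⟨_, ⟨⟨g, Matrix.GeneralLinearGroup.mkOfDetNeZero _ hdet, P, w⁻¹, s, inv_ne_zero hw0, hs0, rfl, rfl,
    hmap, hP'⟩⟩⟩

/-- Every involutory graph automorphism of `PSL_n(q)` lifts. -/
theorem exists_datum' (hm : 1 ≤ m) {y : MulAut (AutPSL.PSLG (m + 2) F₀)} (hy : Cfsg.IsGraphAutClassPSL y)
    (hy2 : orderOf y = 2) :
    ∃ x : MulAut (PSUG (m + 2) F q), Nonempty (Datum hF e x y) := by
  obtain ⟨-, B, rfl⟩ := GraphForms82.isGraphAut_iff.mp hy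
  obtain ⟨ε, hε, hB⟩ : ∃ ε : F₀, ε * ε = 1 ∧ (B : Matrix (Fin (m + 2)) (Fin (m + 2)) F₀)ᵀ =
      ε • (B : Matrix (Fin (m + 2)) (Fin (m + 2)) F₀) := by
    rcases (gx_orderOf_two (by omega)).mp hy2 with h | h
    · exact ⟨1, one_mul _, by rw [h, one_smul]⟩
    · exact ⟨-1, by ring, by rw [h, neg_smul, one_smul]⟩
  have hεf : tau hF (e ε) = e ε := (hfix _).mpr ⟨_, rfl⟩
  have hεn : e ε * tau hF (e ε) = 1 := by rw [hεf, ← map_mul, hε, map_one]
  have hε0 : e ε ≠ 0 := fun h => by rw [h, zero_mul] at hεn; exact zero_ne_one hεn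
  obtain ⟨s, hs0, hs⟩ := exists_tau_eq_mul hF hεn
  let H : GL (Fin (m + 2)) F :=
    Matrix.GeneralLinearGroup.scalar (Fin (m + 2)) (Units.mk0 s hs0) * Matrix.GeneralLinearGroup.map e B
  have hH : (H : Mat (m + 2) F) = s • (B : Matrix (Fin (m + 2)) (Fin (m + 2)) F₀).map e := by
    ext i j; simp [H, Matrix.scalar_apply, Matrix.diagonal_mul]
  obtain ⟨k, hk⟩ := exists_hermitian_sqrt (orderOf_tau hF) H (by
    rw [hH, transpose_smul, map_smul_tau hF, ← Matrix.transpose_map, map_e_tau hF e hfix, hB, hs]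
    ext i j
    simp only [Matrix.smul_apply, Matrix.map_apply, smul_eq_mul, map_mul]
    rw [show e ε * s * (e ε * e ((B : Matrix (Fin (m + 2)) (Fin (m + 2)) F₀) i j)) =
      e (ε * ε) * (s * e ((B : Matrix (Fin (m + 2)) (Fin (m + 2)) F₀) i j)) by rw [map_mul]; ring, hε, map_one,
      one_mul])
  let P : GL (Fin (m + 2)) F := Matrix.GeneralLinearGroup.mkOfDetNeZero (k : Mat (m + 2) F)ᵀ (by
    rw [det_transpose]; exact ((Matrix.isUnit_iff_isUnit_det _).mp k.isUnit).ne_zero)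
  have hPc : (P : Mat (m + 2) F) = (k : Mat (m + 2) F)ᵀ := rfl
  have hform : (P : Mat (m + 2) F)ᵀ * (P : Mat (m + 2) F).map (tau hF) =
      s • (B : Matrix (Fin (m + 2)) (Fin (m + 2)) F₀).map e := by
    rw [hPc, transpose_transpose, hk, hH]
  obtain ⟨v, hv0, hv⟩ := exists_mul_tau hF hε0 hεf
  let gg : GL (Fin (m + 2)) F := Matrix.GeneralLinearGroup.scalar (Fin (m + 2)) (Units.mk0 v hv0) *
    (P * (Matrix.GeneralLinearGroup.map (tau hF).toRingHom P)⁻¹)
  have hgg : (gg : Mat (m + 2) F) * (P : Mat (m + 2) F).map (tau hF) = v • (P : Mat (m + 2) F) := by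
    rw [show (P : Mat (m + 2) F).map (tau hF) =
      ((Matrix.GeneralLinearGroup.map (tau hF).toRingHom P : GL (Fin (m + 2)) F) : Mat (m + 2) F) from rfl,
      ← Units.val_mul, mul_assoc, mul_assoc, inv_mul_cancel, mul_one]
    ext i j; simp [Matrix.scalar_apply, Matrix.diagonal_mul]
  have hmem : gg ∈ Cfsg.GU (m + 2) F q := by
    refine mem_gu_of_gram hF gg ((gl_map_ne hF (Matrix.GeneralLinearGroup.map (tau hF).toRingHom P)).mul_right_cancel
      (((Matrix.isUnit_transpose (A := (P : Mat (m + 2) F).map (tau hF))).mpr (gl_map_ne hF P)).mul_left_cancel ?_))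
    have e1 : ((Matrix.GeneralLinearGroup.map (tau hF).toRingHom P : GL (Fin (m + 2)) F) : Mat (m + 2) F).map
        (tau hF) = (P : Mat (m + 2) F) := map_tau_tau hF _
    rw [e1, one_mul, ← Matrix.mul_assoc, ← Matrix.mul_assoc, ← transpose_mul, hgg, Matrix.mul_assoc,
      ← map_tau_tau hF (P : Mat (m + 2) F), ← Matrix.map_mul, map_tau_tau hF, hgg, map_smul_tau hF, transpose_smul,
      Matrix.smul_mul, Matrix.mul_smul, smul_smul, hv, hform, smul_smul]
    have h := congrArg (fun M : Mat (m + 2) F => M.map (tau hF)) hform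
    simp only [Matrix.map_mul, map_tau_tau hF, map_smul_tau hF, map_e_tau hF e hfix] at h
    rw [← Matrix.transpose_map, h, hs]
  exact ⟨_, ⟨⟨⟨gg, hmem⟩, B, P, v, s, hv0, hs0, rfl, rfl, hform, hgg⟩⟩⟩

end Exists

end CfsgLib.AutPSU.Graph
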