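import Cfsg.Agent.Lib.AutPSU.GraphCorr
import Cfsg.Agent.Lib.H82.GraphSplit

/-!
Splitting of the classes of involutory graph automorphisms of `PSU_n(q)`, through descent to `PSL_n(q)`.
-/

set_option autoImplicit false
set_option linter.unusedSectionVars false

namespace CfsgLib.AutPSU.Graph

open Matrix Cfsg CfsgLib.FieldGalois CfsgLib.GraphForms82

variable {m : ℕ} {F : Type*} [Field F] [Fintype F] {q : ℕ} {F₀ : Type*} [Field F₀]
  (hF : Fintype.card F = q ^ 2) {e : F₀ →+* F} (hfix : ∀ y : F, tau hF y = y ↔ ∃ a, e a = y)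
  {γ : MulAut (PSUG (m + 2) F q)} {γ' : MulAut (AutPSL.PSLG (m + 2) F₀)}

include hF in
theorem splitClassCount_graph (x : MulAut (PSUG (m + 2) F q)) :
    Cfsg.splitClassCount (Cfsg.inndiagPSU (m + 2) F q) (Cfsg.Inn (PSUG (m + 2) F q)) x =
      ((powMonoidHom (m + 2) : normOne F q →* normOne F q).range ⊔
        ((Subgroup.centralizer {x}).comap conjU).map (detU hF : GUG (m + 2) F q →* normOne F q)).index :=
  CfsgLib.Split.splitClassCount_eq_index (conjU : GUG (m + 2) F q →* _) (detU hF)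
    (detU_surjective hF (by omega)) _ inndiag_eq_range (inner_eq_map hF) x

theorem rel_det {P : GL (Fin (m + 2)) F} {k : GUG (m + 2) F q} {A : GL (Fin (m + 2)) F₀} {d : F}
    (h : Rel P P e k A d) :
    d ^ (m + 2) * ((detU hF k : Fˣ) : F) = e (A : Matrix (Fin (m + 2)) (Fin (m + 2)) F₀).det := by
  have h1 := congrArg Matrix.det h.2
  rw [det_smul, det_mul, det_mul, Fintype.card_fin, ← RingHom.mapMatrix_apply, ← RingHom.map_det,
    mul_comm (P : Mat (m + 2) F).det, ← mul_assoc] at h1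
  rw [detU_coe, Matrix.GeneralLinearGroup.val_det_apply]
  exact mul_right_cancel₀ ((Matrix.isUnit_iff_isUnit_det _).mp P.isUnit).ne_zero h1

include hfix in
theorem mem_det_centralizer (hm : 1 ≤ m) (D : Datum hF e γ γ') {δ : normOne F q} :
    δ ∈ ((Subgroup.centralizer {γ}).comap conjU).map (detU hF : GUG (m + 2) F q →* normOne F q) ↔
      ∃ (k : GUG (m + 2) F q) (A : GL (Fin (m + 2)) F₀) (d : F), Rel D.P D.P e k A d ∧ detU hF k = δ := by
  constructor
  · rintro ⟨k, hk, rfl⟩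
    obtain ⟨A, d, h⟩ := exists_rel_of_conj hF hfix D D hm
      (mul_inv_eq_iff_eq_mul.mpr (Subgroup.mem_centralizer_singleton_iff.mp hk))
    exact ⟨k, A, d, h, rfl⟩
  · rintro ⟨k, A, d, h, rfl⟩
    exact ⟨k, Subgroup.mem_centralizer_singleton_iff.mpr
      (mul_inv_eq_iff_eq_mul.mp (rel_conj hF hfix D D hm h)), rfl⟩

include hfix in
/-- `det A = ζ·cˡ` gives `det k = ζ·(cˡ/dⁿ)`. -/
theorem rel_mult (D : Datum hF e γ γ') {k : GUG (m + 2) F q} {A : GL (Fin (m + 2)) F₀} {d : F}
    (h : Rel D.P D.P e k A d) :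
    ∃ c : F₀ˣ, d * tau hF d = e c ∧ (A : Matrix (Fin (m + 2)) (Fin (m + 2)) F₀)ᵀ * D.B * A =
      (c : F₀) • (D.B : Matrix (Fin (m + 2)) (Fin (m + 2)) F₀) := by
  obtain ⟨c, h1, h2⟩ := rel_congr hF hfix D D h
  exact ⟨c, mul_right_cancel₀ D.s0 (h1.trans (mul_comm _ _)), h2⟩

include hF in
theorem index_pow_normOne (l : ℕ) :
    ((powMonoidHom l : normOne F q →* normOne F q).range).index = Nat.gcd l (q + 1) := by
  rw [IsCyclic.index_powMonoidHom_range, ClassicalGroups.card_norm_one_units hF, Nat.gcd_comm]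

include hfix in
theorem split_of_root (hm : 1 ≤ m) (D : Datum hF e γ γ')
    (hroot : ∀ (A : GL (Fin (m + 2)) F₀) (c : F₀ˣ), (A : Matrix (Fin (m + 2)) (Fin (m + 2)) F₀)ᵀ * D.B * A =
      (c : F₀) • (D.B : Matrix (Fin (m + 2)) (Fin (m + 2)) F₀) →
      ∃ r : F₀, r ^ 2 = c ∧ (A : Matrix (Fin (m + 2)) (Fin (m + 2)) F₀).det = r ^ (m + 2)) :
    Cfsg.splitClassCount (Cfsg.inndiagPSU (m + 2) F q) (Cfsg.Inn (PSUG (m + 2) F q)) γ =
      Nat.gcd (m + 2) (q + 1) := by
  rw [splitClassCount_graph hF, sup_eq_left.mpr ?_, index_pow_normOne hF]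
  intro δ hδ
  obtain ⟨k, A, d, h, rfl⟩ := (mem_det_centralizer hF hfix hm D).mp hδ
  obtain ⟨c, hc, hA⟩ := rel_mult hF hfix D h
  obtain ⟨r, hr, hdet⟩ := hroot A c hA
  have h1 := rel_det hF h
  rw [hdet, map_pow] at h1
  have hu : e r / d * tau hF (e r / d) = 1 := by
    rw [map_div₀, (hfix (e r)).mpr ⟨r, rfl⟩, div_mul_div_comm, ← map_mul, ← pow_two, hr, ← hc, div_self]
    exact mul_ne_zero h.1 ((map_ne_zero _).mpr h.1)
  have hu0 : e r / d ≠ 0 := fun h0 => by rw [h0, zero_mul] at hu; exact zero_ne_one hu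
  refine ⟨⟨Units.mk0 _ hu0, (mem_normOne_iff hF).mpr hu⟩, Subtype.ext (Units.ext ?_)⟩
  rw [powMonoidHom_apply, SubmonoidClass.coe_pow, Units.val_pow_eq_pow_val, Units.val_mk0, div_pow, ← h1,
    mul_div_cancel_left₀ _ (pow_ne_zero _ h.1)]

theorem exists_ratio (u : normOne F q) : ∃ d : F, d ≠ 0 ∧ tau hF d = ((u : Fˣ) : F) * d :=
  exists_tau_eq_mul hF ((mem_normOne_iff hF).mp u.2)

include hfix in
theorem exists_norm_unit {d : F} (hd : d ≠ 0) : ∃ c : F₀ˣ, d * tau hF d = e c := by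
  obtain ⟨c, hc⟩ := (hfix (d * tau hF d)).mp (by rw [map_mul, tau_tau hF, mul_comm])
  refine ⟨Units.mk0 c fun h0 => ?_, hc.symm⟩
  rw [h0, map_zero] at hc
  exact mul_ne_zero hd ((map_ne_zero _).mpr hd) hc.symm

include hfix in
/-- The determinant of a lift, when `det A = ζ·cˡ` with `n = 2l`. -/
theorem det_lift (D : Datum hF e γ γ') {k : GUG (m + 2) F q} {A : GL (Fin (m + 2)) F₀} {d : F}
    (h : Rel D.P D.P e k A d) {c : F₀ˣ} (hc : d * tau hF d = e c) {l : ℕ} (hnl : m + 2 = 2 * l) {ζ : F₀}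
    (hdet : (A : Matrix (Fin (m + 2)) (Fin (m + 2)) F₀).det = ζ * (c : F₀) ^ l) :
    ((detU hF k : Fˣ) : F) = e ζ * (tau hF d / d) ^ l := by
  refine mul_left_cancel₀ (pow_ne_zero (m + 2) h.1) ?_
  rw [rel_det hF h, hdet, map_mul, map_pow, ← hc, hnl, pow_mul, pow_two, mul_pow, mul_pow, div_pow]
  field_simp [h.1]

theorem mem_normOne_ratio {d : F} (hd : d ≠ 0) :
    ∃ u : normOne F q, ((u : Fˣ) : F) = tau hF d / d := by
  have h : tau hF d / d * tau hF (tau hF d / d) = 1 := by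
    rw [map_div₀, tau_tau hF]
    have := (map_ne_zero (tau hF)).mpr hd
    field_simp
  exact ⟨⟨Units.mk0 _ (div_ne_zero ((map_ne_zero _).mpr hd) hd), (mem_normOne_iff hF).mpr h⟩, rfl⟩

theorem smul_B_inj (B : GL (Fin (m + 2)) F₀) {a b : F₀ˣ}
    (h : (a : F₀) • (B : Matrix (Fin (m + 2)) (Fin (m + 2)) F₀) = (b : F₀) • (B : Matrix (Fin (m + 2)) (Fin (m + 2)) F₀)) :
    a = b := by
  have h1 : ((a : F₀) - b) • (B : Matrix (Fin (m + 2)) (Fin (m + 2)) F₀) = 0 := by rw [sub_smul, h, sub_self]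
  exact Units.ext (sub_eq_zero.mp ((smul_eq_zero.mp h1).resolve_right (gl_ne_zero B)))

theorem sim_reindex {ι : Type} [Fintype ι] [DecidableEq ι] {n : ℕ} (ee : ι ≃ Fin n) (M : Matrix ι ι F₀)
    (A : GL ι F₀) (c : F₀) :
    (glReindex ee A : Matrix (Fin n) (Fin n) F₀)ᵀ * Matrix.reindex ee ee M *
        (glReindex ee A : Matrix (Fin n) (Fin n) F₀) = c • Matrix.reindex ee ee M ↔
      (A : Matrix ι ι F₀)ᵀ * M * (A : Matrix ι ι F₀) = c • M := by
  rw [glReindex_coe, Matrix.transpose_reindex, ← reindex_mul, ← reindex_mul, ← reindex_smul,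
    EmbeddingLike.apply_eq_iff_eq]

variable [Fintype F₀]

include hfix in
theorem exists_datum_eq (hm : 1 ≤ m) (M : GL (Fin (m + 2)) F₀)
    (hM : (M : Matrix (Fin (m + 2)) (Fin (m + 2)) F₀)ᵀ = M ∨
      (M : Matrix (Fin (m + 2)) (Fin (m + 2)) F₀)ᵀ = -(M : Matrix (Fin (m + 2)) (Fin (m + 2)) F₀)) :
    ∃ (x : MulAut (PSUG (m + 2) F q)) (D₀ : Datum hF e x (gx M)), D₀.B = M := by
  obtain ⟨x, ⟨D⟩⟩ := exists_datum' hF hfix hm (GraphForms82.isGraphAut_iff.mpr ⟨by omega, M, rfl⟩)
    ((gx_orderOf_two (by omega)).mpr hM)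
  obtain ⟨c, hc⟩ := (gx_eq_iff (by omega)).mp D.hγ'
  have hc' : (M : Matrix (Fin (m + 2)) (Fin (m + 2)) F₀) = ((c⁻¹ : F₀ˣ) : F₀) • (D.B : Matrix _ _ F₀) := by
    rw [hc, smul_smul, Units.inv_mul, one_smul]
  refine ⟨x, ⟨D.g, M, D.P, D.v, D.s * e c, D.v0, mul_ne_zero D.s0 ((map_ne_zero e).mpr c.ne_zero), D.hγ, rfl,
    ?_, D.twist⟩, rfl⟩
  rw [D.form, hc]
  ext i j
  simp [mul_assoc]

include hfix in
/-- Symplectic type. -/
theorem split_jMat' (hm : 1 ≤ m) {l : ℕ} (hnl : m + 2 = 2 * l) (ee : Fin l ⊕ Fin l ≃ Fin (m + 2))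
    (D : Datum hF e γ γ') (hB : (D.B : Matrix (Fin (m + 2)) (Fin (m + 2)) F₀) =
      ((jMat (F := F₀) ee : GL (Fin (m + 2)) F₀) : Matrix (Fin (m + 2)) (Fin (m + 2)) F₀)) :
    Cfsg.splitClassCount (Cfsg.inndiagPSU (m + 2) F q) (Cfsg.Inn (PSUG (m + 2) F q)) γ =
      Nat.gcd l (q + 1) := by
  have hmap : ((Subgroup.centralizer {γ}).comap conjU).map (detU hF : GUG (m + 2) F q →* normOne F q) =
      (powMonoidHom l : normOne F q →* normOne F q).range := by
    apply le_antisymm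
    · intro δ hδ
      obtain ⟨k, A, d, h, rfl⟩ := (mem_det_centralizer hF hfix hm D).mp hδ
      obtain ⟨c, hc, hA⟩ := rel_mult hF hfix D h
      rw [hB, jMat_coe] at hA
      obtain ⟨A₀, rfl⟩ := (glReindex ee).surjective A
      have hc' := (sim_reindex ee _ A₀ _).mp hA
      obtain ⟨u, hu⟩ := mem_normOne_ratio hF h.1
      refine ⟨u, Subtype.ext (Units.ext ?_)⟩
      rw [det_lift hF hfix D h hc hnl (ζ := 1) (by rw [one_mul, glReindex_coe, det_reindex_self, det_simGroup_J hc']),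
        map_one, one_mul, powMonoidHom_apply, SubmonoidClass.coe_pow, Units.val_pow_eq_pow_val, hu]
    · rintro _ ⟨u, rfl⟩
      obtain ⟨d, hd, hdu⟩ := exists_ratio hF u
      obtain ⟨c, hc⟩ := exists_norm_unit hF hfix hd
      have hc' := (sim_reindex ee _ (dScale l c) _).mpr (dScale_sim (m := l) c)
      rw [← jMat_coe (F := F₀) ee, ← hB] at hc'
      obtain ⟨k, d', h⟩ := exists_rel_of_congr hF hfix D D hc'
      obtain ⟨c'', hc'', hA''⟩ := rel_mult hF hfix D h
      obtain rfl : c'' = c := smul_B_inj D.B (hA''.symm.trans hc')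
      -- replace the scalar by one with the prescribed ratio
      have hdd : d' * tau hF d' = d * tau hF d := hc''.trans hc.symm
      set t := d' / d with ht
      have htn : t * tau hF t = 1 := by
        rw [ht, map_div₀, div_mul_div_comm, hdd, div_self (mul_ne_zero hd ((map_ne_zero _).mpr hd))]
      have ht0 : t ≠ 0 := div_ne_zero h.1 hd
      let tu : normOne F q := ⟨Units.mk0 t ht0, (mem_normOne_iff hF).mpr htn⟩
      have h' : Rel D.P D.P e (scalarU hF tu * k) (glReindex ee (dScale l c'')) d := by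
        refine ⟨hd, ?_⟩
        rw [← h.2, Subgroup.coe_mul, Units.val_mul, scalarU_coe]
        ext i j
        simp only [Matrix.smul_apply, smul_eq_mul, Matrix.mul_assoc]
        simp [Matrix.scalar_apply, Matrix.diagonal_mul, tu, ht]
        field_simp
      refine (mem_det_centralizer hF hfix hm D).mpr ⟨_, _, d, h', Subtype.ext (Units.ext ?_)⟩
      rw [det_lift hF hfix D h' hc hnl (ζ := 1) (by rw [one_mul, glReindex_coe, det_reindex_self, dScale_det]),
        map_one, one_mul, powMonoidHom_apply, SubmonoidClass.coe_pow, Units.val_pow_eq_pow_val, hdu,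
        mul_div_cancel_right₀ _ hd]
  rw [splitClassCount_graph hF, hmap, sup_eq_right.mpr ?_, index_pow_normOne hF]
  rintro _ ⟨u, rfl⟩
  exact ⟨u ^ 2, by rw [powMonoidHom_apply, powMonoidHom_apply, ← pow_mul, hnl]⟩

include hfix in
/-- Orthogonal type. -/
theorem split_diag (hm : 1 ≤ m) (h2 : (2 : F₀) ≠ 0) {l : ℕ} (hnl : m + 2 = 2 * l) (D : Datum hF e γ γ')
    {w : Fin (m + 2) → F₀} (hB : (D.B : Matrix (Fin (m + 2)) (Fin (m + 2)) F₀) = diagonal w) :
    Cfsg.splitClassCount (Cfsg.inndiagPSU (m + 2) F q) (Cfsg.Inn (PSUG (m + 2) F q)) γ =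
      Nat.gcd (m + 2) (q + 1) / 2 := by
  classical
  have he2 : (2 : F) ≠ 0 := by rw [← map_ofNat e 2]; exact (map_ne_zero e).mpr h2
  let nU : normOne F q := ⟨-1, (mem_normOne_iff hF).mpr (by simp)⟩
  have hn1 : ((nU : Fˣ) : F) = -1 := by simp [nU]
  set S := ((Subgroup.centralizer {γ}).comap conjU).map (detU hF : GUG (m + 2) F q →* normOne F q)
  have hsign : ∀ {A : GL (Fin (m + 2)) F₀} {c : F₀ˣ}, (A : Matrix (Fin (m + 2)) (Fin (m + 2)) F₀)ᵀ * D.B * A =
      (c : F₀) • (D.B : Matrix (Fin (m + 2)) (Fin (m + 2)) F₀) →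
      (A : Matrix (Fin (m + 2)) (Fin (m + 2)) F₀).det = 1 * (c : F₀) ^ l ∨
      (A : Matrix (Fin (m + 2)) (Fin (m + 2)) F₀).det = -1 * (c : F₀) ^ l := by
    intro A c hc
    have h := congrArg Units.val (simGroup_det hc)
    rw [Units.val_pow_eq_pow_val, Units.val_pow_eq_pow_val, Matrix.GeneralLinearGroup.val_det_apply,
      show (c : F₀) ^ (m + 2) = ((c : F₀) ^ l) ^ 2 by rw [← pow_mul, mul_comm l, ← hnl]] at h
    rcases sq_eq_sq_iff_eq_or_eq_neg.mp h with h' | h'
    · exact Or.inl (by rw [h', one_mul])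
    · exact Or.inr (by rw [h', neg_one_mul])
  have hneg : nU ∈ S := by
    let R : GL (Fin (m + 2)) F₀ := Matrix.GeneralLinearGroup.mkOfDetNeZero (diagonal (Function.update 1 0 (-1)))
      (by rw [det_diagonal, Finset.prod_update_of_mem (Finset.mem_univ _)]; simp)
    have hR : (R : Matrix (Fin (m + 2)) (Fin (m + 2)) F₀)ᵀ * D.B * R =
        ((1 : F₀ˣ) : F₀) • (D.B : Matrix (Fin (m + 2)) (Fin (m + 2)) F₀) := by
      show (diagonal (Function.update 1 0 (-1)))ᵀ * _ * diagonal (Function.update 1 0 (-1)) = _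
      rw [hB, diagonal_transpose, diagonal_mul_diagonal, diagonal_mul_diagonal, Units.val_one, one_smul]
      congr 1
      funext i
      by_cases hi : i = 0 <;> simp [hi]
    obtain ⟨k, d, h⟩ := exists_rel_of_congr hF hfix D D hR
    obtain ⟨c, hc, hA⟩ := rel_mult hF hfix D h
    have hc1 : d * tau hF d = 1 := by
      rw [hc, smul_B_inj D.B (hA.symm.trans hR), Units.val_one, map_one]
    let tu : normOne F q := ⟨Units.mk0 d h.1, (mem_normOne_iff hF).mpr hc1⟩
    have h' : Rel D.P D.P e (scalarU hF tu * k) R 1 := by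
      refine ⟨one_ne_zero, ?_⟩
      rw [← h.2, Subgroup.coe_mul, Units.val_mul, scalarU_coe, one_smul]
      ext i j
      simp [Matrix.mul_assoc, Matrix.scalar_apply, Matrix.diagonal_mul, tu]
    refine (mem_det_centralizer hF hfix hm D).mpr ⟨_, _, 1, h', Subtype.ext (Units.ext ?_)⟩
    rw [det_lift hF hfix D h' (c := 1) (by simp) hnl (ζ := -1) (by
      show (diagonal (Function.update 1 0 (-1 : F₀))).det = _
      rw [det_diagonal, Finset.prod_update_of_mem (Finset.mem_univ _)]; simp), hn1]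
    simp
  have key : (powMonoidHom (m + 2) : normOne F q →* normOne F q).range ⊔ S =
      (powMonoidHom l : normOne F q →* normOne F q).range ⊔ Subgroup.zpowers nU := by
    apply le_antisymm
    · refine sup_le ?_ ?_
      · rintro _ ⟨u, rfl⟩
        exact Subgroup.mem_sup_left ⟨u ^ 2, by rw [powMonoidHom_apply, powMonoidHom_apply, ← pow_mul, hnl]⟩
      · intro δ hδ
        obtain ⟨k, A, d, h, rfl⟩ := (mem_det_centralizer hF hfix hm D).mp hδ
        obtain ⟨c, hc, hA⟩ := rel_mult hF hfix D h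
        obtain ⟨u, hu⟩ := mem_normOne_ratio hF h.1
        rcases hsign hA with hd | hd
        · refine Subgroup.mem_sup_left ⟨u, Subtype.ext (Units.ext ?_)⟩
          rw [det_lift hF hfix D h hc hnl hd, map_one, one_mul, powMonoidHom_apply, SubmonoidClass.coe_pow,
            Units.val_pow_eq_pow_val, hu]
        · rw [show detU hF k = u ^ l * nU from Subtype.ext (Units.ext (by
            rw [det_lift hF hfix D h hc hnl hd, Subgroup.coe_mul, Units.val_mul, SubmonoidClass.coe_pow,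
              Units.val_pow_eq_pow_val, hu, hn1, map_neg, map_one]; ring))]
          exact Subgroup.mul_mem_sup (show u ^ l ∈ (powMonoidHom l : normOne F q →* normOne F q).range from ⟨u, rfl⟩)
            (Subgroup.mem_zpowers _)
    · refine sup_le ?_ ((Subgroup.zpowers_le.mpr hneg).trans le_sup_right)
      rintro _ ⟨u, rfl⟩
      refine Subgroup.mem_sup_right ?_
      obtain ⟨d, hd, hdu⟩ := exists_ratio hF u
      obtain ⟨c, hc⟩ := exists_norm_unit hF hfix hd
      have hBt : (D.B : Matrix (Fin (m + 2)) (Fin (m + 2)) F₀)ᵀ = D.B := by rw [hB, diagonal_transpose]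
      obtain ⟨A, hA⟩ := exists_congr_sym h2
        (M := Matrix.GeneralLinearGroup.scalar (Fin (m + 2)) c * D.B) (M' := D.B)
        (by rw [scalar_mul_coe, transpose_smul, hBt]) hBt
        ⟨(c : F₀) ^ l * (D.B : Matrix (Fin (m + 2)) (Fin (m + 2)) F₀).det, by
          rw [scalar_mul_coe, det_smul, Fintype.card_fin,
            show (c : F₀) ^ (m + 2) = ((c : F₀) ^ l) ^ 2 by rw [← pow_mul, mul_comm l, ← hnl]]
          ring⟩
      rw [scalar_mul_coe] at hA
      obtain ⟨k, d', h⟩ := exists_rel_of_congr hF hfix D D hA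
      obtain ⟨c', hc', hA'⟩ := rel_mult hF hfix D h
      obtain rfl : c' = c := smul_B_inj D.B (hA'.symm.trans hA)
      have hdd : d' * tau hF d' = d * tau hF d := hc'.trans hc.symm
      have htn : d' / d * tau hF (d' / d) = 1 := by
        rw [map_div₀, div_mul_div_comm, hdd, div_self (mul_ne_zero hd ((map_ne_zero _).mpr hd))]
      let tu : normOne F q := ⟨Units.mk0 _ (div_ne_zero h.1 hd), (mem_normOne_iff hF).mpr htn⟩
      have h' : Rel D.P D.P e (scalarU hF tu * k) A d := by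
        refine ⟨hd, ?_⟩
        rw [← h.2, Subgroup.coe_mul, Units.val_mul, scalarU_coe]
        ext i j
        simp only [Matrix.smul_apply, smul_eq_mul, Matrix.mul_assoc]
        simp [Matrix.scalar_apply, Matrix.diagonal_mul, tu]
        field_simp
      have hmem : detU hF (scalarU hF tu * k) ∈ S := (mem_det_centralizer hF hfix hm D).mpr ⟨_, _, d, h', rfl⟩
      rcases hsign hA with hs | hs
      · convert hmem using 1
        apply Subtype.ext; apply Units.ext
        rw [det_lift hF hfix D h' hc hnl hs, map_one, one_mul, powMonoidHom_apply, SubmonoidClass.coe_pow,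
          Units.val_pow_eq_pow_val, hdu, mul_div_cancel_right₀ _ hd]
      · convert S.mul_mem hmem hneg using 1
        apply Subtype.ext; apply Units.ext
        rw [Subgroup.coe_mul, Units.val_mul, det_lift hF hfix D h' hc hnl hs, powMonoidHom_apply,
          SubmonoidClass.coe_pow, Units.val_pow_eq_pow_val, hdu, mul_div_cancel_right₀ _ hd, hn1, map_neg, map_one]
        ring
  rw [splitClassCount_graph hF, key, CfsgLib.Split.index_pow_sup]
  have hord : Nat.card (Subgroup.zpowers nU) = 2 := by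
    rw [Nat.card_zpowers, orderOf_eq_prime_iff]
    refine ⟨Subtype.ext (Units.ext ?_), fun h => he2 ?_⟩
    · rw [SubmonoidClass.coe_pow, Units.val_pow_eq_pow_val, hn1]; simp
    · have := congrArg (fun z : normOne F q => ((z : Fˣ) : F)) h
      simp only [hn1, OneMemClass.coe_one, Units.val_one] at this
      linear_combination -this
  have hidx := (Subgroup.zpowers nU).card_mul_index
  rw [hord, ClassicalGroups.card_norm_one_units hF] at hidx
  rw [← hidx, hnl, Nat.gcd_mul_left, Nat.mul_div_cancel_left _ two_pos]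

end CfsgLib.AutPSU.Graph
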