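import Cfsg.Agent.Lib.AutPSU.Transvection

/-!
Automorphisms of `PSU_n(q)` permute the root groups, respecting orthogonality.
-/

set_option autoImplicit false
set_option linter.unusedSectionVars false

namespace CfsgLib.AutPSU

open Matrix Cfsg CfsgLib.ClassicalGroups

variable {n : ℕ} {F : Type*} [Field F] [Fintype F] {q : ℕ}

/-- The image in `PSU` of a Sylow subgroup of `SU`. -/
noncomputable def barSylow {p : ℕ} [Fact p.Prime] (P : Sylow p (SUG n F q)) : Sylow p (PSUG n F q) :=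
  P.mapSurjective (f := QuotientGroup.mk' _) (QuotientGroup.mk'_surjective _)

theorem mem_barSylow {p : ℕ} [Fact p.Prime] {P : Sylow p (SUG n F q)} {x : PSUG n F q} :
    x ∈ barSylow P ↔ ∃ g ∈ P, (QuotientGroup.mk g : PSUG n F q) = x := Iff.rfl

/-- `β` maps the root group of `v` into that of `w`. -/
def Img (hF : Fintype.card F = q ^ 2) (β : MulAut (PSUG n F q)) (v w : Vec n F) : Prop :=
  w ≠ 0 ∧ hh q w w = 0 ∧ ∀ s, tau hF s = -s → ∃ r, tau hF r = -r ∧ β (tel q v s) = tel q w r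

section hFsec
variable (hF : Fintype.card F = q ^ 2)
include hF

theorem exists_image (hn : 2 ≤ n) (β : MulAut (PSUG n F q)) {v : Vec n F} (hv : hh q v v = 0)
    (hv0 : v ≠ 0) : ∃ w, Img hF β v w := by
  obtain ⟨p, hp⟩ := CharP.exists F
  have : Fact p.Prime := ⟨CharP.char_is_prime F p⟩
  obtain ⟨P, hP⟩ := exists_sylow_fixing (p := p) hF hn hv hv0
  set Pb := barSylow P with hPb
  obtain ⟨g, hg⟩ := MulAction.exists_smul_eq (PSUG n F q) Pb (β • Pb)
  have hmem : ∀ y, y ∈ Pb ↔ (MulAut.conj g)⁻¹ (β y) ∈ Pb := by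
    intro y
    have h1 : β y ∈ (β • Pb : Sylow p (PSUG n F q)) ↔ y ∈ Pb :=
      Subgroup.smul_mem_pointwise_smul_iff (a := β) (S := (Pb : Subgroup (PSUG n F q)))
    rw [← h1, ← hg]
    exact Subgroup.mem_pointwise_smul_iff_inv_smul_mem
  obtain ⟨a, rfl⟩ := QuotientGroup.mk_surjective g
  refine ⟨mat a *ᵥ v, fun h => hv0 ?_, (h_mat a v v).trans hv, fun s hs => ?_⟩
  · have := congrArg (mat a⁻¹ *ᵥ ·) h
    simpa only [inv_mat_mulVec, mulVec_zero] using this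
  set y := (MulAut.conj (QuotientGroup.mk a : PSUG n F q))⁻¹ (β (tel q v s)) with hy
  have hTP : tmat q v s ∈ P := radQ_le_of_fixing hF P hP (isQ_tmat hF hv hs)
  obtain ⟨x, hx, hxy⟩ := mem_barSylow.mp
    ((hmem _).mp (mem_barSylow.mpr ⟨_, hTP, rfl⟩) : y ∈ Pb)
  have hTcomm : ∀ u ∈ P, Commute (tmat q v s) u := by
    intro u hu
    have e := suConj_tmat hF (suToGU u) hv hs
    rw [suToGU_coe, hP u hu] at e
    have e' : u * tmat q v s * u⁻¹ = tmat q v s := by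
      refine Eq.trans (mat_injective ?_) e
      rw [suConj_mat, show ((suToGU u).1)⁻¹ = (suToGU u⁻¹).1 from by rw [map_inv]; rfl]
      rfl
    exact (mul_inv_eq_iff_eq_mul.mp e').symm
  have hcomm : ∀ u, IsQ v u → Commute x u := by
    intro u hu
    have huP : u ∈ P := radQ_le_of_fixing hF P hP hu
    have h1 : Commute y (QuotientGroup.mk u : PSUG n F q) := by
      obtain ⟨y', hy'⟩ := ((β.trans (MulAut.conj (QuotientGroup.mk a : PSUG n F q))⁻¹)).surjective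
        (QuotientGroup.mk u)
      have hy'P : y' ∈ Pb := (hmem y').mpr (by
        rw [show (MulAut.conj (QuotientGroup.mk a : PSUG n F q))⁻¹ (β y') =
          (QuotientGroup.mk u : PSUG n F q) from hy']
        exact mem_barSylow.mpr ⟨u, huP, rfl⟩)
      obtain ⟨u', hu', rfl⟩ := mem_barSylow.mp hy'P
      rw [← hy']
      exact (((hTcomm u' hu').map (QuotientGroup.mk' _)).map β.toMonoidHom).map
        (MulAut.conj (QuotientGroup.mk a : PSUG n F q))⁻¹.toMonoidHom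
    refine eq_of_mk_eq hF hv0 ?_ ?_ ?_
    · rw [mat_mul, ← mulVec_mulVec, hu.1, hP x hx]
    · rw [mat_mul, ← mulVec_mulVec, hP x hx, hu.1]
    · rw [QuotientGroup.mk_mul, QuotientGroup.mk_mul, hxy]
      exact h1
  obtain ⟨r, hr, hxr⟩ := eq_tmat_of_commute hF hv hv0 (hP x hx) hcomm
  refine ⟨r, hr, ?_⟩
  rw [← tel_conj hF a hv hr]
  apply (MulAut.conj (QuotientGroup.mk a : PSUG n F q))⁻¹.injective
  rw [← hy, MulAut.inv_apply_self]
  exact hxy.symm.trans (congrArg _ hxr)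

/-- The coefficient function of an image. -/
theorem exists_coeff {β : MulAut (PSUG n F q)} {v w : Vec n F} (hv : hh q v v = 0) (hv0 : v ≠ 0)
    (h : Img hF β v w) : ∃ φ : F → F,
      (∀ s, tau hF s = -s → tau hF (φ s) = -φ s ∧ β (tel q v s) = tel q w (φ s)) ∧
      (∀ r, tau hF r = -r → ∃ s, tau hF s = -s ∧ φ s = r) ∧
      (∀ s r, tau hF s = -s → tau hF r = -r → φ (s + r) = φ s + φ r) ∧
      ∀ s, tau hF s = -s → s ≠ 0 → φ s ≠ 0 := by
  obtain ⟨hw0, hw, hr⟩ := h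
  have hr' : ∀ s, ∃ r, tau hF s = -s → tau hF r = -r ∧ β (tel q v s) = tel q w r := fun s => by
    by_cases hs : tau hF s = -s
    · obtain ⟨r, h1⟩ := hr s hs; exact ⟨r, fun _ => h1⟩
    · exact ⟨0, fun h => absurd h hs⟩
  choose φ hφ using hr'
  let f : {s : F // tau hF s = -s} → {s : F // tau hF s = -s} := fun s => ⟨φ s.1, (hφ _ s.2).1⟩
  have hinj : Function.Injective f := by
    intro s r h
    apply Subtype.ext
    apply tel_injective hF hv hv0 s.2 r.2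
    apply β.injective
    rw [(hφ _ s.2).2, (hφ _ r.2).2, show φ s.1 = φ r.1 from congrArg Subtype.val h]
  refine ⟨φ, hφ, fun r hr' => ?_, fun s r hs hr' => ?_, fun s hs hs0 h0 => ?_⟩
  · obtain ⟨s, hs⟩ := (Finite.injective_iff_surjective.mp hinj) ⟨r, hr'⟩
    exact ⟨s.1, s.2, congrArg Subtype.val hs⟩
  · have hsr : tau hF (s + r) = -(s + r) := by rw [map_add, hs, hr']; ring
    apply tel_injective hF hw hw0 (hφ _ hsr).1 (by rw [map_add, (hφ _ hs).1, (hφ _ hr').1]; ring)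
    rw [← (hφ _ hsr).2, tel_add hF hv hs hr', map_mul, (hφ _ hs).2, (hφ _ hr').2,
      tel_add hF hw (hφ _ hs).1 (hφ _ hr').1]
  · exact tel_ne_one hF hv hv0 hs hs0 (β.injective (by
      rw [(hφ _ hs).2, h0, tel_zero hF hw, map_one]))

/-- The image line is unique. -/
theorem img_unique {β : MulAut (PSUG n F q)} {v w w' : Vec n F} (hv : hh q v v = 0) (hv0 : v ≠ 0)
    (h : Img hF β v w) (h' : Img hF β v w') : ∃ c : F, c ≠ 0 ∧ w' = c • w := by
  obtain ⟨s, hs0, hs⟩ := exists_skew hF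
  obtain ⟨r, hr, e⟩ := h.2.2 s hs
  obtain ⟨r', hr', e'⟩ := h'.2.2 s hs
  have hr'0 : r' ≠ 0 := by
    rintro rfl
    exact tel_ne_one hF hv hv0 hs hs0 (β.injective (by rw [e', tel_zero hF h'.2.1, map_one]))
  obtain ⟨c, hc⟩ := tel_eq hF h'.2.1 h'.1 h.2.1 hr' hr'0 hr (e'.symm.trans e)
  exact ⟨c, fun hc0 => h'.1 (by rw [hc, hc0, zero_smul]), hc⟩

theorem img_smul_right {β : MulAut (PSUG n F q)} {v w : Vec n F} {c : F} (hc : c ≠ 0)
    (h : Img hF β v w) : Img hF β v (c • w) := by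
  refine ⟨smul_ne_zero hc h.1, by rw [h_smul_left, h_smul_right hF, h.2.1, mul_zero, mul_zero],
    fun s hs => ?_⟩
  obtain ⟨r, hr, e⟩ := h.2.2 s hs
  have hN : tau hF (c * tau hF c) = c * tau hF c := by rw [map_mul, tau_tau, mul_comm]
  have htc : c * tau hF c ≠ 0 := mul_ne_zero hc (by simpa using hc)
  have hr' : tau hF (r / (c * tau hF c)) = -(r / (c * tau hF c)) := by
    rw [map_div₀, hN, hr, neg_div]
  refine ⟨r / (c * tau hF c), hr', ?_⟩
  rw [e, tel_smul hF h.2.1 hr', div_mul_cancel₀ _ htc]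

theorem img_smul_left {β : MulAut (PSUG n F q)} {v w : Vec n F} (hv : hh q v v = 0) (c : F)
    (h : Img hF β v w) : Img hF β (c • v) w := by
  refine ⟨h.1, h.2.1, fun s hs => ?_⟩
  have hN : tau hF (c * tau hF c) = c * tau hF c := by rw [map_mul, tau_tau, mul_comm]
  obtain ⟨r, hr, e⟩ := h.2.2 (s * (c * tau hF c)) (by rw [map_mul, hN, hs, neg_mul])
  exact ⟨r, hr, by rw [tel_smul hF hv hs, e]⟩

theorem img_trans {β γ : MulAut (PSUG n F q)} {v w x : Vec n F} (h : Img hF β v w)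
    (h' : Img hF γ w x) : Img hF (γ * β) v x := by
  refine ⟨h'.1, h'.2.1, fun s hs => ?_⟩
  obtain ⟨r, hr, e⟩ := h.2.2 s hs
  obtain ⟨r', hr', e'⟩ := h'.2.2 r hr
  exact ⟨r', hr', by rw [MulAut.mul_apply, e, e']⟩

theorem img_inv {β : MulAut (PSUG n F q)} {v w : Vec n F} (hv : hh q v v = 0) (hv0 : v ≠ 0)
    (h : Img hF β v w) : Img hF β⁻¹ w v := by
  refine ⟨hv0, hv, fun r hr => ?_⟩
  obtain ⟨φ, hφ, hsurj, -, -⟩ := exists_coeff hF hv hv0 h
  obtain ⟨s, hs, rfl⟩ := hsurj r hr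
  exact ⟨s, hs, by rw [← (hφ s hs).2, MulAut.inv_apply_self]⟩

theorem img_conjU (g : GUG n F q) {v : Vec n F} (hv : hh q v v = 0) (hv0 : v ≠ 0) :
    Img hF (conjU g) v ((g.1 : Mat n F) *ᵥ v) := by
  refine ⟨fun h => hv0 ?_, (h_gu g v v).trans hv, fun s hs => ⟨s, hs, conjU_tel hF g hv hs⟩⟩
  have := congrArg (((g.1⁻¹ : GL (Fin n) F) : Mat n F) *ᵥ ·) h
  simpa only [gl_inv_mulVec, mulVec_zero] using this

/-- Equivariance. -/
theorem img_mulVec {β : MulAut (PSUG n F q)} {v w : Vec n F} (hv : hh q v v = 0)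
    (h : Img hF β v w) {g g' : SUG n F q}
    (hg : β (QuotientGroup.mk g) = (QuotientGroup.mk g' : PSUG n F q)) :
    Img hF β (mat g *ᵥ v) (mat g' *ᵥ w) := by
  refine ⟨fun e => h.1 ?_, (h_mat g' w w).trans h.2.1, fun s hs => ?_⟩
  · have := congrArg (mat g'⁻¹ *ᵥ ·) e
    simpa only [inv_mat_mulVec, mulVec_zero] using this
  obtain ⟨r, hr, e⟩ := h.2.2 s hs
  refine ⟨r, hr, ?_⟩
  rw [← tel_conj hF g hv hs, MulAut.conj_apply, map_mul, map_mul, map_inv, hg, e,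
    ← MulAut.conj_apply, tel_conj hF g' h.2.1 hr]

theorem img_orth {β : MulAut (PSUG n F q)} {v v' w w' : Vec n F} (hv : hh q v v = 0) (hv0 : v ≠ 0)
    (hv' : hh q v' v' = 0) (hv'0 : v' ≠ 0) (h : Img hF β v w) (h' : Img hF β v' w') :
    hh q w w' = 0 ↔ hh q v v' = 0 := by
  obtain ⟨s, hs0, hs⟩ := exists_skew hF
  obtain ⟨φ, hφ, -, -, hφ0⟩ := exists_coeff hF hv hv0 h
  obtain ⟨ψ, hψ, -, -, hψ0⟩ := exists_coeff hF hv' hv'0 h'
  rw [← commute_tel_iff hF hv hv0 hv' hv'0 hs hs0 hs hs0,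
    ← commute_tel_iff hF h.2.1 h.1 h'.2.1 h'.1 (hφ s hs).1 (hφ0 s hs hs0) (hψ s hs).1 (hψ0 s hs hs0),
    ← (hφ s hs).2, ← (hψ s hs).2]
  exact ⟨fun h => β.injective (by rw [map_mul, map_mul]; exact h.eq), fun h => h.map β.toMonoidHom⟩

end hFsec

end CfsgLib.AutPSU
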