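import Cfsg.Agent.Lib.AutPSU.Basic

/-!
The predicates of `Def_LieTypeDatum` on `PSU_n(q)` in terms of `conjU`, `fieldU`.
-/

set_option autoImplicit false
set_option linter.unusedSectionVars false

namespace CfsgLib.AutPSU

open Matrix Cfsg

variable {n : ℕ} {F : Type*} [Field F] [Fintype F] {q : ℕ}

theorem isInducedBySemilinear_iff {g : GUG n F q} {σ : F ≃+* F} {β : MulAut (PSUG n F q)} :
    Cfsg.IsInducedBySemilinearPSU g.1 σ β ↔ β = conjU g * fieldU σ := by
  constructor
  · intro h
    apply MulEquiv.ext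
    intro x
    induction x using QuotientGroup.induction_on with
    | H s => exact h s (suConj g (suField σ s)) rfl
  · rintro rfl s s' hs
    exact congrArg (QuotientGroup.mk : SUG n F q → PSUG n F q) (mat_injective hs.symm)

theorem isFieldAutOf_iff {σ : F ≃+* F} {β : MulAut (PSUG n F q)} :
    Cfsg.IsFieldAutPSUOf σ β ↔ β = fieldU σ := by
  constructor
  · intro h
    apply MulEquiv.ext
    intro x
    induction x using QuotientGroup.induction_on with
    | H s => exact h s (suField σ s) rfl
  · rintro rfl s s' hs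
    exact congrArg (QuotientGroup.mk : SUG n F q → PSUG n F q) (mat_injective hs.symm)

theorem isInnerDiagonal_iff {β : MulAut (PSUG n F q)} :
    Cfsg.IsInnerDiagonalAutPSU β ↔ ∃ g : GUG n F q, β = conjU g := by
  constructor
  · rintro ⟨g, hg, h⟩
    refine ⟨⟨g, hg⟩, MulEquiv.ext fun x => ?_⟩
    induction x using QuotientGroup.induction_on with
    | H s => exact h s (suConj ⟨g, hg⟩ s) rfl
  · rintro ⟨g, rfl⟩
    exact ⟨g.1, g.2, fun s s' hs =>
      congrArg (QuotientGroup.mk : SUG n F q → PSUG n F q) (mat_injective hs.symm)⟩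

theorem inndiag_eq_range : Cfsg.inndiagPSU n F q = (conjU : GUG n F q →* _).range := by
  rw [Cfsg.inndiagPSU, Cfsg.autSubgroupOf]
  conv_rhs => rw [← Subgroup.closure_eq (conjU : GUG n F q →* MulAut (PSUG n F q)).range]
  congr 1
  ext β
  rw [Set.mem_ofPred_eq, isInnerDiagonal_iff, SetLike.mem_coe, MonoidHom.mem_range]
  exact exists_congr fun g => eq_comm

theorem mem_inndiag_iff {β : MulAut (PSUG n F q)} :
    β ∈ Cfsg.inndiagPSU n F q ↔ ∃ g : GUG n F q, conjU g = β := by
  rw [inndiag_eq_range]; exact MonoidHom.mem_range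

end CfsgLib.AutPSU
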