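import Cfsg.Agent.Lib.AutPSU.Main
import Cfsg.Agent.Lib.AutPSU.Predicates
import Cfsg.Prelude.Def_KGroupFacts

/-!
Unitary scalars, determinants, and the kernel of `GU_n(q) ⋊ field → Aut(PSU_n(q))`.
-/

set_option autoImplicit false
set_option linter.unusedSectionVars false

namespace CfsgLib.AutPSU

open Matrix Cfsg CfsgLib.ClassicalGroups

variable {n : ℕ} {F : Type*} [Field F] [Fintype F] {q : ℕ}

theorem scalar_mulVec (u : Fˣ) (v : Vec n F) :
    (Matrix.GeneralLinearGroup.scalar (Fin n) u : Mat n F) *ᵥ v = (u : F) • v := by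
  funext i
  simp [Matrix.GeneralLinearGroup.coe_scalar, Matrix.scalar_apply, Matrix.mulVec_diagonal]

/-- The group of norm-one units. -/
abbrev normOne (F : Type*) [Field F] (q : ℕ) : Subgroup Fˣ :=
  (powMonoidHom (q + 1) : Fˣ →* Fˣ).ker

theorem mem_normOne {u : Fˣ} : u ∈ normOne F q ↔ u ^ (q + 1) = 1 := Iff.rfl

section hFsec
variable (hF : Fintype.card F = q ^ 2)
include hF

theorem mem_normOne_iff {u : Fˣ} : u ∈ normOne F q ↔ (u : F) * tau hF (u : F) = 1 := by
  rw [mem_normOne, Units.ext_iff, Units.val_pow_eq_pow_val, pow_succ', Units.val_one, tau_apply]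

/-- Scalar unitary matrices. -/
def scalarU : normOne F q →* GUG n F q :=
  ((Matrix.GeneralLinearGroup.scalar (Fin n)).comp (normOne F q).subtype).codRestrict _ fun u v w => by
    show hh q ((Matrix.GeneralLinearGroup.scalar (Fin n) (u : Fˣ) : Mat n F) *ᵥ v)
      ((Matrix.GeneralLinearGroup.scalar (Fin n) (u : Fˣ) : Mat n F) *ᵥ w) = hh q v w
    rw [scalar_mulVec, scalar_mulVec, h_smul_left, h_smul_right hF, ← mul_assoc,
      (mem_normOne_iff hF).mp u.2, one_mul]

theorem scalarU_coe (u : normOne F q) :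
    ((scalarU hF u : GUG n F q).1) = Matrix.GeneralLinearGroup.scalar (Fin n) (u : Fˣ) := rfl

theorem conjU_scalar (u : normOne F q) : conjU (scalarU hF u : GUG n F q) = 1 := by
  apply MulEquiv.ext
  intro x
  induction x using QuotientGroup.induction_on with
  | H s =>
    rw [conjU_mk, MulAut.one_apply]
    refine congrArg _ (mat_ext fun v => ?_)
    rw [suConj_mat, scalarU_coe, ← map_inv, ← mulVec_mulVec, ← mulVec_mulVec, scalar_mulVec,
      scalar_mulVec, mulVec_smul, smul_smul, Units.mul_inv, one_smul]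

/-- The determinant, with values in the norm-one units. -/
noncomputable def detU : GUG n F q →* normOne F q :=
  (Matrix.GeneralLinearGroup.det.comp (Cfsg.GU n F q).subtype).codRestrict _ fun g => GU_det_pow hF g

theorem detU_coe (g : GUG n F q) : ((detU hF g : Fˣ)) = Matrix.GeneralLinearGroup.det g.1 := rfl

theorem detU_scalar (u : normOne F q) : detU hF (scalarU hF u : GUG n F q) = u ^ n := by
  apply Subtype.ext
  apply Units.ext
  simp [detU_coe, scalarU_coe]

/-- A diagonal unitary matrix of prescribed determinant. -/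
theorem exists_diag (hn : 1 ≤ n) (u : normOne F q) :
    ∃ g : GUG n F q, detU hF g = u ∧
      (g.1 : Mat n F) = Matrix.diagonal (fun i => if i = ⟨0, hn⟩ then ((u : Fˣ) : F) else 1) := by
  have hdet : (Matrix.diagonal (fun i : Fin n => if i = ⟨0, hn⟩ then ((u : Fˣ) : F) else 1)).det =
      ((u : Fˣ) : F) := by
    rw [Matrix.det_diagonal, Finset.prod_ite_eq' Finset.univ]
    simp
  let g : GL (Fin n) F := Matrix.GeneralLinearGroup.mkOfDetNeZero _ (by rw [hdet]; exact Units.ne_zero _)
  have hu : ((u : Fˣ) : F) ^ (q + 1) = 1 := by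
    have := congrArg Units.val (mem_normOne.mp u.2)
    simpa using this
  refine ⟨⟨g, diagonal_mem_GU _ (fun i => ?_) g rfl⟩, Subtype.ext (Units.ext hdet), rfl⟩
  by_cases hi : i = (⟨0, hn⟩ : Fin n) <;> simp [hi, hu]

theorem detU_surjective (hn : 1 ≤ n) : Function.Surjective (detU hF : GUG n F q →* normOne F q) :=
  fun u => let ⟨g, h, _⟩ := exists_diag hF hn u; ⟨g, h⟩

theorem inner_eq_map : Cfsg.Inn (PSUG n F q) =
    (((powMonoidHom n : normOne F q →* normOne F q).range).comap
      (detU hF : GUG n F q →* normOne F q)).map conjU := by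
  ext β
  constructor
  · rintro ⟨x, rfl⟩
    obtain ⟨s, rfl⟩ := QuotientGroup.mk_surjective x
    refine ⟨suToGU s, ⟨1, ?_⟩, conjU_su s⟩
    rw [map_one]
    apply Subtype.ext; apply Units.ext
    exact (s : Matrix.SpecialLinearGroup (Fin n) F).2.symm
  · rintro ⟨g, ⟨u, hu⟩, rfl⟩
    set k := (scalarU hF u : GUG n F q)⁻¹ * g with hk
    have hk1 : detU hF k = 1 := by
      rw [hk, map_mul, map_inv, detU_scalar, inv_mul_eq_one, ← hu]
      rfl
    have hdet : (k.1 : Mat n F).det = 1 := congrArg (fun z : normOne F q => ((z : Fˣ) : F)) hk1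
    let s : SUG n F q := ⟨⟨(k.1 : Mat n F), hdet⟩, k.2⟩
    refine ⟨QuotientGroup.mk s, (conjU_su s).symm.trans ?_⟩
    rw [show suToGU s = k from Subtype.ext (Units.ext rfl), hk, map_mul, map_inv, conjU_scalar,
      inv_one, one_mul]

variable {m : ℕ}

theorem eq_scalar_of_conjU_eq_one (hm : 1 ≤ m) {g : GUG (m + 2) F q} (h : conjU g = 1) :
    ∃ u : normOne F q, g = scalarU hF u := by
  obtain ⟨s, hs0, hs⟩ := exists_skew hF
  obtain ⟨c, hc⟩ := eq_scalar_of_fix_isotropic hF (g.1 : Mat (m + 2) F) hm fun x hx0 hx => by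
    have e := conjU_tel hF g hx hs
    rw [h, MulAut.one_apply] at e
    exact tel_eq hF ((h_gu g x x).trans hx)
      (fun e0 => hx0 (by
        have := congrArg (((g.1⁻¹ : GL _ F) : Mat (m + 2) F) *ᵥ ·) e0
        simpa only [gl_inv_mulVec, mulVec_zero] using this)) hx hs hs0 hs e.symm
  have hcn : c * tau hF c = 1 := by
    obtain ⟨fr⟩ := exists_frame hF m
    have := h_gu g fr.u fr.v
    rw [hc, smul_mulVec, smul_mulVec, one_mulVec, one_mulVec, h_smul_left, h_smul_right hF,
      fr.huv, mul_one] at this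
    exact this
  have hc0 : c ≠ 0 := fun e => by rw [e, zero_mul] at hcn; exact zero_ne_one hcn
  refine ⟨⟨Units.mk0 c hc0, (mem_normOne_iff hF).mpr hcn⟩, Subtype.ext (Units.ext ?_)⟩
  rw [scalarU_coe, Matrix.GeneralLinearGroup.coe_scalar, hc]
  ext i j
  simp [Matrix.one_apply, Matrix.scalar_apply, Matrix.diagonal_apply]

theorem conjU_eq_iff (hm : 1 ≤ m) {g g' : GUG (m + 2) F q} :
    conjU g = conjU g' ↔ ∃ u : normOne F q, g' = g * scalarU hF u := by
  constructor
  · intro h
    obtain ⟨u, hu⟩ := eq_scalar_of_conjU_eq_one hF hm (g := g⁻¹ * g')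
      (by rw [map_mul, map_inv, h, inv_mul_cancel])
    exact ⟨u, by rw [← hu, mul_inv_cancel_left]⟩
  · rintro ⟨u, rfl⟩
    rw [map_mul, conjU_scalar, mul_one]

theorem fieldU_injective (hm : 1 ≤ m) :
    Function.Injective (fieldU : (F ≃+* F) →* MulAut (PSUG (m + 2) F q)) :=
  (injective_iff_map_eq_one _).mpr fun σ h => RingEquiv.ext fun a => by
    obtain ⟨fr⟩ := exists_frame hF m
    obtain ⟨s, hs0, hs⟩ := exists_skew hF
    have hline : ∀ x : Vec (m + 2) F, x ≠ 0 → hh q x x = 0 → ∃ c : F, σ ∘ x = c • x := by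
      intro x hx0 hx
      have e := fieldU_tel hF σ hx hs
      rw [h, MulAut.one_apply] at e
      exact tel_eq hF (by rw [← h_map, hx, map_zero])
        (fun e0 => hx0 (funext fun i => by simpa using congrFun e0 i)) hx
        (by rw [← tau_map hF, hs, map_neg]) (by simpa using hs0) hs e.symm
    obtain ⟨α, hα⟩ := hline fr.u (u_ne_zero hF fr) fr.huu
    obtain ⟨γ, hγ⟩ := hline fr.v (v_ne_zero hF fr) fr.hvv
    set i : Fin m := ⟨0, hm⟩
    have key : ∀ t : F, t ≠ 0 → σ t = α * t := by
      intro t ht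
      set w : Vec m F := Pi.single i t
      obtain ⟨b, hb⟩ := exists_trace hF (b := -hh q w w) (by rw [map_neg, h_self_fixed hF])
      set y := fr.u + inW w + b • fr.v with hy
      have hyv : hh q y fr.v = 1 := by
        simp [hy, h_add_left, h_smul_left, fr.huv, fr.hvv, h_inW_v hF fr]
      have hyy : hh q y y = 0 := by
        simp only [hy, h_add_left, h_add_right hF, h_smul_left, h_smul_right hF, fr.huu, fr.hvv,
          fr.huv, hvu hF fr, h_inW_u hF fr, h_inW_v hF fr, h_u_inW hF fr, h_v_inW hF fr, h_inW]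
        linear_combination hb
      obtain ⟨k, hk⟩ := hline y (fun e => by simp [e, h_zero_left] at hyv) hyy
      have e1 : σ (hh q y fr.v) = hh q (σ ∘ y) (σ ∘ fr.v) := h_map σ _ _
      have e2 : σ (hh q fr.u fr.v) = hh q (σ ∘ fr.u) (σ ∘ fr.v) := h_map σ _ _
      rw [hyv, map_one, hk, hγ, h_smul_left, h_smul_right hF, hyv, mul_one] at e1
      rw [fr.huv, map_one, hα, hγ, h_smul_left, h_smul_right hF, fr.huv, mul_one] at e2
      have hkα : k = α := by
        have hne : tau hF γ ≠ 0 := fun e => by rw [e, mul_zero] at e1; exact one_ne_zero e1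
        exact mul_right_cancel₀ hne (e1.symm.trans e2)
      have h1 := congrFun hk i.succ.succ
      have hu0 : fr.u i.succ.succ = 0 := congrFun fr.hu i
      have hv0 : fr.v i.succ.succ = 0 := congrFun fr.hv i
      simp [hy, w, inW, hu0, hv0, hkα] at h1
      exact h1
    have h1 := key 1 one_ne_zero
    rw [map_one, mul_one] at h1
    rcases eq_or_ne a 0 with rfl | ha
    · simp
    · rw [key a ha, ← h1, one_mul]; rfl

theorem normal_inndiag (hm : 1 ≤ m) (hs : m = 1 → 3 ≤ q) :
    (Cfsg.inndiagPSU (m + 2) F q).Normal := by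
  refine ⟨fun x hx β => ?_⟩
  obtain ⟨g, rfl⟩ := mem_inndiag_iff.mp hx
  obtain ⟨b, τ, rfl⟩ := aut_psu_structure hF hm hs β
  refine mem_inndiag_iff.mpr ⟨b * guField τ g * b⁻¹, ?_⟩
  calc conjU (b * guField τ g * b⁻¹) = conjU b * (conjU (guField τ g) * fieldU τ) *
        ((fieldU τ)⁻¹ * (conjU b)⁻¹) := by rw [map_mul, map_mul, map_inv]; group
    _ = conjU b * (fieldU τ * conjU g) * ((fieldU τ)⁻¹ * (conjU b)⁻¹) := by rw [fieldU_mul_conjU]
    _ = _ := by group

end hFsec

end CfsgLib.AutPSU
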