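import Cfsg.Agent.Lib.AutPSU.Pair

/-!
Structure of `Aut(PSU_n(q))`, `n ≥ 3`, `(n,q) ≠ (3,2)`: a unitary matrix times a field automorphism.
-/

set_option autoImplicit false
set_option linter.unusedSectionVars false

namespace CfsgLib.AutPSU

open Matrix Cfsg CfsgLib.ClassicalGroups

variable {m : ℕ} {F : Type*} [Field F] [Fintype F] {q : ℕ}

section hFsec
variable (hF : Fintype.card F = q ^ 2)
include hF

theorem h_sum_left {n : ℕ} {ι : Type*} (s : Finset ι) (f : ι → Vec n F) (v : Vec n F) :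
    hh q (∑ i ∈ s, f i) v = ∑ i ∈ s, hh q (f i) v := by
  classical
  induction s using Finset.induction with
  | empty => simp [h_zero_left]
  | @insert i s hi ih => rw [Finset.sum_insert hi, Finset.sum_insert hi, h_add_left, ih]

theorem h_sum_right {n : ℕ} {ι : Type*} (s : Finset ι) (f : ι → Vec n F) (v : Vec n F) :
    hh q v (∑ i ∈ s, f i) = ∑ i ∈ s, hh q v (f i) := by
  rw [← h_tau hF, h_sum_left hF, map_sum]
  exact Finset.sum_congr rfl fun i _ => h_tau hF _ _

theorem h_single {n : ℕ} (i j : Fin n) :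
    hh q (Pi.single i (1 : F)) (Pi.single j 1) = if i = j then 1 else 0 := by
  rw [hh, hermForm_single_right hF]
  simp [Pi.single_apply, eq_comm]

variable (fr : Frame q m F)

/-- Step one: move the pair back. -/
theorem exists_conjU_stab (β : MulAut (PSUG (m + 2) F q)) :
    ∃ g : GUG (m + 2) F q, Stab hF fr ((conjU g)⁻¹ * β) := by
  have hu0 := u_ne_zero hF fr
  have hv0 := v_ne_zero hF fr
  obtain ⟨u', hu'⟩ := exists_image hF (by omega) β fr.huu hu0
  obtain ⟨v', hv'⟩ := exists_image hF (by omega) β fr.hvv hv0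
  have hk : hh q u' v' ≠ 0 := fun e => one_ne_zero (α := F)
    (fr.huv ▸ (img_orth hF fr.huu hu0 fr.hvv hv0 hu' hv').mp e)
  set u'' := (hh q u' v')⁻¹ • u' with hu''
  have h1 : Img hF β fr.u u'' := img_smul_right hF (inv_ne_zero hk) hu'
  have h2 : hh q u'' v' = 1 := by rw [hu'', h_smul_left, inv_mul_cancel₀ hk]
  have h2' : hh q v' u'' = 1 := by rw [← h_tau hF u'' v', h2, map_one]
  have ind : ∀ a b : Vec (m + 2) F, hh q a a = 0 → hh q b b = 0 → hh q a b = 1 →
      LinearIndependent F ![a, b] := fun a b ha hb hab => by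
    rw [LinearIndependent.pair_iff]
    intro s t hst
    have hs := congrArg (fun x => hh q x b) hst
    have ht := congrArg (fun x => hh q x a) hst
    simp only [h_add_left, h_smul_left, h_zero_left, ha, hb, hab,
      show hh q b a = 1 by rw [← h_tau hF a b, hab, map_one], mul_zero, mul_one, add_zero, zero_add] at hs ht
    exact ⟨hs, ht⟩
  obtain ⟨g, hg⟩ := exists_gu_family hF ![fr.u, fr.v] ![u'', v'] (ind _ _ fr.huu fr.hvv fr.huv)
    (ind _ _ h1.2.1 hv'.2.1 h2) (fun i j => by
      fin_cases i <;> fin_cases j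
      · exact fr.huu.trans h1.2.1.symm
      · exact fr.huv.trans h2.symm
      · exact (hvu hF fr).trans h2'.symm
      · exact fr.hvv.trans hv'.2.1.symm)
  have hgu : (g.1 : Mat (m + 2) F) *ᵥ fr.u = u'' := hg 0
  have hgv : (g.1 : Mat (m + 2) F) *ᵥ fr.v = v' := hg 1
  exact ⟨g, img_trans hF h1 (img_inv hF fr.huu hu0 (hgu ▸ img_conjU hF g fr.huu hu0)),
    img_trans hF hv' (img_inv hF fr.hvv hv0 (hgv ▸ img_conjU hF g fr.hvv hv0))⟩

/-- Step two: a linear action on `W` is a similitude of the form. -/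
theorem exists_multiplier (hm : 1 ≤ m) {β : MulAut (PSUG (m + 2) F q)} (hβ : Stab hF fr β)
    {φ : Vec m F → Vec m F} (hact : Act fr β φ) (hinj : Function.Injective φ)
    (hadd : ∀ w w', φ (w + w') = φ w + φ w') (hlin : ∀ (c : F) w, φ (c • w) = c • φ w) :
    ∃ μ : F, μ ≠ 0 ∧ tau hF μ = μ ∧ ∀ w w', hh q (φ w) (φ w') = μ * hh q w w' := by
  classical
  obtain ⟨f, hf, -, -, -⟩ := exists_coeff hF fr.hvv (v_ne_zero hF fr) hβ.2
  have hcomm : ∀ w w', f (hh q w w' - hh q w' w) = hh q (φ w) (φ w') - hh q (φ w') (φ w) := by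
    intro w w'
    obtain ⟨g, hg, hc⟩ := exists_q' hF fr w
    obtain ⟨k, hk, hkc⟩ := exists_q' hF fr w'
    obtain ⟨g', hg', he⟩ := isQ_image hF fr hm hβ.2 hg
    obtain ⟨k', hk', hke⟩ := isQ_image hF fr hm hβ.2 hk
    have key : ∀ x y : SUG (m + 2) F q, IsQ fr.v x → IsQ fr.v y →
        tau hF (hh q (cQ fr x) (cQ fr y) - hh q (cQ fr y) (cQ fr x)) =
          -(hh q (cQ fr x) (cQ fr y) - hh q (cQ fr y) (cQ fr x)) ∧
        x * y = tmat q fr.v (hh q (cQ fr x) (cQ fr y) - hh q (cQ fr y) (cQ fr x)) * (y * x) := by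
      intro x y hx hy
      obtain ⟨a1, a2⟩ := q_mul hF fr hx hy
      obtain ⟨b1, b2⟩ := q_mul hF fr hy hx
      obtain ⟨hs, e⟩ := q_shift hF fr (isQ_mul hy hx) (isQ_mul hx hy) (by rw [a1, b1, add_comm])
      rw [a2, b2, show bQ fr x + bQ fr y - hh q (cQ fr y) (cQ fr x) -
        (bQ fr y + bQ fr x - hh q (cQ fr x) (cQ fr y)) =
          hh q (cQ fr x) (cQ fr y) - hh q (cQ fr y) (cQ fr x) by ring] at hs e
      exact ⟨hs, e⟩
    obtain ⟨hs, e⟩ := key g k hg hk
    obtain ⟨hs', e'⟩ := key g' k' hg' hk'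
    have h1 := congrArg (fun x : SUG (m + 2) F q => β (QuotientGroup.mk x)) e
    simp only [QuotientGroup.mk_mul, map_mul, he, hke] at h1
    have hT : ∀ s, (QuotientGroup.mk (tmat q fr.v s) : PSUG (m + 2) F q) = tel q fr.v s := fun s => rfl
    rw [← QuotientGroup.mk_mul, e', QuotientGroup.mk_mul, QuotientGroup.mk_mul, hT, hT,
      (hf _ hs).2, mul_left_inj] at h1
    have h2 := tel_injective hF fr.hvv (v_ne_zero hF fr) hs' (hf _ hs).1 h1
    rw [hact g g' hg hg' he, hact k k' hk hk' hke, hc, hkc] at h2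
    exact h2.symm
  have hf0 : f 0 = 0 := by
    have := hcomm 0 0
    rwa [sub_self, sub_self] at this
  have horth : ∀ w w', hh q w w' = 0 → hh q (φ w) (φ w') = 0 := by
    intro w w' h0
    obtain ⟨a, ha⟩ := tau_ne hF
    set H := hh q (φ w) (φ w') with hH
    have e : ∀ c : F, tau hF c * H = c * tau hF H := by
      intro c
      have := hcomm w (c • w')
      rw [h_smul_left, h_smul_right hF, ← h_tau hF w w', h0, map_zero, mul_zero, mul_zero, sub_self,
        hf0, hlin, h_smul_left, h_smul_right hF, ← h_tau hF (φ w) (φ w'), ← hH] at this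
      linear_combination -this
    have e1 := e 1
    rw [map_one, one_mul, one_mul] at e1
    have e2 := e a
    rw [← e1] at e2
    exact (mul_eq_zero.mp (by linear_combination e2 : (tau hF a - a) * H = 0)).resolve_left
      (sub_ne_zero.mpr ha)
  let z : Fin m := ⟨0, hm⟩
  let ev : Fin m → Vec m F := fun i => Pi.single i 1
  set μ := hh q (φ (ev z)) (φ (ev z)) with hμ
  have hG : ∀ i j, hh q (φ (ev i)) (φ (ev j)) = μ * hh q (ev i) (ev j) := by
    intro i j
    by_cases hij : i = j
    · subst hij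
      rw [show hh q (ev i) (ev i) = 1 by rw [h_single hF, if_pos rfl], mul_one]
      by_cases hiz : z = i
      · rw [← hiz]
      have hsub : φ (ev z - ev i) = φ (ev z) - φ (ev i) := by
        have := hadd (ev z - ev i) (ev i)
        rw [sub_add_cancel] at this
        exact eq_sub_of_add_eq this.symm
      have h0 := horth (ev z + ev i) (ev z - ev i) (by
        simp only [ev, h_add_left, h_sub_right hF, h_single hF, if_pos, if_neg hiz, if_neg (Ne.symm hiz)]
        ring)
      rw [hadd, hsub, h_add_left, h_sub_right hF, h_sub_right hF,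
        horth (ev z) (ev i) (by rw [h_single hF, if_neg hiz]),
        horth (ev i) (ev z) (by rw [h_single hF, if_neg (Ne.symm hiz)]), ← hμ] at h0
      linear_combination -h0
    · rw [horth _ _ (by rw [h_single hF, if_neg hij]), h_single hF, if_neg hij, mul_zero]
  let Φ : Vec m F →ₗ[F] Vec m F := { toFun := φ, map_add' := hadd, map_smul' := hlin }
  have hall : ∀ w w', hh q (φ w) (φ w') = μ * hh q w w' := by
    intro w w'
    have ew : ∀ w : Vec m F, w = ∑ i, w i • ev i := fun w => by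
      conv_lhs => rw [← Finset.univ_sum_single w]
      exact Finset.sum_congr rfl fun i _ => by rw [← Pi.single_smul', smul_eq_mul, mul_one]
    have ef : ∀ w : Vec m F, φ w = ∑ i, w i • φ (ev i) := fun w => by
      conv_lhs => rw [ew w]
      show Φ (∑ i, w i • ev i) = _
      rw [map_sum]
      exact Finset.sum_congr rfl fun i _ => map_smul Φ _ _
    conv_lhs => rw [ef w, ef w']
    conv_rhs => rw [ew w, ew w']
    simp only [h_sum_left hF, h_sum_right hF, h_smul_left, h_smul_right hF, Finset.mul_sum, hG]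
    exact Finset.sum_congr rfl fun i _ => Finset.sum_congr rfl fun j _ => by ring
  refine ⟨μ, fun h0 => ?_, h_self_fixed hF _, hall⟩
  have hφz : φ (ev z) ≠ 0 := fun e => by
    have := hinj (e.trans (map_zero Φ).symm)
    simpa [ev] using this
  apply hφz
  obtain ⟨ψ, hψ⟩ := (Finite.injective_iff_surjective.mp hinj).hasRightInverse
  refine eq_zero_of_h_eq_zero hF fun x => ?_
  rw [← hψ x, hall, h0, zero_mul]

/-- Step three: trivial action on `W` forces the identity. -/
theorem eq_one_of_act_id (hm : 1 ≤ m) (hs : m = 1 → 3 ≤ q) {β : MulAut (PSUG (m + 2) F q)}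
    (hβ : Stab hF fr β) (hact : Act fr β id) : β = 1 := by
  classical
  have hv0 := v_ne_zero hF fr
  obtain ⟨f, hf, -, -, -⟩ := exists_coeff hF fr.hvv hv0 hβ.2
  have himgQ : ∀ g : SUG (m + 2) F q, IsQ fr.v g → ∃ g', IsQ fr.v g' ∧
      β (QuotientGroup.mk g) = QuotientGroup.mk g' ∧ cQ fr g' = cQ fr g := fun g hg => by
    obtain ⟨g', hg', he⟩ := isQ_image hF fr hm hβ.2 hg
    exact ⟨g', hg', he, hact g g' hg hg' he⟩
  have hfid : ∀ s, tau hF s = -s → f s = s := by
    intro s hs
    obtain ⟨e, he⟩ := exists_trace_unit hF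
    set a := s * e / (e + tau hF e) with ha
    let z : Fin m := ⟨0, hm⟩
    set w : Vec m F := a • Pi.single z (1 : F)
    set w' : Vec m F := Pi.single z (1 : F)
    obtain ⟨g, hg, hc⟩ := exists_q' hF fr w
    obtain ⟨k, hk, hkc⟩ := exists_q' hF fr w'
    obtain ⟨a1, a2⟩ := q_mul hF fr hg hk
    obtain ⟨b1, b2⟩ := q_mul hF fr hk hg
    obtain ⟨g', hg', hge, hgc⟩ := himgQ g hg
    obtain ⟨k', hk', hke, hkc'⟩ := himgQ k hk
    obtain ⟨a1', a2'⟩ := q_mul hF fr hg' hk'
    obtain ⟨b1', b2'⟩ := q_mul hF fr hk' hg'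
    obtain ⟨hs1, e1⟩ := q_shift hF fr (isQ_mul hk hg) (isQ_mul hg hk) (by rw [a1, b1, add_comm])
    obtain ⟨hs2, e2⟩ := q_shift hF fr (isQ_mul hk' hg') (isQ_mul hg' hk')
      (by rw [a1', b1', add_comm])
    have hsv : bQ fr (g * k) - bQ fr (k * g) = s := by
      rw [a2, b2, hc, hkc]
      simp only [w, w', h_smul_left, h_smul_right hF, h_single hF, if_pos]
      have : a - tau hF a = s := by
        rw [ha, map_div₀, map_mul, map_add, tau_tau, hs, add_comm (tau hF e) e, ← sub_div,
          div_eq_iff he]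
        ring
      linear_combination this
    have hsv' : bQ fr (g' * k') - bQ fr (k' * g') = s := by
      rw [a2', b2', hgc, hkc', ← hsv, a2, b2]; ring
    rw [hsv] at hs1 e1
    rw [hsv'] at hs2 e2
    have h1 := congrArg (fun x : SUG (m + 2) F q => β (QuotientGroup.mk x)) e1
    simp only [QuotientGroup.mk_mul, map_mul, hge, hke] at h1
    have hT : ∀ s, (QuotientGroup.mk (tmat q fr.v s) : PSUG (m + 2) F q) = tel q fr.v s := fun s => rfl
    rw [← QuotientGroup.mk_mul, e2, QuotientGroup.mk_mul, QuotientGroup.mk_mul, hT,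
      (hf _ hs).2, mul_left_inj] at h1
    exact (tel_injective hF fr.hvv hv0 hs (hf _ hs).1 h1).symm
  have hTfix : ∀ s, tau hF s = -s → β (tel q fr.v s) = tel q fr.v s := fun s hs => by
    rw [(hf s hs).2, hfid s hs]
  -- the shift `χ`
  have hχex : ∀ w : Vec m F, ∃ x : F, ∀ g g', IsQ fr.v g → IsQ fr.v g' → cQ fr g = w →
      β (QuotientGroup.mk g) = QuotientGroup.mk g' → bQ fr g' = bQ fr g + x := by
    intro w
    obtain ⟨g0, hg0, hc0⟩ := exists_q' hF fr w
    obtain ⟨g0', hg0', he0, hcc0⟩ := himgQ g0 hg0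
    refine ⟨bQ fr g0' - bQ fr g0, fun g g' hg hg' hc he => ?_⟩
    obtain ⟨hs, e⟩ := q_shift hF fr hg0 hg (hc0.trans hc.symm)
    set d := bQ fr g - bQ fr g0 with hd
    have hT := isQ_tmat hF fr.hvv hs
    have e' : g' = tmat q fr.v d * g0' := by
      refine isQ_unique hF fr hg'.1 (isQ_mul hT hg0').1 ?_
      rw [← he, e, QuotientGroup.mk_mul, map_mul, he0]
      exact congrArg (· * _) (hTfix _ hs)
    rw [e', (q_mul hF fr hT hg0').2, (q_tmat hF fr hs).1, (q_tmat hF fr hs).2, h_zero_right hF, hd]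
    ring
  choose χ hχ using hχex
  have hχadd : ∀ w w', χ (w + w') = χ w + χ w' := by
    intro w w'
    obtain ⟨g, hg, hc⟩ := exists_q' hF fr w
    obtain ⟨k, hk, hkc⟩ := exists_q' hF fr w'
    obtain ⟨g', hg', hge, hgc⟩ := himgQ g hg
    obtain ⟨k', hk', hke, hkc'⟩ := himgQ k hk
    have h1 := hχ (w + w') (g * k) (g' * k') (isQ_mul hg hk) (isQ_mul hg' hk')
      (by rw [(q_mul hF fr hg hk).1, hc, hkc])
      (by rw [QuotientGroup.mk_mul, map_mul, hge, hke]; rfl)
    rw [(q_mul hF fr hg hk).2, (q_mul hF fr hg' hk').2, hgc, hkc', hχ w g g' hg hg' hc hge,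
      hχ w' k k' hk hk' hkc hke] at h1
    linear_combination -h1
  have hχlam : ∀ (g : SUG (m + 2) F q) (α γ : F), mat g *ᵥ fr.u = α • fr.u →
      mat g *ᵥ fr.v = γ • fr.v → γ * tau hF γ = 1 → ∀ w, χ (lam α g w) = χ w := by
    intro g α γ hu hv hν w
    obtain ⟨g', α', γ', hu', hv', he⟩ := torus_image hF fr hβ hu hv
    have hν' : γ' * tau hF γ' = 1 := by
      obtain ⟨s, hs0, hs⟩ := exists_skew hF
      have hfx : tau hF (γ' * tau hF γ') = γ' * tau hF γ' := by rw [map_mul, tau_tau, mul_comm]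
      have h1 : tel q fr.v s = tel q fr.v (s * (γ' * tau hF γ')) := by
        calc tel q fr.v s = β (tel q fr.v (s * (γ * tau hF γ))) := by rw [hν, mul_one, hTfix s hs]
          _ = β (MulAut.conj (QuotientGroup.mk g : PSUG (m + 2) F q) (tel q fr.v s)) := by
              rw [tel_conj hF g fr.hvv hs, hv, tel_smul hF fr.hvv hs]
          _ = MulAut.conj (QuotientGroup.mk g' : PSUG (m + 2) F q) (tel q fr.v s) := by
              rw [MulAut.conj_apply, MulAut.conj_apply, map_mul, map_mul, map_inv, he, hTfix s hs]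
          _ = _ := by rw [tel_conj hF g' fr.hvv hs, hv', tel_smul hF fr.hvv hs]
      have h2 := tel_injective hF fr.hvv hv0 hs (by rw [map_mul, hfx, hs, neg_mul]) h1
      exact (mul_left_cancel₀ hs0 (by rw [← h2, mul_one])).symm
    obtain ⟨E, hE, hc⟩ := exists_q' hF fr w
    obtain ⟨E', hE', hEe, hEc⟩ := himgQ E hE
    obtain ⟨t1, t2, t3⟩ := q_torus hF fr hu hv hE
    obtain ⟨t1', t2', t3'⟩ := q_torus hF fr hu' hv' hE'
    have hmk : β (QuotientGroup.mk (g * E * g⁻¹)) =
        (QuotientGroup.mk (g' * E' * g'⁻¹) : PSUG (m + 2) F q) := by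
      rw [QuotientGroup.mk_mul, QuotientGroup.mk_mul, QuotientGroup.mk_inv, map_mul, map_mul, map_inv,
        he, hEe]
      rfl
    have h1 := hχ (lam α g w) _ _ t1 t1' (by rw [t2, hc]) hmk
    rw [t3, t3', hν, hν', mul_one, mul_one, hχ w E E' hE hE' hc hEe] at h1
    linear_combination -h1
  have hχ0 : ∀ w, χ w = 0 := by
    obtain ⟨l0, hl0, hl02⟩ := exists_norm_one_sq_ne hF
    have haxis : ∀ i x, χ (Pi.single i x) = 0 := by
      intro i
      -- a norm-one `l` and the coordinate `p` of the torus element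
      obtain ⟨p, l, hl, hne⟩ : ∃ (p : Fin m) (l : F), l ^ (q + 1) = 1 ∧
          (if i = p then tau hF l / (l * l) else l⁻¹) ≠ 1 := by
        by_cases hm1 : m = 1
        · obtain ⟨l, hl, hl3⟩ : ∃ l : F, l ^ (q + 1) = 1 ∧ l ^ 3 ≠ 1 := by
            by_contra hcon
            push Not at hcon
            have hle : (powMonoidHom (q + 1) : Fˣ →* Fˣ).ker ≤ (powMonoidHom 3 : Fˣ →* Fˣ).ker :=
              fun u hu => Units.ext (by
                have h' : (u : F) ^ (q + 1) = 1 := congrArg Units.val (show u ^ (q + 1) = 1 from hu)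
                exact hcon _ h')
            have h1 := Subgroup.card_le_of_le hle
            rw [card_norm_one_units hF, IsCyclic.card_powMonoidHom_ker] at h1
            have h2 : Nat.gcd (Nat.card Fˣ) 3 ≤ 3 := Nat.le_of_dvd (by norm_num) (Nat.gcd_dvd_right _ _)
            have := hs hm1
            omega
          refine ⟨i, l, hl, ?_⟩
          have hl0' : l ≠ 0 := fun e => by simp [e, zero_pow] at hl
          rw [if_pos rfl]
          intro h
          rw [div_eq_one_iff_eq (mul_ne_zero hl0' hl0'), tau_apply] at h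
          apply hl3
          calc l ^ 3 = l * l * l := by ring
            _ = l ^ q * l := by rw [h]
            _ = 1 := by rw [← pow_succ]; exact hl
        · obtain ⟨p, hp⟩ : ∃ p : Fin m, i ≠ p := by
            by_cases hi : (i : ℕ) = 0
            · exact ⟨⟨1, by omega⟩, fun h => by rw [h] at hi; simp at hi⟩
            · exact ⟨⟨0, by omega⟩, fun h => hi (by rw [h])⟩
          refine ⟨p, l0, hl0, ?_⟩
          rw [if_neg hp]
          intro h
          rw [inv_eq_one] at h
          exact hl02 (by rw [h, one_mul])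
      have hl0' : l ≠ 0 := fun e => by simp [e, zero_pow] at hl
      obtain ⟨g, hu, hv, hw⟩ := exists_torus_lam hF fr p hl0'
      have hl1 : l * tau hF l = 1 := by rw [tau_apply, ← pow_succ']; exact hl
      have hν : (tau hF l)⁻¹ * tau hF ((tau hF l)⁻¹) = 1 := by
        rw [map_inv₀, tau_tau, ← mul_inv, mul_comm, hl1, inv_one]
      set k := (if i = p then tau hF l / (l * l) else l⁻¹) with hk
      intro x
      have h1 := hχlam g _ _ hu hv hν (Pi.single i (x / (k - 1)))
      rw [show lam l g (Pi.single i (x / (k - 1))) = Pi.single i x + Pi.single i (x / (k - 1)) by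
        funext j
        rw [hw]
        by_cases hj : j = i
        · subst hj
          rw [Pi.add_apply, Pi.single_eq_same, Pi.single_eq_same, ← hk]
          have : k - 1 ≠ 0 := sub_ne_zero.mpr hne
          field_simp
          ring
        · simp [hj], hχadd] at h1
      exact add_eq_right.mp h1
    intro w
    conv_lhs => rw [← Finset.univ_sum_single w]
    let χh : Vec m F →+ F := AddMonoidHom.mk' χ hχadd
    show χh _ = 0
    rw [map_sum]
    exact Finset.sum_eq_zero fun i _ => haxis i _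
  have hQfix : ∀ g : SUG (m + 2) F q, IsQ fr.v g →
      β (QuotientGroup.mk g) = (QuotientGroup.mk g : PSUG (m + 2) F q) := by
    intro g hg
    obtain ⟨g', hg', he, hc⟩ := himgQ g hg
    rw [he, q_ext hF fr hg' hg hc (by rw [hχ _ g g' hg hg' rfl he, hχ0, add_zero])]
  -- all isotropic points are fixed
  have hfix1 : ∀ x : Vec (m + 2) F, hh q x x = 0 → hh q x fr.v ≠ 0 → Img hF β x x := by
    intro x hx hxv
    set c := hh q x fr.v with hc
    set y := c⁻¹ • x with hy
    have hyy : hh q y y = 0 := by rw [hy, h_smul_left, h_smul_right hF, hx, mul_zero, mul_zero]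
    have hyv : hh q y fr.v = 1 := by rw [hy, h_smul_left, ← hc, inv_mul_cancel₀ hxv]
    set w := wp y
    set b := hh q y fr.u
    have hdec : y = fr.u + inW w + b • fr.v := by
      conv_lhs => rw [decomp hF fr y, hyv, one_smul]
      abel
    have hb : b + tau hF b + hh q w w = 0 := by
      rw [hdec] at hyy
      simp only [h_add_left, h_add_right hF, h_smul_left, h_smul_right hF, fr.huu, fr.hvv, fr.huv,
        hvu hF fr, h_inW_u hF fr, h_inW_v hF fr, h_u_inW hF fr, h_v_inW hF fr, h_inW] at hyy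
      linear_combination hyy
    obtain ⟨E, hE, hEc, hEb⟩ := exists_q hF fr w hb
    have h1 := img_mulVec hF fr.huu hβ.1 (g := E) (g' := E) (hQfix E hE)
    rw [gu_eq hF fr hE, hEc, hEb, ← hdec] at h1
    have h2 := img_smul_right hF hxv (img_smul_left hF hyy c h1)
    rwa [hy, smul_smul, mul_inv_cancel₀ hxv, one_smul] at h2
  have hfix : ∀ x : Vec (m + 2) F, x ≠ 0 → hh q x x = 0 → Img hF β x x := by
    intro x hx0 hx
    by_cases hxv : hh q x fr.v = 0
    swap
    · exact hfix1 x hx hxv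
    obtain ⟨x', hx'⟩ := exists_image hF (by omega) β hx hx0
    have hx'v : hh q x' fr.v = 0 :=
      (img_orth hF hx hx0 fr.hvv hv0 hx' hβ.2).mpr hxv
    set x0 := wp x with hx0d
    set a := hh q x fr.u with had
    set x1 := wp x' with hx1d
    set a' := hh q x' fr.u with ha'd
    have hdx : x = a • fr.v + inW x0 := by
      conv_lhs => rw [decomp hF fr x, hxv, zero_smul, zero_add]
    have hdx' : x' = a' • fr.v + inW x1 := by
      conv_lhs => rw [decomp hF fr x', hx'v, zero_smul, zero_add]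
    by_cases hx00 : x0 = 0
    · have e : x = a • fr.v := by rw [hdx, hx00, inW_zero, add_zero]
      have ha0 : a ≠ 0 := fun h => hx0 (by rw [e, h, zero_smul])
      rw [e]
      exact img_smul_right hF ha0 (img_smul_left hF fr.hvv a hβ.2)
    have hkey : ∀ w, hh q w x0 = -tau hF a → hh q w x1 = -tau hF a' := by
      intro w hw
      obtain ⟨b, hb⟩ := exists_trace hF (b := -hh q w w) (by rw [map_neg, h_self_fixed hF])
      set y := fr.u + inW w + b • fr.v with hy
      have hyy : hh q y y = 0 := by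
        simp only [hy, h_add_left, h_add_right hF, h_smul_left, h_smul_right hF, fr.huu, fr.hvv, fr.huv,
          hvu hF fr, h_inW_u hF fr, h_inW_v hF fr, h_u_inW hF fr, h_v_inW hF fr, h_inW]
        linear_combination hb
      have hyv : hh q y fr.v ≠ 0 := by
        simp only [hy, h_add_left, h_smul_left, fr.huv, fr.hvv, h_inW_v hF fr, mul_zero, add_zero]
        exact one_ne_zero
      have hy0 : y ≠ 0 := fun e => hyv (by rw [e, h_zero_left])
      have hform : ∀ (c : F) (z : Vec m F), hh q y (c • fr.v + inW z) = tau hF c + hh q w z := by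
        intro c z
        simp only [hy, h_add_left, h_add_right hF, h_smul_left, h_smul_right hF, fr.hvv, fr.huv,
          h_inW_v hF fr, h_u_inW hF fr, h_v_inW hF fr, h_inW]
        ring
      have h1 := (img_orth hF hyy hy0 hx hx0 (hfix1 y hyy hyv) hx').mpr
        (by rw [hdx, hform, hw, add_neg_cancel])
      rw [hdx', hform] at h1
      linear_combination h1
    obtain ⟨w0, hw0⟩ : ∃ w0, hh q w0 x0 = 1 := by
      obtain ⟨w, hw⟩ := exists_h_ne_zero hF hx00
      exact ⟨(hh q w x0)⁻¹ • w, by rw [h_smul_left, inv_mul_cancel₀ hw]⟩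
    set k := hh q w0 x1 with hkd
    have hlin : ∀ w, hh q w x1 = hh q w x0 * k := by
      intro w
      have e1 := hkey ((-tau hF a) • w0 + (w - hh q w x0 • w0)) (by
        rw [h_add_left, h_sub_left, h_smul_left, h_smul_left, hw0]; ring)
      have e2 := hkey ((-tau hF a) • w0) (by rw [h_smul_left, hw0, mul_one])
      rw [h_add_left, h_sub_left, h_smul_left, h_smul_left, ← hkd] at e1
      rw [h_smul_left, ← hkd] at e2
      linear_combination e1 - e2
    have hx1 : x1 = tau hF k • x0 := eq_of_h_eq hF fun w => by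
      rw [hlin, h_smul_right hF, tau_tau, mul_comm]
    have ha' : a' = tau hF k * a := by
      have e2 := hkey ((-tau hF a) • w0) (by rw [h_smul_left, hw0, mul_one])
      rw [h_smul_left, ← hkd] at e2
      have := congrArg (tau hF) e2
      rw [map_mul, map_neg, map_neg, tau_tau, tau_tau] at this
      linear_combination this
    have hxx : x' = tau hF k • x := by
      rw [hdx', hx1, ha', inW_smul, mul_smul, ← smul_add, ← hdx]
    have hk0 : tau hF k ≠ 0 := fun e => hx'.1 (by rw [hxx, e, zero_smul])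
    have h3 := img_smul_right hF (inv_ne_zero hk0) hx'
    rwa [hxx, smul_smul, inv_mul_cancel₀ hk0, one_smul] at h3
  apply MulEquiv.ext
  intro X
  induction X using QuotientGroup.induction_on with
  | H g =>
    rw [MulAut.one_apply]
    obtain ⟨g', hg'⟩ := QuotientGroup.mk_surjective (β (QuotientGroup.mk g) : PSUG (m + 2) F q)
    obtain ⟨c, hc⟩ := eq_scalar_of_fix_isotropic hF (mat g⁻¹ * mat g') hm fun x hx0 hx => by
      have hgx : hh q (mat g *ᵥ x) (mat g *ᵥ x) = 0 := (h_mat g x x).trans hx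
      have hgx0 : mat g *ᵥ x ≠ 0 := fun e => hx0 (by
        have := congrArg (mat g⁻¹ *ᵥ ·) e
        simpa only [inv_mat_mulVec, mulVec_zero] using this)
      obtain ⟨c, -, hc⟩ := img_unique hF hgx hgx0 (hfix _ hgx0 hgx)
        (img_mulVec hF hx (hfix x hx0 hx) hg'.symm)
      exact ⟨c, by rw [← mulVec_mulVec, hc, mulVec_smul, inv_mat_mulVec]⟩
    rw [← hg']
    refine (mk_eq_of_smul (z := c) ?_).symm
    have := congrArg (mat g * ·) hc
    simpa [← Matrix.mul_assoc, mat_mul_inv, Matrix.mul_smul] using this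

omit fr in
/-- Every automorphism of `PSU_n(q)` is a unitary matrix times a field automorphism. -/
theorem aut_psu_structure (hm : 1 ≤ m) (hs : m = 1 → 3 ≤ q) (β : MulAut (PSUG (m + 2) F q)) :
    ∃ (g : GUG (m + 2) F q) (σ : F ≃+* F), β = conjU g * fieldU σ := by
  obtain ⟨fr⟩ := exists_frame hF m
  obtain ⟨g, hg⟩ := exists_conjU_stab hF fr β
  set β₁ := ((conjU g)⁻¹ * β : MulAut (PSUG (m + 2) F q)) with hβ₁
  obtain ⟨φ, hact, hbij, hadd, heq⟩ := exists_act hF fr hm hg
  obtain ⟨σ, hσ⟩ := exists_semilinear hF fr hm hs hg hbij hadd heq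
  obtain ⟨G, hGs, hGa⟩ := exists_fieldFrame hF fr hm σ
  set φ₂ : Vec m F → Vec m F := fun w => σ.symm ∘ φ w with hφ₂
  set β₂ := (((conjU G)⁻¹ * fieldU σ)⁻¹ * β₁ : MulAut (PSUG (m + 2) F q)) with hβ₂
  have hst₂ : Stab hF fr β₂ := stab_mul hF fr hg (stab_inv hF fr hGs)
  have hact₂ : Act fr β₂ φ₂ :=
    act_mul hF fr hm hg hact (act_inv hF fr hGa (ψ := fun w => σ.symm ∘ w) fun w => by ext i; simp)
  have hadd₂ : ∀ w w', φ₂ (w + w') = φ₂ w + φ₂ w' := fun w w' => by ext i; simp [hφ₂, hadd]
  have hlin₂ : ∀ (c : F) w, φ₂ (c • w) = c • φ₂ w := fun c w => by ext i; simp [hφ₂, hσ]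
  have hinj₂ : Function.Injective φ₂ := fun w w' e => hbij.1 (funext fun i => by
    have := congrFun e i
    simpa [hφ₂] using this)
  obtain ⟨μ, hμ0, hμ, hall⟩ := exists_multiplier hF fr hm hst₂ hact₂ hinj₂ hadd₂ hlin₂
  obtain ⟨ν, hν0, hν⟩ := CfsgLib.ClassicalGroups.exists_norm_eq hF
    (by rw [← tau_apply hF]; exact hμ) hμ0
  have hν' : ν * tau hF ν = μ := by rw [tau_apply, ← pow_succ']; exact hν
  have htν : tau hF ν ≠ 0 := by simpa using hν0
  let M : Vec m F →ₗ[F] Vec (m + 2) F :=
    { toFun := fun w => inW (ν⁻¹ • φ₂ w)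
      map_add' := fun w w' => by rw [hadd₂, smul_add, inW_add]
      map_smul' := fun c w => by rw [hlin₂, smul_comm, inW_smul, RingHom.id_apply] }
  obtain ⟨G2, hu, hv, hw⟩ := exists_gu_frame hF fr (ν⁻¹ • fr.u) (tau hF ν • fr.v) M
    (by rw [h_smul_left, h_smul_right hF, fr.huu, mul_zero, mul_zero])
    (by rw [h_smul_left, h_smul_right hF, fr.hvv, mul_zero, mul_zero])
    (by rw [h_smul_left, h_smul_right hF, fr.huv, tau_tau, mul_one, inv_mul_cancel₀ hν0])
    (fun w => by
      show hh q (inW _) _ = 0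
      rw [h_smul_right hF, h_inW_u hF fr, mul_zero])
    (fun w => by
      show hh q (inW _) _ = 0
      rw [h_smul_right hF, h_inW_v hF fr, mul_zero])
    (fun w w' => by
      show hh q (inW _) (inW _) = _
      rw [h_inW, h_smul_left, h_smul_right hF, hall, map_inv₀, ← hν']
      field_simp)
  obtain ⟨hs2, ha2⟩ := act_conjU hF fr hm G2 (inv_ne_zero hν0) htν hu hv
    (M := fun w => ν⁻¹ • φ₂ w) hw
  obtain ⟨ψ, hψ1, hψ2⟩ := Function.bijective_iff_has_inverse.mp
    (⟨hinj₂, Finite.injective_iff_surjective.mp hinj₂⟩ : Function.Bijective φ₂)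
  have hinv : ∀ w, ψ ((fun w => (ν⁻¹)⁻¹ • ν⁻¹ • φ₂ w) w) = w := fun w => by
    show ψ ((ν⁻¹)⁻¹ • ν⁻¹ • φ₂ w) = w
    rw [smul_smul, inv_mul_cancel₀ (inv_ne_zero hν0), one_smul, hψ1]
  have hact₃ : Act fr ((conjU G2)⁻¹ * β₂) id := by
    have := act_mul hF fr hm hst₂ hact₂ (act_inv hF fr ha2 hinv)
    intro x x' hx hx' he
    rw [this x x' hx hx' he]
    exact hψ1 _
  have h3 := eq_one_of_act_id hF fr hm hs (stab_mul hF fr hst₂ (stab_inv hF fr hs2)) hact₃
  rw [inv_mul_eq_one] at h3
  refine ⟨g * G⁻¹ * guField σ G2, σ, ?_⟩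
  rw [map_mul, map_mul, map_inv]
  calc β = conjU g * ((conjU G)⁻¹ * fieldU σ) * β₂ := by rw [hβ₂, hβ₁]; group
    _ = conjU g * (conjU G)⁻¹ * (fieldU σ * conjU G2) := by rw [← h3]; group
    _ = _ := by rw [fieldU_mul_conjU]; group

end hFsec

end CfsgLib.AutPSU
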