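import Cfsg.Agent.Lib.AutPSU.Radical
import Cfsg.Agent.Lib.AutPSU.Commutant

/-!
Automorphisms stabilizing the root groups of a hyperbolic pair, and their action on `W`.
-/

set_option autoImplicit false
set_option linter.unusedSectionVars false

namespace CfsgLib.AutPSU

open Matrix Cfsg CfsgLib.ClassicalGroups

variable {m : ℕ} {F : Type*} [Field F] [Fintype F] {q : ℕ}

/-- `β` stabilizes the root groups of both frame points. -/
def Stab (hF : Fintype.card F = q ^ 2) (fr : Frame q m F) (β : MulAut (PSUG (m + 2) F q)) : Prop :=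
  Img hF β fr.u fr.u ∧ Img hF β fr.v fr.v

/-- `β` acts as `φ` on the `W`-coordinate of the radical. -/
def Act (fr : Frame q m F) (β : MulAut (PSUG (m + 2) F q)) (φ : Vec m F → Vec m F) : Prop :=
  ∀ g g' : SUG (m + 2) F q, IsQ fr.v g → IsQ fr.v g' →
    β (QuotientGroup.mk g) = QuotientGroup.mk g' → cQ fr g' = φ (cQ fr g)

section hFsec
variable (hF : Fintype.card F = q ^ 2) (fr : Frame q m F)
include hF

theorem stab_one : Stab hF fr 1 :=
  ⟨⟨u_ne_zero hF fr, fr.huu, fun s hs => ⟨s, hs, rfl⟩⟩, ⟨v_ne_zero hF fr, fr.hvv, fun s hs => ⟨s, hs, rfl⟩⟩⟩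

theorem stab_mul {β γ : MulAut (PSUG (m + 2) F q)} (h : Stab hF fr β) (h' : Stab hF fr γ) :
    Stab hF fr (γ * β) :=
  ⟨img_trans hF h.1 h'.1, img_trans hF h.2 h'.2⟩

theorem stab_inv {β : MulAut (PSUG (m + 2) F q)} (h : Stab hF fr β) : Stab hF fr β⁻¹ :=
  ⟨img_inv hF fr.huu (u_ne_zero hF fr) h.1, img_inv hF fr.hvv (v_ne_zero hF fr) h.2⟩

theorem isQ_unique {g g' : SUG (m + 2) F q} (hg : mat g *ᵥ fr.v = fr.v) (hg' : mat g' *ᵥ fr.v = fr.v)
    (h : (QuotientGroup.mk g : PSUG (m + 2) F q) = QuotientGroup.mk g') : g = g' :=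
  eq_of_mk_eq hF (v_ne_zero hF fr) hg hg' h

theorem act_mul (hm : 1 ≤ m) {β γ : MulAut (PSUG (m + 2) F q)} {φ ψ : Vec m F → Vec m F}
    (hβ : Stab hF fr β) (h : Act fr β φ) (h' : Act fr γ ψ) : Act fr (γ * β) (ψ ∘ φ) := by
  intro g g'' hg hg'' he
  obtain ⟨g', hg', hgg'⟩ := isQ_image hF fr hm hβ.2 hg
  rw [MulAut.mul_apply, hgg'] at he
  rw [h' g' g'' hg' hg'' he, h g g' hg hg' hgg']
  rfl

theorem act_inv {β : MulAut (PSUG (m + 2) F q)} {φ ψ : Vec m F → Vec m F}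
    (h : Act fr β φ) (hψ : ∀ w, ψ (φ w) = w) : Act fr β⁻¹ ψ := by
  intro g g' hg hg' he
  have e : β (QuotientGroup.mk g') = QuotientGroup.mk g := by rw [← he, MulAut.apply_inv_self]
  rw [h g' g hg' hg e, hψ]

theorem torus_param {g : SUG (m + 2) F q} {α γ : F} (hu : mat g *ᵥ fr.u = α • fr.u)
    (hv : mat g *ᵥ fr.v = γ • fr.v) : α * tau hF γ = 1 := by
  have := h_mat g fr.u fr.v
  rw [hu, hv, h_smul_left, h_smul_right hF, fr.huv, mul_one] at this
  exact this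

/-- Conjugating the radical by an element stabilizing both frame points. -/
theorem q_torus {g E : SUG (m + 2) F q} {α γ : F} (hu : mat g *ᵥ fr.u = α • fr.u)
    (hv : mat g *ᵥ fr.v = γ • fr.v) (hE : IsQ fr.v E) :
    IsQ fr.v (g * E * g⁻¹) ∧ cQ fr (g * E * g⁻¹) = lam α g (cQ fr E) ∧
      bQ fr (g * E * g⁻¹) = bQ fr E * (γ * tau hF γ) := by
  have hp := torus_param hF fr hu hv
  have hγ0 : γ ≠ 0 := fun h => by rw [h, map_zero, mul_zero] at hp; exact zero_ne_one hp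
  have hα0 : α ≠ 0 := fun h => by rw [h, zero_mul] at hp; exact zero_ne_one hp
  have hQ : IsQ fr.v (g * E * g⁻¹) := by
    have h1 := isQ_conj (suToGU g) hE
    rw [suToGU_coe, hv] at h1
    have h2 := isQ_smul hF (inv_ne_zero hγ0) h1
    rw [smul_smul, inv_mul_cancel₀ hγ0, one_smul] at h2
    convert h2 using 1
    apply mat_injective
    rw [suConj_mat, show ((suToGU g).1)⁻¹ = (suToGU g⁻¹).1 from by rw [map_inv]; rfl]
    rfl
  have hiu : mat g⁻¹ *ᵥ fr.u = α⁻¹ • fr.u := by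
    have := congrArg (mat g⁻¹ *ᵥ ·) hu
    simp only [inv_mat_mulVec, mulVec_smul] at this
    conv_rhs => rw [this, smul_smul, inv_mul_cancel₀ hα0, one_smul]
  have e : mat (g * E * g⁻¹) *ᵥ fr.u =
      fr.u + α⁻¹ • inW (wp (mat g *ᵥ inW (cQ fr E))) + (α⁻¹ * (bQ fr E * γ)) • fr.v := by
    rw [mat_mul, mat_mul, ← mulVec_mulVec, ← mulVec_mulVec, hiu, mulVec_smul, mulVec_smul,
      gu_eq hF fr hE, mulVec_add, mulVec_add, mulVec_smul, hu, hv, ← torus_inW hF fr hu hv]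
    simp only [smul_add, smul_smul, inv_mul_cancel₀ hα0, one_smul]
  refine ⟨hQ, ?_, ?_⟩
  · rw [cQ, e, wp_add, wp_add, wp_smul, wp_smul, wp_inW, fr.hu, fr.hv, lam]
    simp
  · rw [bQ, e, h_add_left, h_add_left, h_smul_left, h_smul_left, fr.huu, h_inW_u hF fr, hvu hF fr,
      show α⁻¹ = tau hF γ from inv_eq_of_mul_eq_one_right hp]
    ring

/-- A torus element goes to a torus element. -/
theorem torus_image {β : MulAut (PSUG (m + 2) F q)} (hβ : Stab hF fr β) {g : SUG (m + 2) F q}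
    {α γ : F} (hu : mat g *ᵥ fr.u = α • fr.u) (hv : mat g *ᵥ fr.v = γ • fr.v) :
    ∃ (g' : SUG (m + 2) F q) (α' γ' : F), mat g' *ᵥ fr.u = α' • fr.u ∧ mat g' *ᵥ fr.v = γ' • fr.v ∧
      β (QuotientGroup.mk g) = (QuotientGroup.mk g' : PSUG (m + 2) F q) := by
  obtain ⟨g', hg'⟩ := QuotientGroup.mk_surjective (β (QuotientGroup.mk g) : PSUG (m + 2) F q)
  have hne : ∀ x : Vec (m + 2) F, x ≠ 0 → mat g *ᵥ x ≠ 0 := fun x hx e => hx (by
    have := congrArg (mat g⁻¹ *ᵥ ·) e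
    simpa only [inv_mat_mulVec, mulVec_zero] using this)
  have h1 : ∀ x : Vec (m + 2) F, x ≠ 0 → hh q x x = 0 → Img hF β x x → ∀ c : F,
      mat g *ᵥ x = c • x → ∃ c' : F, mat g' *ᵥ x = c' • x := by
    intro x hx hxx hI c hc
    obtain ⟨c', -, hc'⟩ := img_unique hF ((h_mat g x x).trans hxx) (hne x hx)
      (hc ▸ img_smul_left hF hxx c hI : Img hF β (mat g *ᵥ x) x) (img_mulVec hF hxx hI hg'.symm)
    exact ⟨c', hc'⟩
  obtain ⟨α', hα'⟩ := h1 fr.u (u_ne_zero hF fr) fr.huu hβ.1 α hu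
  obtain ⟨γ', hγ'⟩ := h1 fr.v (v_ne_zero hF fr) fr.hvv hβ.2 γ hv
  exact ⟨g', α', γ', hα', hγ', hg'.symm⟩

theorem q_shift {g g' : SUG (m + 2) F q} (hg : IsQ fr.v g) (hg' : IsQ fr.v g')
    (hc : cQ fr g = cQ fr g') :
    tau hF (bQ fr g' - bQ fr g) = -(bQ fr g' - bQ fr g) ∧
      g' = tmat q fr.v (bQ fr g' - bQ fr g) * g := by
  have hs : tau hF (bQ fr g' - bQ fr g) = -(bQ fr g' - bQ fr g) := by
    have e1 := bQ_rel hF fr hg
    have e2 := bQ_rel hF fr hg'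
    rw [← hc] at e2
    rw [map_sub]
    linear_combination e2 - e1
  refine ⟨hs, ?_⟩
  have hT := isQ_tmat hF fr.hvv hs
  obtain ⟨e1, e2⟩ := q_mul hF fr hT hg
  obtain ⟨t1, t2⟩ := q_tmat hF fr hs
  refine q_ext hF fr hg' (isQ_mul hT hg) ?_ ?_
  · rw [e1, t1, zero_add, hc]
  · rw [e2, t1, t2, h_zero_right hF]; ring

/-- The action on `W` exists, is bijective and equivariant. -/
theorem exists_act (hm : 1 ≤ m) {β : MulAut (PSUG (m + 2) F q)} (hβ : Stab hF fr β) :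
    ∃ φ : Vec m F → Vec m F, Act fr β φ ∧ Function.Bijective φ ∧
      (∀ w w', φ (w + w') = φ w + φ w') ∧
      ∀ (g g' : SUG (m + 2) F q) (α γ α' γ' : F), mat g *ᵥ fr.u = α • fr.u →
        mat g *ᵥ fr.v = γ • fr.v → mat g' *ᵥ fr.u = α' • fr.u → mat g' *ᵥ fr.v = γ' • fr.v →
        β (QuotientGroup.mk g) = (QuotientGroup.mk g' : PSUG (m + 2) F q) →
        ∀ w, φ (lam α g w) = lam α' g' (φ w) := by
  have hex : ∀ w : Vec m F, ∃ (c : Vec m F) (g g' : SUG (m + 2) F q), IsQ fr.v g ∧ cQ fr g = w ∧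
      IsQ fr.v g' ∧ cQ fr g' = c ∧ β (QuotientGroup.mk g) = QuotientGroup.mk g' := by
    intro w
    obtain ⟨g, hg, hc⟩ := exists_q' hF fr w
    obtain ⟨g', hg', he⟩ := isQ_image hF fr hm hβ.2 hg
    exact ⟨_, g, g', hg, hc, hg', rfl, he⟩
  choose φ hφ using hex
  have hact : Act fr β φ := by
    intro g g' hg hg' he
    obtain ⟨g0, g0', hg0, hc0, hg0', hc0', he0⟩ := hφ (cQ fr g)
    obtain ⟨hs, hgT⟩ := q_shift hF fr hg0 hg hc0
    obtain ⟨r, hr, hTr⟩ := hβ.2.2.2 _ hs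
    have e : g' = tmat q fr.v r * g0' := by
      refine isQ_unique hF fr hg'.1 ?_ ?_
      · exact (isQ_mul (isQ_tmat hF fr.hvv hr) hg0').1
      · rw [← he, hgT, QuotientGroup.mk_mul, map_mul, he0]
        exact congrArg (· * _) hTr
    rw [e, (q_mul hF fr (isQ_tmat hF fr.hvv hr) hg0').1, (q_tmat hF fr hr).1, zero_add, hc0']
  have hadd : ∀ w w', φ (w + w') = φ w + φ w' := by
    intro w w'
    obtain ⟨g, g', hg, hc, hg', hc', he⟩ := hφ w
    obtain ⟨k, k', hk, hkc, hk', hkc', hke⟩ := hφ w'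
    have := hact (g * k) (g' * k') (isQ_mul hg hk) (isQ_mul hg' hk')
      (by rw [QuotientGroup.mk_mul, map_mul, he, hke]; rfl)
    rw [(q_mul hF fr hg hk).1, (q_mul hF fr hg' hk').1, hc, hkc, hc', hkc'] at this
    exact this.symm
  have hsurj : Function.Surjective φ := by
    intro w
    obtain ⟨g, hg, hc⟩ := exists_q' hF fr w
    obtain ⟨g', hg', he⟩ := isQ_image hF fr hm (stab_inv hF fr hβ).2 hg
    have e : β (QuotientGroup.mk g') = QuotientGroup.mk g := by rw [← he, MulAut.apply_inv_self]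
    exact ⟨cQ fr g', by rw [← hact g' g hg' hg e, hc]⟩
  refine ⟨φ, hact, ⟨Finite.injective_iff_surjective.mpr hsurj, hsurj⟩, hadd, ?_⟩
  intro g g' α γ α' γ' hu hv hu' hv' he w
  obtain ⟨E, E', hE, hc, hE', hc', hee⟩ := hφ w
  obtain ⟨h1, h2, -⟩ := q_torus hF fr hu hv hE
  obtain ⟨h1', h2', -⟩ := q_torus hF fr hu' hv' hE'
  have := hact _ _ h1 h1' (by
    rw [QuotientGroup.mk_mul, QuotientGroup.mk_mul, QuotientGroup.mk_inv, map_mul, map_mul, map_inv,
      he, hee]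
    rfl)
  rw [h2, h2', hc, hc'] at this
  exact this.symm

/-- The action on `W` is semilinear. -/
theorem exists_semilinear (hm : 1 ≤ m) (hs : m = 1 → 3 ≤ q) {β : MulAut (PSUG (m + 2) F q)}
    (hβ : Stab hF fr β) {φ : Vec m F → Vec m F} (hbij : Function.Bijective φ)
    (hadd : ∀ w w', φ (w + w') = φ w + φ w')
    (heq : ∀ (g g' : SUG (m + 2) F q) (α γ α' γ' : F), mat g *ᵥ fr.u = α • fr.u →
        mat g *ᵥ fr.v = γ • fr.v → mat g' *ᵥ fr.u = α' • fr.u → mat g' *ᵥ fr.v = γ' • fr.v →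
        β (QuotientGroup.mk g) = (QuotientGroup.mk g' : PSUG (m + 2) F q) →
        ∀ w, φ (lam α g w) = lam α' g' (φ w)) :
    ∃ σ : F ≃+* F, ∀ (c : F) w, φ (c • w) = σ c • φ w := by
  have hk : ∀ c : F, ∃ k : F, ∀ w, φ (c • w) = k • φ w := by
    intro c
    obtain ⟨ψ, hψ1, hψ2⟩ := Function.bijective_iff_has_inverse.mp hbij
    obtain ⟨k, hk⟩ := commutant_scalar hF fr hs hm (fun w => φ (c • ψ w))
      (fun w w' => by
        show φ (c • ψ (w + w')) = _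
        rw [← hadd, ← smul_add]
        congr 2
        apply hbij.1
        rw [hψ2, hadd, hψ2, hψ2])
      (fun g' α' γ' hu' hv' w => by
        obtain ⟨g, α, γ, hu, hv, he⟩ := torus_image hF fr (stab_inv hF fr hβ) hu' hv'
        have he' : β (QuotientGroup.mk g) = (QuotientGroup.mk g' : PSUG (m + 2) F q) := by
          rw [← he, MulAut.apply_inv_self]
        have h1 := heq g g' α γ α' γ' hu hv hu' hv' he'
        show φ (c • ψ (lam α' g' w)) = lam α' g' (φ (c • ψ w))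
        have e : ψ (lam α' g' w) = lam α g (ψ w) := by
          apply hbij.1
          rw [hψ2, h1, hψ2]
        rw [← h1, e]
        congr 1
        simp only [lam, inW_smul, mulVec_smul, wp_smul, smul_smul, mul_comm])
    exact ⟨k, fun w => by
      have := hk (φ w)
      rwa [hψ1] at this⟩
  choose σ hσ using hk
  set z : Fin m := ⟨0, hm⟩
  have hφ0 : φ 0 = 0 := by
    have := hadd 0 0
    rw [add_zero] at this
    exact add_eq_left.mp this.symm
  obtain ⟨w0, hw0⟩ : ∃ w0 : Vec m F, φ w0 ≠ 0 :=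
    ⟨Pi.single z 1, fun h => by simpa using hbij.1 (h.trans hφ0.symm)⟩
  have hcancel : ∀ a b : F, a • φ w0 = b • φ w0 → a = b := fun a b h => smul_left_injective F hw0 h
  have hσadd : ∀ a b, σ (a + b) = σ a + σ b := fun a b => hcancel _ _ (by
    rw [← hσ, add_smul, hadd, hσ, hσ, add_smul])
  have hσ1 : σ 1 = 1 := hcancel _ _ (by rw [← hσ, one_smul, one_smul])
  have hσmul : ∀ a b, σ (a * b) = σ a * σ b := fun a b => hcancel _ _ (by
    rw [← hσ, mul_smul, hσ, hσ, mul_smul])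
  let g : F →+* F :=
    { toFun := σ, map_one' := hσ1, map_mul' := hσmul
      map_zero' := by simpa using hσadd 0 0
      map_add' := hσadd }
  exact ⟨RingEquiv.ofBijective g (Finite.injective_iff_bijective.mp g.injective), fun c w => hσ c w⟩

/-- An element of `GU` stabilizing both frame points acts linearly on `W`. -/
theorem act_conjU (hm : 1 ≤ m) (G : GUG (m + 2) F q) {α γ : F} (hα : α ≠ 0) (hγ : γ ≠ 0)
    (hu : (G.1 : Mat (m + 2) F) *ᵥ fr.u = α • fr.u) (hv : (G.1 : Mat (m + 2) F) *ᵥ fr.v = γ • fr.v)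
    {M : Vec m F → Vec m F} (hw : ∀ w, (G.1 : Mat (m + 2) F) *ᵥ inW w = inW (M w)) :
    Stab hF fr (conjU G) ∧ Act fr (conjU G) (fun w => α⁻¹ • M w) := by
  have hs : Stab hF fr (conjU G) := by
    refine ⟨?_, ?_⟩
    · have := img_smul_right hF (inv_ne_zero hα) (img_conjU hF G fr.huu (u_ne_zero hF fr))
      rwa [hu, smul_smul, inv_mul_cancel₀ hα, one_smul] at this
    · have := img_smul_right hF (inv_ne_zero hγ) (img_conjU hF G fr.hvv (v_ne_zero hF fr))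
      rwa [hv, smul_smul, inv_mul_cancel₀ hγ, one_smul] at this
  refine ⟨hs, fun g g' hg hg' he => ?_⟩
  have hiv : ((G.1⁻¹ : GL (Fin (m + 2)) F) : Mat (m + 2) F) *ᵥ fr.v = γ⁻¹ • fr.v := by
    have := congrArg (((G.1⁻¹ : GL (Fin (m + 2)) F) : Mat (m + 2) F) *ᵥ ·) hv
    simp only [gl_inv_mulVec, mulVec_smul] at this
    conv_rhs => rw [this, smul_smul, inv_mul_cancel₀ hγ, one_smul]
  have hiu : ((G.1⁻¹ : GL (Fin (m + 2)) F) : Mat (m + 2) F) *ᵥ fr.u = α⁻¹ • fr.u := by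
    have := congrArg (((G.1⁻¹ : GL (Fin (m + 2)) F) : Mat (m + 2) F) *ᵥ ·) hu
    simp only [gl_inv_mulVec, mulVec_smul] at this
    conv_rhs => rw [this, smul_smul, inv_mul_cancel₀ hα, one_smul]
  have e1 : mat (suConj G g) *ᵥ fr.v = fr.v := by
    rw [suConj_mat, ← mulVec_mulVec, ← mulVec_mulVec, hiv, mulVec_smul, mulVec_smul, hg.1, hv,
      smul_smul, inv_mul_cancel₀ hγ, one_smul]
  have e2 : g' = suConj G g := isQ_unique hF fr hg'.1 e1 he.symm
  rw [e2, cQ, suConj_mat, ← mulVec_mulVec, ← mulVec_mulVec, hiu, mulVec_smul, mulVec_smul,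
    gu_eq hF fr hg, mulVec_add, mulVec_add, mulVec_smul, hw, hu, hv]
  simp [wp_smul, wp_add, wp_inW, fr.hu, fr.hv]

/-- A field automorphism, corrected to stabilize the frame. -/
theorem exists_fieldFrame (hm : 1 ≤ m) (σ : F ≃+* F) :
    ∃ G : GUG (m + 2) F q, Stab hF fr ((conjU G)⁻¹ * fieldU σ) ∧
      Act fr ((conjU G)⁻¹ * fieldU σ) (fun w => σ ∘ w) := by
  have hwp : ∀ x : Vec (m + 2) F, wp (σ ∘ x) = σ ∘ wp x := fun x => rfl
  have hz : σ ∘ (0 : Vec m F) = 0 := by funext i; simp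
  let M : Vec m F →ₗ[F] Vec (m + 2) F :=
    { toFun := inW, map_add' := inW_add, map_smul' := inW_smul }
  obtain ⟨G, hGu, hGv, hGw⟩ := exists_gu_frame hF fr (σ ∘ fr.u) (σ ∘ fr.v) M
    (by rw [← h_map, fr.huu, map_zero]) (by rw [← h_map, fr.hvv, map_zero])
    (by rw [← h_map, fr.huv, map_one])
    (fun w => by
      show hh q (inW w) _ = 0
      rw [h_inW_left, hwp, fr.hu, hz, h_zero_right hF])
    (fun w => by
      show hh q (inW w) _ = 0
      rw [h_inW_left, hwp, fr.hv, hz, h_zero_right hF])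
    (fun w w' => h_inW w w')
  have himg : ∀ x : Vec (m + 2) F, hh q x x = 0 → x ≠ 0 → (G.1 : Mat (m + 2) F) *ᵥ x = σ ∘ x →
      Img hF ((conjU G)⁻¹ * fieldU σ) x x := by
    intro x hx hx0 hGx
    have h1 : Img hF (fieldU σ) x (σ ∘ x) := by
      refine ⟨fun e => hx0 (funext fun i => by simpa using congrFun e i), by rw [← h_map, hx, map_zero],
        fun s hs => ⟨σ s, by rw [← tau_map hF, hs, map_neg], fieldU_tel hF σ hx hs⟩⟩
    have h2 := img_inv hF hx hx0 (hGx ▸ img_conjU hF G hx hx0 : Img hF (conjU G) x (σ ∘ x))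
    exact img_trans hF h1 h2
  refine ⟨G, ⟨himg _ fr.huu (u_ne_zero hF fr) hGu, himg _ fr.hvv (v_ne_zero hF fr) hGv⟩,
    fun g g' hg hg' he => ?_⟩
  rw [MulAut.mul_apply, fieldU_mk, ← map_inv, conjU_mk] at he
  have hfix : ∀ x : Vec (m + 2) F, mat (suConj G⁻¹ (suField σ g)) *ᵥ x =
      ((G.1⁻¹ : GL (Fin (m + 2)) F) : Mat (m + 2) F) *ᵥ
        ((mat g).map σ *ᵥ ((G.1 : Mat (m + 2) F) *ᵥ x)) := fun x => by
    rw [suConj_mat, suField_mat, ← mulVec_mulVec, ← mulVec_mulVec, Subgroup.coe_inv, inv_inv]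
  have hback : ∀ x : Vec (m + 2) F, (G.1 : Mat (m + 2) F) *ᵥ x = σ ∘ x →
      ((G.1⁻¹ : GL (Fin (m + 2)) F) : Mat (m + 2) F) *ᵥ (σ ∘ x) = x := fun x hx => by
    rw [← hx, gl_inv_mulVec]
  have e1 : mat (suConj G⁻¹ (suField σ g)) *ᵥ fr.v = fr.v := by
    rw [hfix, hGv, map_mulVec, hg.1, hback _ hGv]
  have e2 : g' = suConj G⁻¹ (suField σ g) := isQ_unique hF fr hg'.1 e1 he.symm
  have e3 : σ ∘ (mat g *ᵥ fr.u) = σ ∘ fr.u + inW (σ ∘ cQ fr g) + σ (bQ fr g) • (σ ∘ fr.v) := by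
    rw [gu_eq hF fr hg]
    funext k
    simp only [Function.comp_apply, Pi.add_apply, Pi.smul_apply, smul_eq_mul, map_add, map_mul]
    congr 2
    refine Fin.cases ?_ (Fin.cases ?_ fun i => ?_) k <;> simp [inW]
  rw [e2, cQ, hfix, hGu, map_mulVec, e3, mulVec_add, mulVec_add, mulVec_smul, hback _ hGu,
    hback _ hGv, show inW (σ ∘ cQ fr g) = (G.1 : Mat (m + 2) F) *ᵥ inW (σ ∘ cQ fr g) from
      (hGw _).symm, gl_inv_mulVec, wp_add, wp_add, wp_smul, wp_inW, fr.hu, fr.hv]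
  simp

end hFsec

end CfsgLib.AutPSU
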