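import Cfsg.Agent.Lib.AutPSU.Frame
import Cfsg.Agent.Lib.AutPSU.Image

/-!
Coordinates on the radical attached to the second frame vector, and its characterisation as the
intersection of the Sylow subgroups fixing that vector.
-/

set_option autoImplicit false
set_option linter.unusedSectionVars false

namespace CfsgLib.AutPSU

open Matrix Cfsg CfsgLib.ClassicalGroups

variable {m : ℕ} {F : Type*} [Field F] [Fintype F] {q : ℕ}

/-- The `W`-coordinate of an element of the radical. -/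
def cQ (fr : Frame q m F) (g : SUG (m + 2) F q) : Vec m F := wp (mat g *ᵥ fr.u)

/-- The `v`-coordinate of an element of the radical. -/
def bQ (fr : Frame q m F) (g : SUG (m + 2) F q) : F := hh q (mat g *ᵥ fr.u) fr.u

section hFsec
variable (hF : Fintype.card F = q ^ 2) (fr : Frame q m F)
include hF

theorem gu_eq {g : SUG (m + 2) F q} (hg : IsQ fr.v g) :
    mat g *ᵥ fr.u = fr.u + inW (cQ fr g) + bQ fr g • fr.v := by
  have h1 : hh q (mat g *ᵥ fr.u) fr.v = 1 := by
    conv_lhs => rw [← hg.1]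
    rw [h_mat, fr.huv]
  conv_lhs => rw [decomp hF fr (mat g *ᵥ fr.u), h1, one_smul]
  rw [cQ, bQ]
  abel

theorem bQ_rel {g : SUG (m + 2) F q} (hg : IsQ fr.v g) :
    bQ fr g + tau hF (bQ fr g) + hh q (cQ fr g) (cQ fr g) = 0 := by
  have h := h_mat g fr.u fr.u
  rw [gu_eq hF fr hg, fr.huu] at h
  simp only [h_add_left, h_add_right hF, h_smul_left, h_smul_right hF, fr.huu, fr.hvv, fr.huv,
    hvu hF fr, h_inW_u hF fr, h_inW_v hF fr, h_u_inW hF fr, h_v_inW hF fr, h_inW] at h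
  linear_combination h

theorem mulVec_inW_of_isQ {g : SUG (m + 2) F q} (hg : IsQ fr.v g) (w : Vec m F) :
    mat g *ᵥ inW w = inW w + (-hh q w (cQ fr g)) • fr.v := by
  obtain ⟨k, hk⟩ := hg.2 (inW w) (h_inW_v hF fr w)
  have h := h_mat g (inW w) fr.u
  rw [hk, gu_eq hF fr hg, h_inW_u hF fr] at h
  simp only [h_add_left, h_add_right hF, h_smul_left, h_smul_right hF, fr.hvv,
    hvu hF fr, h_inW_u hF fr, h_inW_v hF fr, h_v_inW hF fr, h_inW] at h
  rw [hk, show k = -hh q w (cQ fr g) by linear_combination h]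

theorem q_ext {g g' : SUG (m + 2) F q} (hg : IsQ fr.v g) (hg' : IsQ fr.v g')
    (hc : cQ fr g = cQ fr g') (hb : bQ fr g = bQ fr g') : g = g' := by
  refine mat_ext fun x => ?_
  rw [mulVec_decomp hF fr (mat g), mulVec_decomp hF fr (mat g'), gu_eq hF fr hg, gu_eq hF fr hg',
    mulVec_inW_of_isQ hF fr hg, mulVec_inW_of_isQ hF fr hg', hg.1, hg'.1, hc, hb]

theorem q_mul {g g' : SUG (m + 2) F q} (hg : IsQ fr.v g) (hg' : IsQ fr.v g') :
    cQ fr (g * g') = cQ fr g + cQ fr g' ∧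
      bQ fr (g * g') = bQ fr g + bQ fr g' - hh q (cQ fr g') (cQ fr g) := by
  have e : mat (g * g') *ᵥ fr.u = fr.u + inW (cQ fr g + cQ fr g') +
      (bQ fr g + bQ fr g' - hh q (cQ fr g') (cQ fr g)) • fr.v := by
    rw [mat_mul, ← mulVec_mulVec, gu_eq hF fr hg', mulVec_add, mulVec_add, mulVec_smul,
      gu_eq hF fr hg, mulVec_inW_of_isQ hF fr hg, hg.1, inW_add]
    module
  constructor
  · rw [cQ, e, wp_add, wp_add, wp_smul, wp_inW, fr.hu, fr.hv]
    simp
  · rw [bQ, e, h_add_left, h_add_left, h_smul_left, fr.huu, h_inW_u hF fr, hvu hF fr]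
    ring

theorem q_tmat {s : F} (hs : tau hF s = -s) :
    cQ fr (tmat q fr.v s) = 0 ∧ bQ fr (tmat q fr.v s) = s := by
  constructor
  · rw [cQ, tmat_apply hF fr.hvv hs, wp_add, wp_smul, fr.hu, fr.hv]; simp
  · rw [bQ, tmat_apply hF fr.hvv hs, h_add_left, h_smul_left, fr.huu, fr.huv, hvu hF fr]; ring

theorem exists_q (w : Vec m F) {b : F} (hb : b + tau hF b + hh q w w = 0) :
    ∃ g : SUG (m + 2) F q, IsQ fr.v g ∧ cQ fr g = w ∧ bQ fr g = b := by
  obtain ⟨g, hg, hgx⟩ := exists_eichler hF fr.hvv (h_inW_v hF fr w) (a := b)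
    (by rw [h_inW]; exact hb)
  refine ⟨g, hg, ?_, ?_⟩
  · rw [cQ, hgx, fr.huv, one_smul, h_u_inW hF fr, wp_add, wp_add, wp_smul, wp_inW, fr.hu, fr.hv]
    simp
  · rw [bQ, hgx, fr.huv, one_smul, h_u_inW hF fr, h_add_left, h_add_left, h_smul_left, fr.huu,
      h_inW_u hF fr, hvu hF fr]
    ring

theorem exists_q' (w : Vec m F) : ∃ g : SUG (m + 2) F q, IsQ fr.v g ∧ cQ fr g = w := by
  obtain ⟨b, hb⟩ := exists_trace hF (b := -hh q w w) (by rw [map_neg, h_self_fixed hF])
  obtain ⟨g, hg, hc, -⟩ := exists_q hF fr w (b := b) (by rw [hb]; ring)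
  exact ⟨g, hg, hc⟩

theorem eq_tmat_of_cQ_eq_zero {g : SUG (m + 2) F q} (hg : IsQ fr.v g) (hc : cQ fr g = 0) :
    tau hF (bQ fr g) = -bQ fr g ∧ g = tmat q fr.v (bQ fr g) := by
  have hs : tau hF (bQ fr g) = -bQ fr g := by
    have := bQ_rel hF fr hg
    rw [hc, h_zero_left] at this
    linear_combination this
  exact ⟨hs, q_ext hF fr hg (isQ_tmat hF fr.hvv hs) (hc.trans (q_tmat hF fr hs).1.symm)
    (q_tmat hF fr hs).2.symm⟩

theorem p_elem_fix {n : ℕ} {p : ℕ} [Fact p.Prime] [CharP F p] {P : Sylow p (SUG n F q)}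
    {g : SUG n F q} (hg : g ∈ P) {v : Vec n F} (hv : v ≠ 0) {c : F} (h : mat g *ᵥ v = c • v) :
    mat g *ᵥ v = v := by
  obtain ⟨k, hk⟩ := P.isPGroup' ⟨g, hg⟩
  have hk' : g ^ p ^ k = 1 := congrArg Subtype.val hk
  have hi : ∀ i : ℕ, mat (g ^ i) *ᵥ v = c ^ i • v := fun i => by
    induction i with
    | zero => simp [mat_one]
    | succ i ih => rw [pow_succ, mat_mul, ← mulVec_mulVec, h, mulVec_smul, ih, smul_smul, pow_succ']
  have e := hi (p ^ k)
  rw [hk', mat_one, one_mulVec] at e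
  have hck : c ^ p ^ k = 1 := smul_left_injective F hv (by simpa using e.symm)
  have hc : c = 1 := (iterateFrobenius_inj F p k)
    (by rw [iterateFrobenius_def, iterateFrobenius_def, hck, one_pow])
  rw [h, hc, one_smul]

/-- An automorphism stabilizing the root group of `v` stabilizes the radical. -/
theorem isQ_image (hm : 1 ≤ m) {β : MulAut (PSUG (m + 2) F q)} (hβ : Img hF β fr.v fr.v)
    {g : SUG (m + 2) F q} (hg : IsQ fr.v g) :
    ∃ g', IsQ fr.v g' ∧ β (QuotientGroup.mk g) = QuotientGroup.mk g' := by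
  classical
  obtain ⟨p, hp⟩ := CharP.exists F
  have : Fact p.Prime := ⟨CharP.char_is_prime F p⟩
  have hv0 := v_ne_zero hF fr
  -- the image lies in every Sylow subgroup fixing `v`
  have hall : ∀ P : Sylow p (SUG (m + 2) F q), (∀ h ∈ P, mat h *ᵥ fr.v = fr.v) →
      β (QuotientGroup.mk g) ∈ barSylow P := by
    intro P hP
    obtain ⟨k, hk⟩ := MulAction.exists_smul_eq (PSUG (m + 2) F q) (barSylow P) (β⁻¹ • barSylow P)
    obtain ⟨a, rfl⟩ := QuotientGroup.mk_surjective k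
    have hin : ∀ h ∈ P, β (QuotientGroup.mk (a * h * a⁻¹) : PSUG (m + 2) F q) ∈ barSylow P := by
      intro h hh'
      have h1 : MulAut.conj (QuotientGroup.mk a : PSUG (m + 2) F q) (QuotientGroup.mk h) ∈
          ((QuotientGroup.mk a : PSUG (m + 2) F q) • barSylow P : Sylow p (PSUG (m + 2) F q)) :=
        Subgroup.smul_mem_pointwise_smul _ (MulAut.conj (QuotientGroup.mk a : PSUG (m + 2) F q))
          _ (mem_barSylow.mpr ⟨h, hh', rfl⟩)
      rw [hk] at h1
      have h2 := Subgroup.mem_pointwise_smul_iff_inv_smul_mem.mp h1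
      rw [inv_inv] at h2
      rw [MulAut.conj_apply, ← QuotientGroup.mk_inv, ← QuotientGroup.mk_mul, ← QuotientGroup.mk_mul] at h2
      exact h2
    let P' : Sylow p (SUG (m + 2) F q) :=
      P.mapSurjective (f := (MulAut.conj a).toMonoidHom) (MulAut.conj a).surjective
    have hP' : ∀ h ∈ P', mat h *ᵥ fr.v = fr.v := by
      rintro _ ⟨h, hh', rfl⟩
      obtain ⟨h', hh'', e⟩ := mem_barSylow.mp (hin h hh')
      have hi := img_mulVec hF fr.hvv hβ (g := a * h * a⁻¹) (g' := h') e.symm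
      rw [hP h' hh''] at hi
      have hne : mat (a * h * a⁻¹) *ᵥ fr.v ≠ 0 := fun e0 => hv0 (by
        have := congrArg (mat (a * h * a⁻¹)⁻¹ *ᵥ ·) e0
        simpa only [inv_mat_mulVec, mulVec_zero] using this)
      have hiso : hh q (mat (a * h * a⁻¹) *ᵥ fr.v) (mat (a * h * a⁻¹) *ᵥ fr.v) = 0 :=
        (h_mat _ _ _).trans fr.hvv
      obtain ⟨c, hc0, hc⟩ := img_unique hF fr.hvv hv0 (img_inv hF fr.hvv hv0 hβ)
        (img_inv hF hiso hne hi)
      exact p_elem_fix (P := P') hF ⟨h, hh', rfl⟩ hv0 hc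
    obtain ⟨h, hh', e⟩ := (radQ_le_of_fixing hF P' hP' (mem_radQ.mpr hg) :)
    rw [← e]
    exact hin h hh'
  obtain ⟨P0, hP0⟩ := exists_sylow_fixing (p := p) hF (by omega) fr.hvv hv0
  obtain ⟨g', hg'P, hg'⟩ := mem_barSylow.mp (hall P0 hP0)
  refine ⟨g', ?_, hg'.symm⟩
  -- `g'` lies in the intersection of all these Sylow subgroups
  let R : Subgroup (SUG (m + 2) F q) :=
    ⨅ P : {P : Sylow p (SUG (m + 2) F q) // ∀ h ∈ P, mat h *ᵥ fr.v = fr.v}, (P.1 : Subgroup _)
  have hR : ∀ h, h ∈ R ↔ ∀ P : Sylow p (SUG (m + 2) F q), (∀ k ∈ P, mat k *ᵥ fr.v = fr.v) → h ∈ P :=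
    fun h => by simp only [R, Subgroup.mem_iInf, Subtype.forall]; exact Iff.rfl
  have hg'R : g' ∈ R := (hR g').mpr fun P hP => by
    obtain ⟨g'', hg''P, hg''⟩ := mem_barSylow.mp (hall P hP)
    rw [← eq_of_mk_eq hF hv0 (hP g'' hg''P) (hP0 g' hg'P) (hg''.trans hg'.symm)]
    exact hg''P
  have hRfix : ∀ h ∈ R, mat h *ᵥ fr.v = fr.v := fun h hh' => hP0 h ((hR h).mp hh' P0 hP0)
  have hRW : ∀ h ∈ R, ∀ x, hh q x fr.v = 0 → hh q (mat h *ᵥ x) fr.v = 0 := fun h hh' x hx => by
    rw [← hRfix h hh', h_mat, hx]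
  have hRinW : ∀ h ∈ R, ∀ w : Vec m F, ∃ c : F, mat h *ᵥ inW w = inW (wp (mat h *ᵥ inW w)) + c • fr.v := by
    intro h hh' w
    refine ⟨hh q (mat h *ᵥ inW w) fr.u, ?_⟩
    conv_lhs => rw [decomp hF fr (mat h *ᵥ inW w)]
    rw [hRW h hh' _ (h_inW_v hF fr w), zero_smul, zero_add]
    exact add_comm _ _
  let act : MulAction R (Vec m F) :=
    { smul := fun h w => wp (mat h.1 *ᵥ inW w)
      one_smul := fun w => by
        show wp (mat (1 : SUG (m + 2) F q) *ᵥ inW w) = w
        rw [mat_one, one_mulVec, wp_inW]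
      mul_smul := fun h h' w => by
        show wp (mat (h.1 * h'.1) *ᵥ inW w) = wp (mat h.1 *ᵥ inW (wp (mat h'.1 *ᵥ inW w)))
        obtain ⟨c, hc⟩ := hRinW h'.1 h'.2 w
        rw [mat_mul, ← mulVec_mulVec]
        conv_lhs => rw [hc, mulVec_add, mulVec_smul, hRfix h.1 h.2, wp_add, wp_smul, fr.hv, smul_zero,
          add_zero] }
  let U : Submodule F (Vec m F) :=
    { carrier := {w | ∀ h ∈ R, wp (mat h *ᵥ inW w) = w}
      add_mem' := fun {w w'} hw hw' h hh' => by rw [inW_add, mulVec_add, wp_add, hw h hh', hw' h hh']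
      zero_mem' := fun h _ => by rw [inW_zero, mulVec_zero]; rfl
      smul_mem' := fun c w hw h hh' => by rw [inW_smul, mulVec_smul, wp_smul, hw h hh'] }
  have hinv : ∀ (A : GUG (m + 2) F q), (A.1 : Mat (m + 2) F) *ᵥ fr.v = fr.v → ∀ w w' : Vec m F,
      (A.1 : Mat (m + 2) F) *ᵥ inW w = inW w' → w ∈ U → w' ∈ U := by
    intro A hA w w' hAw hw h hh'
    have hh'' : suConj A⁻¹ h ∈ R := (hR _).mpr fun P hP => by
      let P'' : Sylow p (SUG (m + 2) F q) :=
        P.mapSurjective (f := (suConj A).toMonoidHom) (suConj A).surjective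
      obtain ⟨h₀, hh₀, e⟩ := ((hR h).mp hh' P'' (by
        rintro _ ⟨k, hk, rfl⟩
        show mat (suConj A k) *ᵥ fr.v = fr.v
        rw [suConj_mat, ← mulVec_mulVec, ← mulVec_mulVec]
        nth_rw 1 [← hA]
        rw [gl_inv_mulVec, hP k hk, hA]) :)
      rw [← e, map_inv]
      show (suConj A)⁻¹ (suConj A h₀) ∈ P
      rwa [MulAut.inv_apply_self]
    obtain ⟨c, hc⟩ := hRinW _ hh'' w
    rw [hw _ hh''] at hc
    have e : mat h *ᵥ inW w' = inW w' + c • fr.v := by
      have h3 := congrArg ((A.1 : Mat (m + 2) F) *ᵥ ·) hc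
      simp only [suConj_mat, ← mulVec_mulVec, Subgroup.coe_inv, inv_inv, gl_mulVec_inv, mulVec_add,
        mulVec_smul, hAw, hA] at h3
      exact h3
    rw [e, wp_add, wp_smul, fr.hv, wp_inW, smul_zero, add_zero]
  obtain ⟨w0, hw0, hw00⟩ : ∃ w0 : Vec m F, w0 ∈ U ∧ w0 ≠ 0 := by
    have hRp : IsPGroup p R := P0.isPGroup'.to_le fun h hh' => (hR h).mp hh' P0 hP0
    obtain ⟨f, -, hq⟩ := FiniteField.card F p
    have hcard : p ∣ Nat.card (Vec m F) := by
      rw [Nat.card_eq_fintype_card, Fintype.card_fun, Fintype.card_fin, hq]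
      exact dvd_pow (dvd_pow_self p f.pos.ne') (by omega)
    obtain ⟨w0, hw0, hne⟩ := hRp.exists_fixed_point_of_prime_dvd_card_of_fixed_point (Vec m F) hcard
      (a := 0) (fun h => by
        show wp (mat h.1 *ᵥ inW 0) = 0
        rw [inW_zero, mulVec_zero]; rfl)
    exact ⟨w0, fun h hh' => hw0 ⟨h, hh'⟩, hne.symm⟩
  obtain ⟨ρ, hρ, hρ2⟩ := exists_norm_one_sq_ne hF
  have hρ1 : ρ ≠ 1 := fun e => hρ2 (by rw [e, one_mul])
  obtain ⟨i, hi⟩ : ∃ i, w0 i ≠ 0 := by
    by_contra h; push Not at h; exact hw00 (funext h)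
  have hei : (Pi.single i (1 : F) : Vec m F) ∈ U := by
    let d : Fin m → F := fun j => if j = i then ρ else 1
    let M : Vec m F →ₗ[F] Vec (m + 2) F :=
      { toFun := fun w => inW (fun j => d j * w j)
        map_add' := fun w w' => by rw [← inW_add]; congr 1; funext j; simp [mul_add]
        map_smul' := fun c w => by rw [← inW_smul]; congr 1; funext j; simp [mul_left_comm] }
    obtain ⟨A, -, hAv, hAw⟩ := exists_gu_frame hF fr fr.u fr.v M fr.huu fr.hvv fr.huv
      (fun w => h_inW_u hF fr _) (fun w => h_inW_v hF fr _) (fun w w' => by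
        show hh q (inW _) (inW _) = _
        rw [h_inW, hh, hh, Cfsg.hermForm, Cfsg.hermForm]
        refine Finset.sum_congr rfl fun j _ => ?_
        rw [mul_pow]
        by_cases hj : j = i
        · simp only [d, hj, if_true]; rw [pow_succ'] at hρ; linear_combination (w i * w' i ^ q) * hρ
        · simp [d, hj])
    have h1 := U.sub_mem (hinv A hAv w0 _ (hAw w0) hw0) hw0
    have e : (fun j => d j * w0 j) - w0 = ((ρ - 1) * w0 i) • (Pi.single i (1 : F) : Vec m F) := by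
      funext j
      by_cases hj : j = i
      · subst hj; simp [d, sub_mul]
      · simp [d, hj]
    rw [e] at h1
    exact (Submodule.smul_mem_iff U (mul_ne_zero (sub_ne_zero.mpr hρ1) hi)).mp h1
  have hall' : ∀ j, (Pi.single j (1 : F) : Vec m F) ∈ U := by
    intro j
    let M : Vec m F →ₗ[F] Vec (m + 2) F :=
      { toFun := fun w => inW (fun k => w (Equiv.swap i j k))
        map_add' := fun w w' => by rw [← inW_add]; rfl
        map_smul' := fun c w => by rw [← inW_smul]; rfl }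
    obtain ⟨A, -, hAv, hAw⟩ := exists_gu_frame hF fr fr.u fr.v M fr.huu fr.hvv fr.huv
      (fun w => h_inW_u hF fr _) (fun w => h_inW_v hF fr _) (fun w w' => by
        show hh q (inW _) (inW _) = _
        rw [h_inW, hh, hh, Cfsg.hermForm, Cfsg.hermForm]
        exact Equiv.sum_comp (Equiv.swap i j) (fun k => w k * w' k ^ q))
    refine hinv A hAv _ _ ?_ hei
    rw [hAw]
    show inW _ = inW _
    congr 1
    funext k
    simp only [Pi.single_apply, Equiv.swap_apply_def]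
    split_ifs <;> simp_all
  have htop : ∀ w, w ∈ U := fun w => by
    rw [← Finset.univ_sum_single w]
    refine U.sum_mem fun j _ => ?_
    rw [show (Pi.single j (w j) : Vec m F) = w j • Pi.single j 1 by
      rw [← Pi.single_smul', smul_eq_mul, mul_one]]
    exact U.smul_mem _ (hall' j)
  refine ⟨hRfix g' hg'R, fun x hx => ?_⟩
  obtain ⟨c, hc⟩ := hRinW g' hg'R (wp x)
  rw [htop (wp x) g' hg'R] at hc
  refine ⟨c, ?_⟩
  conv_lhs => rw [decomp hF fr x, hx, zero_smul, zero_add, mulVec_add, mulVec_smul, hRfix g' hg'R, hc]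
  conv_rhs => arg 1; rw [decomp hF fr x, hx, zero_smul, zero_add]
  abel

end hFsec

end CfsgLib.AutPSU
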