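import Cfsg.Agent.Lib.AutPSL.BalanceGraph

/-!
Representations of the isometry group of a symplectic form: an odd order group normalised by the image
centralises it; semisimilitudes centralising the image are scalar.
-/

set_option autoImplicit false

namespace CfsgLib.Refl

open Matrix CfsgLib.FieldGalois

variable {F : Type*} [Field F] [Fintype F] {n : ℕ}

theorem mem_isoG_of_mat {σ : F ≃+* F} {H : Matrix (Fin n) (Fin n) F} {h : GL (Fin n) F}
    (e : (h : Matrix (Fin n) (Fin n) F)ᵀ * H * (h : Matrix (Fin n) (Fin n) F).map σ = H) :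
    h ∈ isoG σ H := by
  intro u v
  have h1 := CfsgLib.AutPSL.sesq_semi σ 1 (fun a => rfl) H h 1 (by
    rw [one_smul, e]; exact Matrix.ext fun i j => rfl) u v
  simpa using h1

theorem scalar_mulVec (u : Fˣ) (x : Fin n → F) :
    ((Matrix.GeneralLinearGroup.scalar (Fin n) u : GL (Fin n) F) : Matrix (Fin n) (Fin n) F) *ᵥ x =
      (u : F) • x := by
  simp [← Matrix.smul_one_eq_diagonal, Matrix.smul_mulVec]

/-- A parametrisation of the isometries of a symplectic form by the standard symplectic group. -/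
theorem exists_sp_param (S : GL (Fin n) F) (h2 : (2 : F) ≠ 0)
    (hS : (S : Matrix (Fin n) (Fin n) F)ᵀ = -S) :
    ∃ (m : ℕ) (Φ : AutPSp.SpG m F →* isoG (1 : F ≃+* F) (S : Matrix (Fin n) (Fin n) F)),
      n = m + m ∧ Function.Surjective Φ ∧
      (∀ A, ((Φ A : GL (Fin n) F) : Matrix (Fin n) (Fin n) F).det = 1) ∧
      ∀ A, (∃ u : Fˣ, (Φ A : GL (Fin n) F) = Matrix.GeneralLinearGroup.scalar (Fin n) u) ↔
        A ∈ Subgroup.center (AutPSp.SpG m F) := by
  classical
  obtain ⟨m, e, P, hP⟩ := CfsgLib.AutPSL.exists_symp_congr S⁻¹ h2 (CfsgLib.AutPSL.skew_inv hS)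
  rw [inv_inv] at hP
  have hnm : n = m + m := by
    have := Fintype.card_congr e
    simp at this
    omega
  set M := (S : Matrix (Fin n) (Fin n) F) with hM
  let R := Matrix.reindexAlgEquiv F F e
  have hJ : Matrix.reindex e e (Matrix.J (Fin m) F) = R (Matrix.J (Fin m) F) := rfl
  let Q : GL (Fin m ⊕ Fin m) F →* GL (Fin n) F := Units.map R.toMonoidHom
  let incl : AutPSp.SpG m F →* GL (Fin m ⊕ Fin m) F :=
    (Matrix.symplecticGroup (Fin m) F).subtype.toHomUnits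
  have hcoe : ∀ A, ((P * Q (incl A) * P⁻¹ : GL (Fin n) F) : Matrix (Fin n) (Fin n) F) =
      (P : Matrix (Fin n) (Fin n) F) * R A.1 * (P⁻¹ : GL (Fin n) F).1 := fun A => rfl
  have hM' : M = ((P⁻¹ : GL (Fin n) F).1)ᵀ * R (Matrix.J (Fin m) F) * (P⁻¹ : GL (Fin n) F).1 := by
    rw [← hJ, ← hP]
    simp only [Matrix.mul_assoc, ← Units.val_mul, mul_inv_cancel, Units.val_one, mul_one]
    rw [← Matrix.mul_assoc, ← Matrix.transpose_mul, ← Units.val_mul, mul_inv_cancel, Units.val_one,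
      Matrix.transpose_one, one_mul]
  have hiso : ∀ A : Matrix (Fin m ⊕ Fin m) (Fin m ⊕ Fin m) F,
      ((P : Matrix (Fin n) (Fin n) F) * R A * (P⁻¹ : GL (Fin n) F).1)ᵀ * M *
          ((P : Matrix (Fin n) (Fin n) F) * R A * (P⁻¹ : GL (Fin n) F).1) =
        ((P⁻¹ : GL (Fin n) F).1)ᵀ * R (Aᵀ * Matrix.J (Fin m) F * A) * (P⁻¹ : GL (Fin n) F).1 := by
    intro A
    rw [map_mul, map_mul, ← hJ, ← hP, show R Aᵀ = (R A)ᵀ from rfl, Matrix.transpose_mul,
      Matrix.transpose_mul]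
    simp only [Matrix.mul_assoc]
  have hmem : ∀ A, P * Q (incl A) * P⁻¹ ∈ isoG (1 : F ≃+* F) M := by
    intro A
    refine mem_isoG_of_mat ?_
    show ((P * Q (incl A) * P⁻¹ : GL (Fin n) F) : Matrix (Fin n) (Fin n) F)ᵀ * M *
      ((P * Q (incl A) * P⁻¹ : GL (Fin n) F) : Matrix (Fin n) (Fin n) F) = M
    rw [hcoe, hiso, SymplecticGroup.mem_iff'.mp A.2, ← hM']
  let Φ : AutPSp.SpG m F →* isoG (1 : F ≃+* F) M :=
    (((MulAut.conj P).toMonoidHom.comp (Q.comp incl))).codRestrict _ hmem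
  refine ⟨m, Φ, hnm, ?_, fun A => ?_, fun A => ?_⟩
  · rintro ⟨t, ht⟩
    have hmat := CfsgLib.AutPSL.mat_of_iso ht
    let A0 : Matrix (Fin m ⊕ Fin m) (Fin m ⊕ Fin m) F :=
      R.symm ((P⁻¹ : GL (Fin n) F).1 * (t : Matrix (Fin n) (Fin n) F) * P)
    have hA0t : (P : Matrix (Fin n) (Fin n) F) * R A0 * (P⁻¹ : GL (Fin n) F).1 = (t : Matrix (Fin n) (Fin n) F) := by
      rw [AlgEquiv.apply_symm_apply]
      simp only [← Units.val_mul]
      congr 1
      group
    have hA0 : A0 ∈ Matrix.symplecticGroup (Fin m) F := by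
      refine SymplecticGroup.mem_iff'.mpr (R.injective ?_)
      have hu := (P⁻¹ : GL (Fin n) F).isUnit
      refine ((Matrix.isUnit_iff_isUnit_det _).mpr (by
        rw [Matrix.det_transpose]; exact (Matrix.isUnit_iff_isUnit_det _).mp hu) :
          IsUnit ((P⁻¹ : GL (Fin n) F).1)ᵀ).mul_left_cancel (hu.mul_right_cancel ?_)
      rw [← hiso, ← hM', hA0t]
      exact hmat
    exact ⟨⟨A0, hA0⟩, Subtype.ext (Units.ext hA0t)⟩
  · show ((P : Matrix (Fin n) (Fin n) F) * R A.1 * (P⁻¹ : GL (Fin n) F).1).det = 1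
    rw [CfsgLib.AutPSL.det_gl_conj, Matrix.det_reindexAlgEquiv, SymplecticGroup.det_eq_one A.2]
  · rw [CfsgLib.Sp.mem_center_iff]
    constructor
    · rintro ⟨u, hu⟩
      have h3 : R A.1 = Matrix.scalar (Fin n) (u : F) := by
        have h4 : P * Q (incl A) * P⁻¹ = Matrix.GeneralLinearGroup.scalar (Fin n) u := hu
        have h5 : Q (incl A) = Matrix.GeneralLinearGroup.scalar (Fin n) u := by
          rw [mul_inv_eq_iff_eq_mul, CfsgLib.AutPSL.scalar_mul_comm] at h4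
          exact mul_left_cancel h4
        exact congrArg Units.val h5
      have h5 : A.1 = Matrix.scalar (Fin m ⊕ Fin m) (u : F) := by
        apply R.injective
        rw [h3]
        ext a b
        simp [R, Matrix.diagonal_apply]
      rcases Nat.eq_zero_or_pos m with hm0 | hm
      · subst hm0
        exact Or.inl (Subsingleton.elim _ _)
      have hu1 : (u : F) * u = 1 := by
        have h6 := congrFun (congrFun (SymplecticGroup.mem_iff'.mp A.2) (.inl ⟨0, hm⟩)) (.inr ⟨0, hm⟩)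
        rw [h5] at h6
        simp [Matrix.J, Matrix.mul_apply, Matrix.diagonal_apply] at h6
        linear_combination h6
      rcases mul_self_eq_one_iff.mp hu1 with h | h
      · exact Or.inl (by rw [h5, h, map_one])
      · exact Or.inr (by rw [h5, h, map_neg, map_one])
    · intro h
      obtain ⟨u, hu⟩ : ∃ u : Fˣ, A.1 = Matrix.scalar _ (u : F) := by
        rcases h with h | h
        · exact ⟨1, by rw [h, Units.val_one, map_one]⟩
        · exact ⟨-1, by rw [h, Units.val_neg, Units.val_one, map_neg, map_one]⟩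
      refine ⟨u, ?_⟩
      have h5 : Q (incl A) = Matrix.GeneralLinearGroup.scalar (Fin n) u := by
        apply Units.ext
        show R A.1 = Matrix.scalar (Fin n) (u : F)
        rw [hu]; ext a b; simp [R, Matrix.diagonal_apply]
      show P * Q (incl A) * P⁻¹ = _
      rw [h5, ← CfsgLib.AutPSL.scalar_mul_comm, mul_inv_cancel_right]

variable {Γ : Type*} [Group Γ] {S : GL (Fin n) F}

/-- An odd order group normalised by the image of the symplectic group centralises it. -/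
theorem sp_centralizes (hn : 3 ≤ n) (h2 : (2 : F) ≠ 0)
    (hS : (S : Matrix (Fin n) (Fin n) F)ᵀ = -S)
    (ρ : isoG (1 : F ≃+* F) (S : Matrix (Fin n) (Fin n) F) →* Γ)
    (hρ : ∀ g, ρ g = 1 ↔ ∃ u : Fˣ, (g : GL (Fin n) F) = Matrix.GeneralLinearGroup.scalar (Fin n) u)
    (M : Subgroup Γ) (hodd : Odd (Nat.card M)) (hnorm : ∀ t, ∀ y ∈ M, ρ t * y * (ρ t)⁻¹ ∈ M)
    (himg : ∀ y ∈ M, ∀ t, ∃ t', y * ρ t * y⁻¹ = ρ t') :
    ∀ y ∈ M, ∀ t, y * ρ t = ρ t * y := by
  classical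
  obtain ⟨m, Φ, hnm, hsurj, -, hsc⟩ := exists_sp_param S h2 hS
  set N := M.comap (ρ.comp Φ) with hN
  have hNn : N.Normal := ⟨fun a ha b => by
    show ρ (Φ (b * a * b⁻¹)) ∈ M
    rw [map_mul, map_mul, map_inv, map_mul, map_mul, map_inv]
    exact hnorm _ _ ha⟩
  have hNc : N ≤ Subgroup.center (AutPSp.SpG m F) := by
    by_contra hne
    have hdvd : 2 ∣ Nat.card (AutPSp.SpG m F) := by
      set J0 : AutPSp.SpG m F := ⟨_, SymplecticGroup.J_mem (Fin m) F⟩
      have hJ4 : J0 ^ 4 = 1 := by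
        apply Subtype.ext
        rw [SubmonoidClass.coe_pow]
        show (Matrix.J (Fin m) F) ^ 4 = 1
        rw [show (4 : ℕ) = 2 * 2 from rfl, pow_mul, pow_two (Matrix.J (Fin m) F), Matrix.J_squared]
        simp [pow_two]
      have hJ1 : orderOf J0 ≠ 1 := fun h => by
        rw [orderOf_eq_one_iff] at h
        have := congrFun (congrFun (congrArg Subtype.val h) (.inl ⟨0, by omega⟩)) (.inl ⟨0, by omega⟩)
        simp [J0, Matrix.J] at this
      obtain ⟨i, -, hi⟩ := (Nat.dvd_prime_pow Nat.prime_two).mp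
        (show orderOf J0 ∣ 2 ^ 2 from orderOf_dvd_of_pow_eq_one hJ4)
      exact (dvd_pow_self 2 (show i ≠ 0 from fun h => hJ1 (by rw [hi, h, pow_zero]))).trans
        (hi ▸ orderOf_dvd_natCard J0)
    obtain ⟨y, hy, hy1, hyp⟩ := CfsgLib.AutPSp.exists_order_of_normal (p := 2) (by omega)
      (fun h => absurd h h2) hdvd N hne
    set z : M := ⟨ρ (Φ y), hy⟩
    have hz2 : z ^ 2 = 1 := Subtype.ext (by
      show ρ (Φ y) ^ 2 = 1
      rw [← map_pow, ← map_pow, hρ]
      exact (hsc _).mpr ((QuotientGroup.eq_one_iff _).mp ((QuotientGroup.mk_pow _ y 2).trans hyp)))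
    have hz : z = 1 := orderOf_eq_one_iff.mp (Nat.eq_one_of_dvd_coprimes
      (Nat.coprime_two_left.mpr hodd) (orderOf_dvd_of_pow_eq_one hz2) (orderOf_dvd_natCard z))
    exact hy1 ((QuotientGroup.eq_one_iff _).mpr ((hsc y).mp ((hρ _).mp (congrArg Subtype.val hz))))
  intro y hy t
  obtain ⟨t', ht'⟩ := himg y hy t
  obtain ⟨A, hA⟩ := hsurj (t' * t⁻¹)
  have hAM : A ∈ N := by
    show ρ (Φ A) ∈ M
    rw [hA, map_mul, map_inv, ← ht', mul_assoc y, mul_assoc y]
    exact M.mul_mem hy (hnorm _ _ (M.inv_mem hy))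
  have h1 := (hρ _).mpr ((hsc A).mpr (hNc hAM))
  rw [hA, map_mul, map_inv, mul_inv_eq_one] at h1
  rw [h1, mul_inv_eq_iff_eq_mul] at ht'
  exact ht'

/-- The transvection `x ↦ x + B(x,v) v`. -/
def tvMat (S : Matrix (Fin n) (Fin n) F) (v : Fin n → F) : Matrix (Fin n) (Fin n) F :=
  1 + vecMulVec v (S *ᵥ v)

theorem tvMat_mulVec (S : Matrix (Fin n) (Fin n) F) (v x : Fin n → F) :
    tvMat S v *ᵥ x = x + sesq (1 : F ≃+* F) S x v • v := by
  rw [tvMat, Matrix.add_mulVec, Matrix.one_mulVec, Matrix.vecMulVec_mulVec, op_smul_eq_smul,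
    dotProduct_comm (S *ᵥ v)]
  rfl

/-- A semisimilitude centralising the image of the symplectic group fixes all lines. -/
theorem sp_scalar_of_commute (hn : 3 ≤ n) (h2 : (2 : F) ≠ 0)
    (hS : (S : Matrix (Fin n) (Fin n) F)ᵀ = -S)
    (ρ : isoG (1 : F ≃+* F) (S : Matrix (Fin n) (Fin n) F) →* Γ)
    (hρ : ∀ g, ρ g = 1 ↔ ∃ u : Fˣ, (g : GL (Fin n) F) = Matrix.GeneralLinearGroup.scalar (Fin n) u)
    (h0 : GL (Fin n) F) (τ : F ≃+* F) (c : F) (hc : c ≠ 0)
    (hsim : ∀ x y : Fin n → F, sesq (1 : F ≃+* F) (S : Matrix (Fin n) (Fin n) F)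
      ((h0 : Matrix (Fin n) (Fin n) F) *ᵥ (τ ∘ x)) ((h0 : Matrix (Fin n) (Fin n) F) *ᵥ (τ ∘ y)) =
        c * τ (sesq (1 : F ≃+* F) (S : Matrix (Fin n) (Fin n) F) x y))
    (h : ∀ t t' : isoG (1 : F ≃+* F) (S : Matrix (Fin n) (Fin n) F),
      (t' : GL (Fin n) F) = h0 * Matrix.GeneralLinearGroup.map τ.toRingHom t * h0⁻¹ → ρ t' = ρ t) :
    (∃ u : Fˣ, h0 = Matrix.GeneralLinearGroup.scalar (Fin n) u) ∧ τ = 1 := by
  classical
  set B := sesq (1 : F ≃+* F) (S : Matrix (Fin n) (Fin n) F) with hB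
  have halt : ∀ x y, B x y = -B y x := by
    intro x y
    show x ⬝ᵥ (S : Matrix (Fin n) (Fin n) F) *ᵥ y = -(y ⬝ᵥ (S : Matrix (Fin n) (Fin n) F) *ᵥ x)
    rw [dotProduct_mulVec, ← Matrix.mulVec_transpose, hS, Matrix.neg_mulVec, neg_dotProduct,
      dotProduct_comm]
  have hself : ∀ x, B x x = 0 := fun x => by
    have := halt x x
    exact (mul_eq_zero.mp (show (2 : F) * B x x = 0 by linear_combination this)).resolve_left h2
  refine eq_scalar_of_all_lines (by omega) h0 τ fun v => ?_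
  by_cases hv : v = 0
  · exact ⟨0, by subst hv; funext k; simp [Matrix.mulVec, dotProduct]⟩
  have hdet : (tvMat (S : Matrix (Fin n) (Fin n) F) v).det ≠ 0 := by
    rw [tvMat, Matrix.vecMulVec_eq Unit, Matrix.det_one_add_replicateCol_mul_replicateRow,
      show ((S : Matrix (Fin n) (Fin n) F) *ᵥ v) ⬝ᵥ v = B v v from dotProduct_comm _ _, hself, add_zero]
    exact one_ne_zero
  set T : GL (Fin n) F := Matrix.GeneralLinearGroup.mkOfDetNeZero _ hdet with hT
  have hTm : ∀ x, (T : Matrix (Fin n) (Fin n) F) *ᵥ x = x + B x v • v := tvMat_mulVec _ v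
  have hTiso : T ∈ isoG (1 : F ≃+* F) (S : Matrix (Fin n) (Fin n) F) := by
    intro x y
    rw [hTm, hTm, sesq_add_left, sesq_add_right, sesq_add_right, sesq_smul_left, sesq_smul_left,
      sesq_smul_right, sesq_smul_right]
    simp only [RingAut.one_apply, ← hB, hself, halt v y]
    ring
  set w := (h0 : Matrix (Fin n) (Fin n) F) *ᵥ (τ ∘ v) with hw
  set T' := h0 * Matrix.GeneralLinearGroup.map τ.toRingHom T * h0⁻¹ with hT'
  have hmap : ∀ (A : GL (Fin n) F) (x : Fin n → F),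
      ((Matrix.GeneralLinearGroup.map τ.toRingHom A : GL (Fin n) F) : Matrix (Fin n) (Fin n) F) *ᵥ (τ ∘ x) =
        τ ∘ ((A : Matrix (Fin n) (Fin n) F) *ᵥ x) := fun A x => by
    funext i; simp [Matrix.mulVec, dotProduct, map_sum, map_mul]
  have hT'm : ∀ x, (T' : Matrix (Fin n) (Fin n) F) *ᵥ x = x + (c⁻¹ * B x w) • w := by
    intro x
    obtain ⟨z, rfl⟩ : ∃ z, (h0 : Matrix (Fin n) (Fin n) F) *ᵥ (τ ∘ z) = x :=
      ⟨τ.symm ∘ (((h0⁻¹ : GL (Fin n) F) : Matrix (Fin n) (Fin n) F) *ᵥ x), by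
        rw [← Function.comp_assoc, show (τ : F → F) ∘ τ.symm = id from funext fun a => τ.apply_symm_apply a,
          Function.id_comp, Matrix.mulVec_mulVec, ← Units.val_mul, mul_inv_cancel, Units.val_one,
          Matrix.one_mulVec]⟩
    rw [hT', Matrix.mulVec_mulVec, ← Units.val_mul, inv_mul_cancel_right, Units.val_mul,
      ← Matrix.mulVec_mulVec, hmap, hTm]
    have e : (τ ∘ (z + B z v • v) : Fin n → F) = τ ∘ z + τ (B z v) • (τ ∘ v) := by funext i; simp
    rw [e, Matrix.mulVec_add, Matrix.mulVec_smul, hw, hsim, ← mul_assoc, inv_mul_cancel₀ hc, one_mul]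
  have hT'iso : T' ∈ isoG (1 : F ≃+* F) (S : Matrix (Fin n) (Fin n) F) := by
    intro x y
    rw [hT'm, hT'm, sesq_add_left, sesq_add_right, sesq_add_right, sesq_smul_left, sesq_smul_left,
      sesq_smul_right, sesq_smul_right]
    simp only [RingAut.one_apply, ← hB, hself, halt w y]
    ring
  have e1 := h ⟨T, hTiso⟩ ⟨T', hT'iso⟩ rfl
  obtain ⟨u, hu⟩ := (hρ (⟨T', hT'iso⟩ * ⟨T, hTiso⟩⁻¹)).mp (by rw [map_mul, map_inv, e1, mul_inv_cancel])
  have hu' : T' = Matrix.GeneralLinearGroup.scalar (Fin n) u * T := by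
    rw [← hu]
    show T' = T' * T⁻¹ * T
    rw [inv_mul_cancel_right]
  have happ : ∀ x, (T' : Matrix (Fin n) (Fin n) F) *ᵥ x = (u : F) • ((T : Matrix (Fin n) (Fin n) F) *ᵥ x) :=
    fun x => by rw [hu', Units.val_mul, ← Matrix.mulVec_mulVec, scalar_mulVec]
  obtain ⟨k, hk0, hkv, hkw⟩ := exists_perp_ne_zero (σ := (1 : F ≃+* F)) (H := (S : Matrix (Fin n) (Fin n) F)) hn v w
  have hu1 : (u : F) = 1 := by
    have e2 := happ k
    rw [hT'm, hTm, show B k w = 0 from hkw, show B k v = 0 from hkv, mul_zero, zero_smul, zero_smul,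
      add_zero] at e2
    by_contra hne
    have h3 : ((u : F) - 1) • k = 0 := by rw [sub_smul, one_smul, ← e2, sub_self]
    exact hk0 ((smul_eq_zero.mp h3).resolve_left (sub_ne_zero.mpr hne))
  obtain ⟨z, hz⟩ : ∃ z, B z v = 1 := by
    obtain ⟨i, hi⟩ : ∃ i, ((S : Matrix (Fin n) (Fin n) F) *ᵥ v) i ≠ 0 := by
      by_contra hall
      push Not at hall
      exact CfsgLib.AutPSL.mulVec_ne_zero S hv (funext hall)
    refine ⟨Pi.single i (((S : Matrix (Fin n) (Fin n) F) *ᵥ v) i)⁻¹, ?_⟩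
    show Pi.single i _ ⬝ᵥ (S : Matrix (Fin n) (Fin n) F) *ᵥ v = 1
    rw [single_dotProduct, inv_mul_cancel₀ hi]
  have e3 := happ z
  rw [hT'm, hTm, hu1, one_smul, hz, one_smul, add_right_inj] at e3
  have hne : c⁻¹ * B z w ≠ 0 := fun h0' => hv (by rw [← e3, h0', zero_smul])
  exact ⟨(c⁻¹ * B z w)⁻¹, by rw [← e3, smul_smul, inv_mul_cancel₀ hne, one_smul]⟩

end CfsgLib.Refl
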