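import Cfsg.Agent.Lib.AutPSU.Basic
import Cfsg.Agent.Lib.UnitaryEmbed.Herm
import Cfsg.Agent.Lib.Forms.Witt

/-!
Unitary transvections in `PSU_n(q)`, the unipotent radical attached to an isotropic point, transitivity
of `GU_n(q)`, and Sylow `p`-subgroups fixing an isotropic vector.
-/

set_option autoImplicit false
set_option linter.unusedSectionVars false

namespace CfsgLib.AutPSU

open Matrix Cfsg CfsgLib.ClassicalGroups

variable {n : ℕ} {F : Type*} [Field F] [Fintype F] {q : ℕ}

/-- Centre of `SU`: equality in `PSU` is equality up to a scalar. -/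
theorem exists_smul_of_mk_eq (hF : Fintype.card F = q ^ 2) {g g' : SUG n F q}
    (h : (QuotientGroup.mk g : PSUG n F q) = QuotientGroup.mk g') :
    ∃ z : F, mat g' = z • mat g := by
  rcases Nat.eq_zero_or_pos n with rfl | hn
  · exact ⟨1, Subsingleton.elim _ _⟩
  obtain ⟨z, hz⟩ : ∃ z : Subgroup.center (SUG n F q), g' = g * z.1 :=
    ⟨⟨g⁻¹ * g', QuotientGroup.eq.mp h⟩, (mul_inv_cancel_left g g').symm⟩
  refine ⟨mat z.1 ⟨0, hn⟩ ⟨0, hn⟩, ?_⟩
  have hzd : mat z.1 = mat z.1 ⟨0, hn⟩ ⟨0, hn⟩ • (1 : Mat n F) := by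
    ext i j
    rw [Matrix.smul_apply, Matrix.one_apply]
    by_cases hij : i = j
    · subst hij
      rw [if_pos rfl, smul_eq_mul, mul_one]
      exact (center_SU_scalar hF z i ⟨0, hn⟩).2
    · rw [if_neg hij, smul_zero]
      exact (center_SU_scalar hF z i j).1 hij
  rw [hz, mat_mul]
  conv_lhs => rw [hzd]
  rw [Matrix.mul_smul, mul_one]

theorem mk_eq_of_smul {g g' : SUG n F q} {z : F} (h : mat g' = z • mat g) :
    (QuotientGroup.mk g : PSUG n F q) = QuotientGroup.mk g' := by
  rw [QuotientGroup.eq, Subgroup.mem_center_iff]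
  intro k
  apply mat_injective
  simp only [mat_mul, h, Matrix.mul_smul, Matrix.smul_mul, mat_inv_mul, one_mul, mul_one]

/-- Elements fixing a common non-zero vector are equal if their classes are. -/
theorem eq_of_mk_eq (hF : Fintype.card F = q ^ 2) {g g' : SUG n F q} {v : Vec n F} (hv : v ≠ 0)
    (hg : mat g *ᵥ v = v) (hg' : mat g' *ᵥ v = v)
    (h : (QuotientGroup.mk g : PSUG n F q) = QuotientGroup.mk g') : g = g' := by
  obtain ⟨z, hz⟩ := exists_smul_of_mk_eq hF h
  have hz1 : z = 1 := by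
    have e := congrArg (fun M => M *ᵥ v) hz
    simp only [smul_mulVec, hg, hg'] at e
    exact (smul_left_injective F hv (by simpa using e.symm))
  rw [hz1, one_smul] at hz
  exact (mat_injective hz).symm

open Classical in
/-- The transvection `x ↦ x + s h(x,v) v`, when it exists. -/
noncomputable def tmat (q : ℕ) (v : Vec n F) (s : F) : SUG n F q :=
  if h : ∃ g : SUG n F q, ∀ x, mat g *ᵥ x = x + (s * hh q x v) • v then h.choose else 1

/-- The class of a transvection. -/
noncomputable def tel (q : ℕ) (v : Vec n F) (s : F) : PSUG n F q := QuotientGroup.mk (tmat q v s)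

section hFsec
variable (hF : Fintype.card F = q ^ 2)
include hF

theorem tmat_apply {v : Vec n F} (hv : hh q v v = 0) {s : F} (hs : tau hF s = -s) (x : Vec n F) :
    mat (tmat q v s) *ᵥ x = x + (s * hh q x v) • v := by
  have hex : ∃ g : SUG n F q, ∀ x, mat g *ᵥ x = x + (s * hh q x v) • v := by
    let L : Vec n F →ₗ[F] Vec n F :=
      { toFun := fun x => x + (s * hh q x v) • v
        map_add' := fun x y => by rw [h_add_left]; module
        map_smul' := fun c x => by rw [h_smul_left, RingHom.id_apply]; module }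
    have hLa : ∀ x, L x = x + (s * hh q x v) • v := fun x => rfl
    obtain ⟨g, hg⟩ := exists_su_of_nilp (q := q) L (fun x y => by
      rw [hLa, hLa, h_add_left, h_add_right hF, h_add_right hF, h_smul_left, h_smul_left,
        h_smul_right hF, h_smul_right hF, hv, map_mul, hs, h_tau hF]
      ring) (k := 2) (by
      apply LinearMap.ext; intro x
      rw [pow_two, Module.End.mul_apply, LinearMap.zero_apply]
      simp only [LinearMap.sub_apply, Module.End.one_apply, hLa, add_sub_cancel_left]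
      rw [h_smul_left, hv, mul_zero, mul_zero, zero_smul])
    exact ⟨g, fun x => (hg x).trans (hLa x)⟩
  rw [tmat, dif_pos hex]
  exact hex.choose_spec x

theorem tmat_fix {v : Vec n F} (hv : hh q v v = 0) {s : F} (hs : tau hF s = -s) :
    mat (tmat q v s) *ᵥ v = v := by
  rw [tmat_apply hF hv hs, hv, mul_zero, zero_smul, add_zero]

theorem tmat_add {v : Vec n F} (hv : hh q v v = 0) {s r : F} (hs : tau hF s = -s)
    (hr : tau hF r = -r) : tmat q v (s + r) = tmat q v s * tmat q v r := by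
  refine mat_ext fun x => ?_
  rw [mat_mul, ← mulVec_mulVec, tmat_apply hF hv (by rw [map_add, hs, hr]; ring), tmat_apply hF hv hr,
    mulVec_add, mulVec_smul, tmat_fix hF hv hs, tmat_apply hF hv hs]
  module

theorem tmat_zero {v : Vec n F} (hv : hh q v v = 0) : tmat q v (0 : F) = 1 := by
  refine mat_ext fun x => ?_
  rw [tmat_apply hF hv (by simp), zero_mul, zero_smul, add_zero, mat_one, one_mulVec]

theorem tmat_smul {v : Vec n F} (hv : hh q v v = 0) {s : F} (hs : tau hF s = -s) (c : F) :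
    tmat q (c • v) s = tmat q v (s * (c * tau hF c)) := by
  refine mat_ext fun x => ?_
  rw [tmat_apply hF (by rw [h_smul_left, h_smul_right hF, hv, mul_zero, mul_zero]) hs,
    tmat_apply hF hv (by rw [map_mul, map_mul, tau_tau, hs]; ring), h_smul_right hF, smul_smul]
  congr 2
  ring

theorem suConj_tmat (g : GUG n F q) {v : Vec n F} (hv : hh q v v = 0) {s : F}
    (hs : tau hF s = -s) : suConj g (tmat q v s) = tmat q ((g.1 : Mat n F) *ᵥ v) s := by
  refine mat_ext fun x => ?_
  rw [suConj_mat, ← mulVec_mulVec, ← mulVec_mulVec, tmat_apply hF hv hs, mulVec_add, mulVec_smul,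
    gl_mulVec_inv, tmat_apply hF (by rw [h_gu, hv]) hs]
  congr 3
  have := h_gu g (((g.1⁻¹ : GL (Fin n) F) : Mat n F) *ᵥ x) v
  rw [gl_mulVec_inv] at this
  exact this.symm

theorem tel_add {v : Vec n F} (hv : hh q v v = 0) {s r : F} (hs : tau hF s = -s)
    (hr : tau hF r = -r) : tel q v (s + r) = tel q v s * tel q v r := by
  rw [tel, tel, tel, tmat_add hF hv hs hr]; rfl

theorem tel_zero {v : Vec n F} (hv : hh q v v = 0) : tel q v (0 : F) = 1 := by
  rw [tel, tmat_zero hF hv]; rfl

theorem tel_smul {v : Vec n F} (hv : hh q v v = 0) {s : F} (hs : tau hF s = -s) (c : F) :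
    tel q (c • v) s = tel q v (s * (c * tau hF c)) := by rw [tel, tel, tmat_smul hF hv hs]

theorem conjU_tel (g : GUG n F q) {v : Vec n F} (hv : hh q v v = 0) {s : F}
    (hs : tau hF s = -s) : conjU g (tel q v s) = tel q ((g.1 : Mat n F) *ᵥ v) s := by
  rw [tel, conjU_mk, suConj_tmat hF g hv hs]; rfl

theorem tel_conj (a : SUG n F q) {v : Vec n F} (hv : hh q v v = 0) {s : F} (hs : tau hF s = -s) :
    MulAut.conj (QuotientGroup.mk a : PSUG n F q) (tel q v s) = tel q (mat a *ᵥ v) s := by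
  rw [← conjU_su, conjU_tel hF _ hv hs, suToGU_coe]

theorem fieldU_tel (σ : F ≃+* F) {v : Vec n F} (hv : hh q v v = 0) {s : F}
    (hs : tau hF s = -s) : fieldU σ (tel q v s) = tel q (σ ∘ v) (σ s) := by
  rw [tel, fieldU_mk, tel]
  refine congrArg _ (mat_ext fun x => ?_)
  have hx : x = σ ∘ (σ.symm ∘ x) := by ext; simp
  rw [suField_mat, hx, map_mulVec, tmat_apply hF hv hs,
    tmat_apply hF (by rw [← h_map, hv, map_zero]) (by rw [← tau_map hF, hs, map_neg]), ← h_map]
  funext i; simp

/-- Transvection classes in a common root group lie on the same line. -/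
theorem tel_eq {v w : Vec n F} (hv : hh q v v = 0) (hv0 : v ≠ 0) (hw : hh q w w = 0) {s r : F}
    (hs : tau hF s = -s) (hs0 : s ≠ 0) (hr : tau hF r = -r) (h : tel q v s = tel q w r) :
    ∃ c : F, v = c • w := by
  obtain ⟨z, hz⟩ := exists_smul_of_mk_eq hF h
  have hx : ∀ x, x + (r * hh q x w) • w = z • (x + (s * hh q x v) • v) := fun x => by
    have := congrArg (fun M => M *ᵥ x) hz
    simpa only [smul_mulVec, tmat_apply hF hv hs, tmat_apply hF hw hr] using this
  by_cases hz1 : z = 1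
  · obtain ⟨x, hxv⟩ := exists_h_ne_zero hF hv0
    have := hx x
    rw [hz1, one_smul, add_right_inj] at this
    refine ⟨(s * hh q x v)⁻¹ * (r * hh q x w), ?_⟩
    rw [mul_smul, this, smul_smul, inv_mul_cancel₀ (mul_ne_zero hs0 hxv), one_smul]
  · have h1 := hx v
    rw [hv, mul_zero, zero_smul, add_zero] at h1
    refine ⟨(z - 1)⁻¹ * (r * hh q v w), ?_⟩
    rw [mul_smul, show (r * hh q v w) • w = (z - 1) • v by rw [sub_smul, one_smul, ← h1]; abel,
      smul_smul, inv_mul_cancel₀ (sub_ne_zero.mpr hz1), one_smul]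

theorem tel_injective {v : Vec n F} (hv : hh q v v = 0) (hv0 : v ≠ 0) {s r : F}
    (hs : tau hF s = -s) (hr : tau hF r = -r) (h : tel q v s = tel q v r) : s = r := by
  have h' := eq_of_mk_eq hF hv0 (tmat_fix hF hv hs) (tmat_fix hF hv hr) h
  obtain ⟨x, hx⟩ := exists_h_ne_zero hF hv0
  have e := congrArg (fun g : SUG n F q => mat g *ᵥ x) h'
  simp only [tmat_apply hF hv hs, tmat_apply hF hv hr, add_right_inj] at e
  exact mul_right_cancel₀ hx (smul_left_injective F hv0 e)

theorem tel_ne_one {v : Vec n F} (hv : hh q v v = 0) (hv0 : v ≠ 0) {s : F}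
    (hs : tau hF s = -s) (hs0 : s ≠ 0) : tel q v s ≠ 1 := fun h =>
  hs0 (tel_injective hF hv hv0 hs (by simp) (h.trans (tel_zero hF hv).symm))

theorem commute_tel_iff {v w : Vec n F} (hv : hh q v v = 0) (hv0 : v ≠ 0) (hw : hh q w w = 0)
    (hw0 : w ≠ 0) {s r : F} (hs : tau hF s = -s) (hs0 : s ≠ 0) (hr : tau hF r = -r) (hr0 : r ≠ 0) :
    Commute (tel q v s) (tel q w r) ↔ hh q v w = 0 := by
  constructor
  · intro hc
    have h1 : MulAut.conj (tel q v s) (tel q w r) = tel q w r := by
      rw [MulAut.conj_apply, hc.eq, mul_inv_cancel_right]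
    rw [tel, ← tel, show tel q v s = (QuotientGroup.mk (tmat q v s) : PSUG n F q) from rfl,
      tel_conj hF _ hw hr, tmat_apply hF hv hs] at h1
    have hiso : hh q (w + (s * hh q w v) • v) (w + (s * hh q w v) • v) = 0 := by
      rw [← tmat_apply hF hv hs, h_mat, hw]
    have hne : w + (s * hh q w v) • v ≠ 0 := by
      rw [← tmat_apply hF hv hs]
      intro h0
      apply hw0
      have := congrArg (mat (tmat q v s)⁻¹ *ᵥ ·) h0
      simpa only [inv_mat_mulVec, mulVec_zero] using this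
    obtain ⟨c, hcw⟩ := tel_eq hF hiso hne hw hr hr0 hr h1
    by_contra hvw
    have e := congrArg (fun x => hh q x w) hcw
    simp only [h_add_left, h_smul_left, hw, mul_zero, zero_add] at e
    have hwv : hh q w v ≠ 0 := fun e' => hvw (by rw [← h_tau hF w v, e', map_zero])
    exact mul_ne_zero (mul_ne_zero hs0 hwv) hvw e
  · intro h
    have h' : hh q w v = 0 := by rw [← h_tau hF v w, h, map_zero]
    have : Commute (tmat q v s) (tmat q w r) := by
      refine mat_ext fun x => ?_
      simp only [mat_mul, ← mulVec_mulVec, tmat_apply hF hv hs, tmat_apply hF hw hr, h_add_left,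
        h_smul_left, h, h', mul_zero, add_zero]
      module
    exact this.map (QuotientGroup.mk' _)

/-- Existence of an isotropic partner. -/
theorem exists_pair {v : Vec n F} (hv : hh q v v = 0) (hv0 : v ≠ 0) :
    ∃ u, hh q u u = 0 ∧ hh q u v = 1 := by
  obtain ⟨x, hx⟩ := exists_h_ne_zero hF hv0
  obtain ⟨y, hyv⟩ : ∃ y, hh q y v = 1 :=
    ⟨(hh q x v)⁻¹ • x, by rw [h_smul_left, inv_mul_cancel₀ hx]⟩
  have hvy : hh q v y = 1 := by rw [← h_tau hF y v, hyv, map_one]
  obtain ⟨e, he⟩ := exists_trace hF (b := -hh q y y) (by rw [map_neg, h_self_fixed hF])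
  refine ⟨y + e • v, ?_, by rw [h_add_left, h_smul_left, hv, hyv, mul_zero, add_zero]⟩
  rw [h_add_left, h_add_right hF, h_add_right hF, h_smul_left, h_smul_left, h_smul_right hF,
    h_smul_right hF, hv, hyv, hvy]
  linear_combination he

/-- Transitivity of `GU` on families with the same Gram matrix. -/
theorem exists_gu_family {k : ℕ} (x y : Fin k → Vec n F) (hx : LinearIndependent F x)
    (hy : LinearIndependent F y) (h : ∀ i j, hh q (x i) (x j) = hh q (y i) (y j)) :
    ∃ g : GUG n F q, ∀ i, (g.1 : Mat n F) *ᵥ x i = y i := by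
  let τ : F →+* F := (tau hF).toRingHom
  have hτ : ∀ a, τ a = a ^ q := tau_apply hF
  have hne : τ ≠ RingHom.id F := by
    obtain ⟨a, ha⟩ := tau_ne hF
    exact fun e => ha (RingHom.congr_fun e a)
  obtain ⟨g, hg, hgx⟩ := CfsgLib.Forms.herm_witt_family (CfsgLib.UnitaryEmbed.hermSesq n τ) hne
    (tau_tau hF) (CfsgLib.UnitaryEmbed.hermSesq_symm τ (tau_tau hF))
    (CfsgLib.UnitaryEmbed.hermSesq_separatingLeft τ) x y hx hy
    (fun i j => by
      rw [CfsgLib.UnitaryEmbed.hermSesq_apply τ hτ, CfsgLib.UnitaryEmbed.hermSesq_apply τ hτ]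
      exact h j i)
  have hp : ∀ a b, Cfsg.hermForm n F q (g a) (g b) = Cfsg.hermForm n F q a b := fun a b => by
    rw [← CfsgLib.UnitaryEmbed.hermSesq_apply τ hτ, hg, CfsgLib.UnitaryEmbed.hermSesq_apply τ hτ]
  exact ⟨CfsgLib.UnitaryEmbed.toGU g hp, fun i =>
    (CfsgLib.UnitaryEmbed.toGU_mulVec g hp (x i)).trans (hgx i)⟩

/-- `GU` is transitive on isotropic vectors. -/
theorem exists_gu_isotropic {v w : Vec n F} (hv : hh q v v = 0) (hv0 : v ≠ 0) (hw : hh q w w = 0)
    (hw0 : w ≠ 0) : ∃ g : GUG n F q, (g.1 : Mat n F) *ᵥ v = w := by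
  obtain ⟨g, hg⟩ := exists_gu_family hF ![v] ![w] (LinearIndependent.of_subsingleton 0 hv0)
    (LinearIndependent.of_subsingleton 0 hw0)
    (fun i j => by fin_cases i; fin_cases j; simpa using hv.trans hw.symm)
  exact ⟨g, hg 0⟩

end hFsec

/-- `g` fixes `v` and is trivial on `v⊥` modulo `v`. -/
def IsQ (v : Vec n F) (g : SUG n F q) : Prop :=
  mat g *ᵥ v = v ∧ ∀ x, hh q x v = 0 → ∃ c : F, mat g *ᵥ x = x + c • v

theorem isQ_one (v : Vec n F) : IsQ v (1 : SUG n F q) :=
  ⟨by rw [mat_one, one_mulVec], fun x _ => ⟨0, by rw [mat_one, one_mulVec, zero_smul, add_zero]⟩⟩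

theorem isQ_mul {v : Vec n F} {g g' : SUG n F q} (h : IsQ v g) (h' : IsQ v g') : IsQ v (g * g') := by
  refine ⟨by rw [mat_mul, ← mulVec_mulVec, h'.1, h.1], fun x hx => ?_⟩
  obtain ⟨c', hc'⟩ := h'.2 x hx
  obtain ⟨c, hc⟩ := h.2 x hx
  exact ⟨c + c', by rw [mat_mul, ← mulVec_mulVec, hc', mulVec_add, mulVec_smul, h.1, hc]; module⟩

/-- The unipotent radical of the stabilizer of an isotropic vector. -/
def radQ (v : Vec n F) : Subgroup (SUG n F q) :=
  let M : Submonoid (SUG n F q) :=
    { carrier := {g | IsQ v g}, mul_mem' := isQ_mul, one_mem' := isQ_one v }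
  { M with
    inv_mem' := fun {s} hs => by
      obtain ⟨k, hk⟩ : ∃ k : ℕ, s⁻¹ = s ^ k :=
        ⟨orderOf s - 1, inv_eq_of_mul_eq_one_right (by
          rw [← pow_succ', Nat.sub_add_cancel (orderOf_pos s), pow_orderOf_eq_one])⟩
      rw [hk]; exact M.pow_mem hs k }

theorem mem_radQ {v : Vec n F} {g : SUG n F q} : g ∈ radQ v ↔ IsQ v g := Iff.rfl

theorem isQ_conj {v : Vec n F} {g : SUG n F q} (A : GUG n F q) (h : IsQ v g) :
    IsQ ((A.1 : Mat n F) *ᵥ v) (suConj A g) := by
  refine ⟨by rw [suConj_mat, ← mulVec_mulVec, ← mulVec_mulVec, gl_inv_mulVec, h.1], fun x hx => ?_⟩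
  obtain ⟨c, hc⟩ := h.2 (((A.1⁻¹ : GL (Fin n) F) : Mat n F) *ᵥ x)
    (by rw [← h_gu A, gl_mulVec_inv, hx])
  refine ⟨c, ?_⟩
  rw [suConj_mat, ← mulVec_mulVec, ← mulVec_mulVec, hc, mulVec_add, mulVec_smul, gl_mulVec_inv]

section hFsec
variable (hF : Fintype.card F = q ^ 2)
include hF

theorem isQ_smul {v : Vec n F} {g : SUG n F q} {c : F} (hc : c ≠ 0) (h : IsQ v g) : IsQ (c • v) g := by
  refine ⟨by rw [mulVec_smul, h.1], fun x hx => ?_⟩
  rw [h_smul_right hF] at hx
  obtain ⟨k, hk⟩ := h.2 x ((mul_eq_zero.mp hx).resolve_left (by simpa using hc))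
  exact ⟨k * c⁻¹, by rw [hk, smul_smul, inv_mul_cancel_right₀ hc]⟩

theorem isQ_tmat {v : Vec n F} (hv : hh q v v = 0) {s : F} (hs : tau hF s = -s) :
    IsQ v (tmat q v s) :=
  ⟨tmat_fix hF hv hs, fun x hx => ⟨0, by rw [tmat_apply hF hv hs, hx, mul_zero]⟩⟩

/-- The elements `x ↦ x + h(x,v) w + (a h(x,v) - h(x,w)) v` of the radical. -/
theorem exists_eichler {v w : Vec n F} (hv : hh q v v = 0) (hw : hh q w v = 0) {a : F}
    (ha : a + tau hF a + hh q w w = 0) :
    ∃ g : SUG n F q, IsQ v g ∧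
      ∀ x, mat g *ᵥ x = x + hh q x v • w + (a * hh q x v - hh q x w) • v := by
  let L : Vec n F →ₗ[F] Vec n F :=
    { toFun := fun x => x + hh q x v • w + (a * hh q x v - hh q x w) • v
      map_add' := fun x y => by rw [h_add_left, h_add_left]; module
      map_smul' := fun c x => by rw [h_smul_left, h_smul_left, RingHom.id_apply]; module }
  have hLa : ∀ x, L x = x + hh q x v • w + (a * hh q x v - hh q x w) • v := fun x => rfl
  have hvw : hh q v w = 0 := by rw [← h_tau hF w v, hw, map_zero]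
  obtain ⟨g, hg⟩ := exists_su_of_nilp (q := q) L (fun x y => by
    simp only [hLa, h_add_left, h_add_right hF, h_smul_left, h_smul_right hF, hv, hw, hvw, map_sub,
      map_mul, h_tau hF]
    linear_combination (hh q x v * hh q v y) * ha) (k := 3) (by
    apply LinearMap.ext; intro x
    have e : ∀ y, (L - 1) y = hh q y v • w + (a * hh q y v - hh q y w) • v := fun y => by
      rw [LinearMap.sub_apply, Module.End.one_apply, hLa]; abel
    have ev : (L - 1) v = 0 := by rw [e, hv, hvw]; simp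
    have ew : (L - 1) w = (-hh q w w) • v := by rw [e, hw]; simp
    rw [pow_succ', pow_two, Module.End.mul_apply, Module.End.mul_apply, LinearMap.zero_apply, e x,
      map_add, map_smul, map_smul, ev, ew, smul_zero, add_zero, map_smul, map_smul, ev, smul_zero,
      smul_zero])
  refine ⟨g, ⟨by rw [hg, hLa, hv, hvw]; simp, fun x hx => ⟨-hh q x w, by rw [hg, hLa, hx]; simp⟩⟩,
    fun x => (hg x).trans (hLa x)⟩

/-- What commutes with the radical and fixes `v` is a transvection along `v`. -/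
theorem eq_tmat_of_commute {v : Vec n F} (hv : hh q v v = 0) (hv0 : v ≠ 0) {g : SUG n F q}
    (hg : mat g *ᵥ v = v) (hc : ∀ u, IsQ v u → Commute g u) :
    ∃ s, tau hF s = -s ∧ g = tmat q v s := by
  obtain ⟨u, huu, huv⟩ := exists_pair hF hv hv0
  have hvu : hh q v u = 1 := by rw [← h_tau hF u v, huv, map_one]
  have hk : ∀ w, hh q w v = 0 → ∃ k, tau hF k = k ∧ mat g *ᵥ w = w + k • v := by
    intro w hw
    obtain ⟨a, ha⟩ := exists_trace hF (b := -hh q w w) (by rw [map_neg, h_self_fixed hF])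
    obtain ⟨E, hE, hEx⟩ := exists_eichler hF hv hw (a := a) (by rw [ha]; ring)
    have hgv : ∀ x, hh q (mat g *ᵥ x) v = hh q x v := fun x => by
      conv_lhs => rw [← hg]
      exact h_mat g x v
    have key : ∀ x, hh q x v • (mat g *ᵥ w - w) = (hh q x w - hh q (mat g *ᵥ x) w) • v := by
      intro x
      have e := congrArg (fun M : SUG n F q => mat M *ᵥ x) (hc E hE).eq
      simp only [mat_mul, ← mulVec_mulVec, hEx, mulVec_add, mulVec_smul, hg, hgv] at e
      linear_combination (norm := module) e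
    set k := hh q u w - hh q (mat g *ᵥ u) w with hkdef
    have e1 : mat g *ᵥ w - w = k • v := by
      have := key u
      rwa [huv, one_smul] at this
    refine ⟨k, ?_, sub_eq_iff_eq_add'.mp e1⟩
    have h1 := key (mat g⁻¹ *ᵥ u)
    rw [← hgv (mat g⁻¹ *ᵥ u), mat_inv_mulVec, huv, one_smul, e1] at h1
    have h2 := smul_left_injective F hv0 h1
    have h3 : hh q (mat g⁻¹ *ᵥ u) w = hh q u w + tau hF k := by
      rw [← h_mat g, mat_inv_mulVec, sub_eq_iff_eq_add'.mp e1, h_add_right hF, h_smul_right hF, huv,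
        mul_one]
    rw [h3] at h2
    linear_combination -h2
  have hfix : ∀ w, hh q w v = 0 → mat g *ᵥ w = w := by
    intro w hw
    obtain ⟨k, hk1, hk2⟩ := hk w hw
    obtain ⟨a, ha⟩ := tau_ne hF
    obtain ⟨k', hk1', hk2'⟩ := hk (a • w) (by rw [h_smul_left, hw, mul_zero])
    rw [mulVec_smul, hk2, smul_add, smul_smul] at hk2'
    have e := smul_left_injective F hv0 (add_left_cancel hk2')
    by_cases hk0 : k = 0
    · rw [hk2, hk0, zero_smul, add_zero]
    · refine absurd ?_ ha
      have e' := congrArg (tau hF) e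
      rw [map_mul, hk1, hk1', ← e] at e'
      exact mul_right_cancel₀ hk0 e'
  set d := mat g *ᵥ u - u with hd
  have hdorth : ∀ w, hh q w v = 0 → hh q w d = 0 := fun w hw => by
    rw [hd, h_sub_right hF]
    conv_lhs => arg 1; rw [← hfix w hw]
    rw [h_mat, sub_self]
  have hd' : ∀ x, hh q x d = hh q x v * hh q u d := fun x => by
    have := hdorth (x - hh q x v • u) (by rw [h_sub_left, h_smul_left, huv, mul_one, sub_self])
    rw [h_sub_left, h_smul_left] at this
    linear_combination this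
  set s := tau hF (hh q u d) with hs
  have hdv : d = s • v := eq_of_h_eq hF fun x => by
    rw [hd', h_smul_right hF, hs, tau_tau, mul_comm]
  have hgu : mat g *ᵥ u = u + s • v := by rw [← hdv, hd, add_sub_cancel]
  have hskew : tau hF s = -s := by
    have := h_mat g u u
    rw [hgu, h_add_left, h_add_right hF, h_add_right hF, h_smul_left, h_smul_left, h_smul_right hF,
      h_smul_right hF, huu, huv, hvu, hv] at this
    linear_combination this
  refine ⟨s, hskew, mat_ext fun x => ?_⟩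
  rw [tmat_apply hF hv hskew]
  have e := hfix (x - hh q x v • u) (by rw [h_sub_left, h_smul_left, huv, mul_one, sub_self])
  rw [mulVec_sub, mulVec_smul, hgu, sub_eq_iff_eq_add] at e
  rw [e]
  module

theorem isPGroup_radQ {p : ℕ} [Fact p.Prime] [CharP F p] {v : Vec n F} :
    IsPGroup p (radQ (q := q) v) := by
  intro g
  refine ⟨2, Subtype.ext ?_⟩
  apply mat_injective
  rcases Nat.eq_zero_or_pos n with hn | hn
  · subst hn; exact Subsingleton.elim _ _
  have : Nonempty (Fin n) := ⟨⟨0, hn⟩⟩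
  set A := mat g.1 with hA
  have hv : A *ᵥ v = v := g.2.1
  have h3 : (A - 1) ^ 3 = 0 := by
    apply Matrix.ext_of_mulVec_single
    intro j
    generalize (Pi.single j 1 : Vec n F) = x
    have e : ∀ y, (A - 1) *ᵥ y = A *ᵥ y - y := fun y => by rw [sub_mulVec, one_mulVec]
    have h1 : hh q ((A - 1) *ᵥ x) v = 0 := by
      rw [e, h_sub_left]
      conv_lhs => arg 1; rw [← hv, hA, h_mat]
      rw [sub_self]
    obtain ⟨c, hc⟩ := g.2.2 _ h1
    rw [pow_succ', pow_two, ← mulVec_mulVec, ← mulVec_mulVec, e ((A - 1) *ᵥ x), hA, hc,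
      add_sub_cancel_left, ← hA, mulVec_smul, e, hv, sub_self, smul_zero, zero_mulVec]
  have h4 : A ^ p ^ 2 = 1 := by
    have e := add_pow_char_pow_of_commute p 2 (Commute.one_right (A - 1))
    rw [sub_add_cancel, one_pow, pow_eq_zero_of_le (by
      have := (Fact.out : p.Prime).two_le; nlinarith) h3, zero_add] at e
    exact e
  have hpow : ∀ (s : SUG n F q) (k : ℕ), mat (s ^ k) = mat s ^ k := fun s k => by
    induction k with
    | zero => simp [mat_one]
    | succ k ih => rw [pow_succ, mat_mul, ih, pow_succ]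
  show mat ((g ^ p ^ 2 : radQ (q := q) v) : SUG n F q) = mat 1
  rw [Subgroup.coe_pow, hpow, mat_one]
  exact h4

theorem radQ_normalized {v : Vec n F} {s : SUG n F q} (hs : mat s *ᵥ v = v) :
    s ∈ Subgroup.normalizer (radQ (q := q) v : Set (SUG n F q)) := by
  have key : ∀ t : SUG n F q, mat t *ᵥ v = v → ∀ g, IsQ v g → IsQ v (t * g * t⁻¹) := by
    intro t ht g hg
    have := isQ_conj (suToGU t) hg
    rw [suToGU_coe, ht] at this
    convert this using 1
    apply mat_injective
    rw [suConj_mat, show ((suToGU t).1)⁻¹ = (suToGU t⁻¹).1 from by rw [map_inv]; rfl]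
    rfl
  rw [Subgroup.mem_normalizer_iff]
  intro g
  refine ⟨fun h => key s hs g h, fun h => ?_⟩
  have hs' : mat s⁻¹ *ᵥ v = v := by conv_lhs => rw [← hs, inv_mat_mulVec]
  have := key s⁻¹ hs' _ h
  simpa [mul_assoc, mem_radQ] using this

/-- A Sylow subgroup fixing `v`, with the radical inside. -/
theorem exists_sylow_fixing {p : ℕ} [Fact p.Prime] [CharP F p] (hn : 2 ≤ n) {v : Vec n F}
    (hv : hh q v v = 0) (hv0 : v ≠ 0) :
    ∃ P : Sylow p (SUG n F q), ∀ g ∈ P, mat g *ᵥ v = v := by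
  classical
  let N := {x : Vec n F // hh q x x = 0 ∧ x ≠ 0}
  have hcard : ¬ p ∣ Nat.card N := by
    obtain ⟨m, rfl⟩ : ∃ m, n = m + 1 := ⟨n - 1, by omega⟩
    have h0 := herm_count_zero hF m
    have e : Nat.card {x : Vec (m + 1) F // Cfsg.hermForm (m + 1) F q x x = 0} = Nat.card N + 1 := by
      rw [Nat.card_eq_fintype_card, Nat.card_eq_fintype_card, Fintype.card_subtype, Fintype.card_subtype,
        ← Finset.card_erase_add_one (a := (0 : Vec (m + 1) F))
          (Finset.mem_filter.mpr ⟨Finset.mem_univ _, h_zero_left _⟩)]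
      congr 2
      ext x; simp [hh, and_comm]
    obtain ⟨p', k, hp', hc', hq⟩ := herm_exists_prime_pow hF
    have hpp : p' = p := CharP.eq F hc' (by assumption)
    rw [hpp] at hp' hq
    have hq2 := herm_two_le hF
    have hk : k ≠ 0 := by rintro rfl; simp [hq] at hq2
    have hpq : p ∣ q := hq ▸ dvd_pow_self p hk
    rw [e, Nat.add_right_cancel_iff] at h0
    rw [h0]
    have hpa : ∀ i, i ≠ 0 → ¬ p ∣ q ^ i + 1 := fun i hi hd => hp'.one_lt.ne'
      (Nat.dvd_one.mp ((Nat.dvd_add_right (hpq.trans (dvd_pow_self q hi))).mp hd))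
    have hpb : ∀ i, i ≠ 0 → ¬ p ∣ q ^ i - 1 := fun i hi hd => hp'.one_lt.ne'
      (Nat.dvd_one.mp (by
        have h1 : 1 ≤ q ^ i := Nat.one_le_pow _ _ (by omega)
        have := Nat.dvd_sub (hpq.trans (dvd_pow_self q hi)) hd
        rwa [Nat.sub_sub_self h1] at this))
    split_ifs <;> rw [hp'.dvd_mul] <;> rintro (h | h)
    · exact hpa _ (by omega) h
    · exact hpb _ (by omega) h
    · exact hpb _ (by omega) h
    · exact hpa _ (by omega) h
  obtain ⟨P⟩ : Nonempty (Sylow p (SUG n F q)) := inferInstance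
  let act : MulAction ↥(P : Subgroup (SUG n F q)) N :=
    { smul := fun g x => ⟨mat g.1 *ᵥ x.1, (h_mat g.1 _ _).trans x.2.1, fun h => x.2.2 (by
        have := congrArg (mat g.1⁻¹ *ᵥ ·) h
        simpa only [inv_mat_mulVec, mulVec_zero] using this)⟩
      one_smul := fun x => Subtype.ext (by
        show mat (1 : SUG n F q) *ᵥ x.1 = x.1
        rw [mat_one, one_mulVec])
      mul_smul := fun g g' x => Subtype.ext (mulVec_mulVec x.1 (mat g.1) (mat g'.1)).symm }
  obtain ⟨x, hx⟩ := P.isPGroup'.nonempty_fixed_point_of_prime_not_dvd_card N hcard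
  obtain ⟨A, hA⟩ := exists_gu_isotropic hF x.2.1 x.2.2 hv hv0
  refine ⟨P.mapSurjective (f := (suConj A).toMonoidHom) (suConj A).surjective, ?_⟩
  rintro _ ⟨g, hg, rfl⟩
  have hgx : mat g *ᵥ x.1 = x.1 := congrArg Subtype.val (hx ⟨g, hg⟩)
  show mat (suConj A g) *ᵥ v = v
  rw [suConj_mat, ← mulVec_mulVec, ← mulVec_mulVec, ← hA, gl_inv_mulVec, hgx]

theorem radQ_le_of_fixing {p : ℕ} [Fact p.Prime] [CharP F p] {v : Vec n F}
    (P : Sylow p (SUG n F q)) (hP : ∀ g ∈ P, mat g *ᵥ v = v) :
    radQ (q := q) v ≤ (P : Subgroup (SUG n F q)) := by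
  have hsup : IsPGroup p ↥((P : Subgroup (SUG n F q)) ⊔ radQ (q := q) v) :=
    P.isPGroup'.to_sup_of_normal_right' (isPGroup_radQ hF) fun g hg => radQ_normalized hF (hP g hg)
  exact le_sup_right.trans (P.is_maximal' hsup le_sup_left).le

end hFsec

end CfsgLib.AutPSU
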